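import Mathlib
import Groth.Prelude.Def_Found
import Groth.Prelude.Def_Smoothing
import Groth.Agent.S2026
import Groth.Agent.Desing.Resolve
import Groth.Agent.GRingCpl.Main

/-!
Generalities for the smoothing theorem: localisation of geometric regularity, composition of smooth loci,
the retraction trick and Jacobian elements of complete presentations.
-/

set_option autoImplicit false
set_option linter.style.haveILetI false

universe u

namespace Groth.Agent.Popescu

open TensorProduct

theorem isRegularRing_of_geomRegular (k S : Type u) [Field k] [CommRing S] [Algebra k S]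
    (h : CAlg.IsGeometricallyRegular k S) : IsRegularRing S :=
  haveI := h k inferInstance
  IsRegularRing.of_ringEquiv (Algebra.TensorProduct.lid k S).toRingEquiv

theorem geomRegular_of_algEquiv {k S S' : Type u} [Field k] [CommRing S] [Algebra k S] [CommRing S'] [Algebra k S']
    (e : S ≃ₐ[k] S') (h : CAlg.IsGeometricallyRegular k S) : CAlg.IsGeometricallyRegular k S' := fun k' _ _ hfin =>
  haveI := h k' hfin
  IsRegularRing.of_ringEquiv (Algebra.TensorProduct.congr (AlgEquiv.refl (A₁ := k') (R := k)) e).toRingEquiv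

theorem geomRegular_localization {k S : Type u} [Field k] [CommRing S] [Algebra k S] (M : Submonoid S)
    (L : Type u) [CommRing L] [Algebra S L] [Algebra k L] [IsScalarTower k S L] [IsLocalization M L]
    (h : CAlg.IsGeometricallyRegular k S) : CAlg.IsGeometricallyRegular k L := fun k' _ _ hfin => by
  haveI := h k' hfin
  haveI : IsRegularRing (S ⊗[k] k') := IsRegularRing.of_ringEquiv (Algebra.TensorProduct.comm k k' S).toRingEquiv
  let f : S ⊗[k] k' →ₐ[k] L ⊗[k] k' := Algebra.TensorProduct.map (IsScalarTower.toAlgHom k S L) (AlgHom.id k k')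
  letI : Algebra (S ⊗[k] k') (L ⊗[k] k') := f.toRingHom.toAlgebra
  haveI : IsScalarTower S (S ⊗[k] k') (L ⊗[k] k') := IsScalarTower.of_algebraMap_eq fun s => by
    show algebraMap S L s ⊗ₜ[k] (1 : k') = f (s ⊗ₜ 1)
    rfl
  haveI : IsLocalization (Algebra.algebraMapSubmonoid (S ⊗[k] k') M) (L ⊗[k] k') :=
    IsLocalization.tensorProduct_tensorProduct k k' M L (RingHom.ext fun c => by
      show f (1 ⊗ₜ c) = 1 ⊗ₜ c
      exact congrArg (· ⊗ₜ[k] c) (map_one (algebraMap S L)))
  haveI : IsRegularRing (L ⊗[k] k') :=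
    GRingCpl.isRegularRing_localization (Algebra.algebraMapSubmonoid (S ⊗[k] k') M) _
  exact IsRegularRing.of_ringEquiv (Algebra.TensorProduct.comm k L k').toRingEquiv

theorem isSmoothAt_trans {R S B : Type u} [CommRing R] [CommRing S] [CommRing B] [Algebra R S] [Algebra S B]
    [Algebra R B] [IsScalarTower R S B] (Q : Ideal B) [Q.IsPrime]
    [Algebra.IsSmoothAt R (Q.comap (algebraMap S B))] [Algebra.IsSmoothAt S Q] : Algebra.IsSmoothAt R Q := by
  let p := Q.comap (algebraMap S B)
  letI : Algebra (Localization.AtPrime p) (Localization.AtPrime Q) :=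
    (Localization.localRingHom p Q (algebraMap S B) rfl).toAlgebra
  haveI : IsScalarTower S (Localization.AtPrime p) (Localization.AtPrime Q) :=
    IsScalarTower.of_algebraMap_eq fun x =>
      (IsScalarTower.algebraMap_apply S B (Localization.AtPrime Q) x).trans
        (Localization.localRingHom_to_map p Q (algebraMap S B) rfl x).symm
  haveI : IsScalarTower R (Localization.AtPrime p) (Localization.AtPrime Q) :=
    IsScalarTower.of_algebraMap_eq fun x => by
      rw [IsScalarTower.algebraMap_apply R S (Localization.AtPrime p),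
        ← IsScalarTower.algebraMap_apply S (Localization.AtPrime p) (Localization.AtPrime Q),
        ← IsScalarTower.algebraMap_apply]
  haveI : Algebra.FormallySmooth S (Localization.AtPrime Q) := ‹Algebra.IsSmoothAt S Q›
  haveI : Algebra.FormallySmooth R (Localization.AtPrime p) := ‹Algebra.IsSmoothAt R (Q.comap (algebraMap S B))›
  haveI : Algebra.FormallyEtale S (Localization.AtPrime p) :=
    Algebra.FormallyEtale.of_isLocalization p.primeCompl
  haveI : Algebra.FormallySmooth (Localization.AtPrime p) (Localization.AtPrime Q) :=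
    Algebra.FormallySmooth.of_restrictScalars S _ _
  exact Algebra.FormallySmooth.comp R (Localization.AtPrime p) (Localization.AtPrime Q)

theorem mul_mem_singularIdeal {k R B : Type u} [CommRing k] [CommRing R] [CommRing B] [Algebra k R] [Algebra R B]
    [Algebra k B] [IsScalarTower k R B] {c : B} (hc : c ∈ Smoothing.singularIdeal R B) {r : R}
    (hr : r ∈ Smoothing.singularIdeal k R) : c * algebraMap R B r ∈ Smoothing.singularIdeal k B := by
  rw [Smoothing.singularIdeal, PrimeSpectrum.mem_vanishingIdeal] at hc hr ⊢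
  intro Q hQ
  by_contra h
  haveI : Algebra.IsSmoothAt R Q.asIdeal := by
    by_contra h'
    exact h (Ideal.mul_mem_right _ _ (hc Q h'))
  haveI : Algebra.IsSmoothAt k (Q.asIdeal.comap (algebraMap R B)) := by
    by_contra h'
    exact h (Ideal.mul_mem_left _ _ (hr ⟨_, Ideal.comap_isPrime (algebraMap R B) Q.asIdeal⟩ h'))
  exact hQ (isSmoothAt_trans (R := k) (S := R) Q.asIdeal)

/-- An algebra whose singular ideal extends to the unit ideal can be replaced by a smooth one. -/
theorem exists_smooth_of_map_eq_top {R B Λ : Type u} [CommRing R] [CommRing B] [Algebra R B]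
    [Algebra.FinitePresentation R B] [CommRing Λ] [Algebra R Λ] (h : B →ₐ[R] Λ)
    (htop : (Smoothing.singularIdeal R B).map h = ⊤) :
    ∃ (B' : Type u) (_ : CommRing B') (_ : Algebra R B'), Algebra.Smooth R B' ∧
      ∃ (i : B →ₐ[R] B') (h' : B' →ₐ[R] Λ), h'.comp i = h := by
  classical
  obtain ⟨s, hs, hsum⟩ : ∃ (s : Finset B), (↑s ⊆ (Smoothing.singularIdeal R B : Set B)) ∧
      (1 : Λ) ∈ Ideal.span (h '' s) := by
    have h1 : (1 : Λ) ∈ Submodule.span Λ (h '' (Smoothing.singularIdeal R B : Set B)) := by
      change (1 : Λ) ∈ Ideal.map h (Smoothing.singularIdeal R B)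
      rw [htop]; trivial
    obtain ⟨t, ht, h1t⟩ := Submodule.mem_span_finite_of_mem_span h1
    obtain ⟨s, hs, hst⟩ := Finset.subset_set_image_iff.1 ht
    refine ⟨s, hs, ?_⟩
    rw [← hst, Finset.coe_image] at h1t
    exact h1t
  let a : Fin s.card → B := fun i => (s.equivFin.symm i).1
  have ha : ∀ i, a i ∈ Smoothing.singularIdeal R B := fun i => hs (s.equivFin.symm i).2
  obtain ⟨lam, hlam⟩ : ∃ lam : Fin s.card → Λ, ∑ i, lam i * h (a i) = 1 := by
    refine Ideal.mem_span_range_iff_exists_fun.1 (Ideal.span_mono ?_ hsum)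
    rintro _ ⟨x, hx, rfl⟩
    exact ⟨s.equivFin ⟨x, hx⟩, by simp [a]⟩
  let σ := Fin s.card
  let rel : MvPolynomial σ B := ∑ i, MvPolynomial.C (a i) * MvPolynomial.X i - 1
  obtain ⟨B', _, _, q, hq, hqk⟩ : ∃ (B' : Type u) (_ : CommRing B') (_ : Algebra B B')
      (q : MvPolynomial σ B →ₐ[B] B'), Function.Surjective q ∧ RingHom.ker q.toRingHom = Ideal.span {rel} :=
    ⟨MvPolynomial σ B ⧸ Ideal.span {rel}, inferInstance, inferInstance, Ideal.Quotient.mkₐ B _,
      Ideal.Quotient.mkₐ_surjective B _, Ideal.Quotient.mkₐ_ker B _⟩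
  letI : Algebra R B' := ((algebraMap B B').comp (algebraMap R B)).toAlgebra
  haveI : IsScalarTower R B B' := IsScalarTower.of_algebraMap_eq fun _ => rfl
  haveI : Algebra.FinitePresentation B B' :=
    Algebra.FinitePresentation.of_surjective hq (by rw [hqk]; exact Submodule.fg_span_singleton rel)
  haveI : Algebra.FinitePresentation R B' := Algebra.FinitePresentation.trans R B B'
  have hq1 : ∑ i, algebraMap B B' (a i) * q (MvPolynomial.X i) = 1 := by
    have : q rel = 0 := RingHom.mem_ker.1 ((SetLike.ext_iff.1 hqk _).2 (Ideal.subset_span rfl))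
    simp only [rel, map_sub, map_sum, map_mul, map_one, sub_eq_zero] at this
    rw [← this]
    exact Finset.sum_congr rfl fun i _ => by rw [← MvPolynomial.algebraMap_eq, AlgHom.commutes]
  haveI : Algebra.FormallySmooth B B' := by
    refine Algebra.FormallySmooth.of_comp_surjective ?_
    intro T _ _ J hJ v
    choose t ht using fun i => Ideal.Quotient.mk_surjective (v (q (MvPolynomial.X i)))
    let δ := 1 - ∑ i, algebraMap B T (a i) * t i
    have hδ : δ ∈ J := by
      rw [← Ideal.Quotient.eq_zero_iff_mem]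
      have := congrArg v hq1
      simp only [map_sum, map_mul, AlgHom.commutes, map_one, ← ht] at this
      simp only [δ, map_sub, map_one, map_sum, map_mul, sub_eq_zero]
      exact this.symm
    have hδ2 : δ * δ = 0 := by
      rw [← Ideal.mem_bot, ← hJ, pow_two]
      exact Ideal.mul_mem_mul hδ hδ
    let ev : MvPolynomial σ B →ₐ[B] T := MvPolynomial.aeval fun i => t i * (1 + δ)
    have hev : RingHom.ker q.toRingHom ≤ RingHom.ker ev.toRingHom := by
      rw [hqk, Ideal.span_le, Set.singleton_subset_iff]
      change ev rel = 0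
      simp only [rel, ev, map_sub, map_sum, map_mul, map_one, MvPolynomial.aeval_C, MvPolynomial.aeval_X,
        ← mul_assoc, ← Finset.sum_mul]
      rw [show ∑ i, algebraMap B T (a i) * t i = 1 - δ by simp [δ]]
      linear_combination -hδ2
    refine ⟨AlgHom.liftOfSurjective q hq ev hev, AlgHom.ext fun x => ?_⟩
    obtain ⟨p, rfl⟩ := hq x
    rw [AlgHom.comp_apply, AlgHom.liftOfSurjective_apply]
    refine AlgHom.congr_fun (show (Ideal.Quotient.mkₐ B J).comp ev = v.comp q from
      MvPolynomial.algHom_ext fun i => ?_) p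
    simp only [AlgHom.comp_apply, ev, MvPolynomial.aeval_X, Ideal.Quotient.mkₐ_eq_mk, map_mul, map_add, map_one,
      Ideal.Quotient.eq_zero_iff_mem.2 hδ, add_zero, mul_one, ht]
  haveI : Algebra.FormallySmooth R B' → Algebra.Smooth R B' := fun _ => ⟨inferInstance, inferInstance⟩
  have hsm : Algebra.smoothLocus R B' = Set.univ := by
    refine Set.eq_univ_of_forall fun Q => ?_
    have hex : ∃ i, algebraMap B B' (a i) ∉ Q.asIdeal := by
      by_contra hc
      push Not at hc
      apply Q.isPrime.ne_top
      rw [Ideal.eq_top_iff_one, ← hq1]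
      exact Ideal.sum_mem _ fun i _ => Ideal.mul_mem_right _ _ (hc i)
    obtain ⟨i, hi⟩ := hex
    haveI : Algebra.IsSmoothAt R (Q.asIdeal.comap (algebraMap B B')) := by
      by_contra h'
      have := ha i
      rw [Smoothing.singularIdeal, PrimeSpectrum.mem_vanishingIdeal] at this
      exact hi (this ⟨_, Ideal.comap_isPrime (algebraMap B B') Q.asIdeal⟩ h')
    haveI : Algebra.IsSmoothAt B Q.asIdeal := by
      change Algebra.FormallySmooth B (Localization.AtPrime Q.asIdeal)
      haveI : Algebra.FormallyEtale B' (Localization.AtPrime Q.asIdeal) :=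
        Algebra.FormallyEtale.of_isLocalization Q.asIdeal.primeCompl
      exact Algebra.FormallySmooth.comp B B' _
    exact isSmoothAt_trans (R := R) (S := B) Q.asIdeal
  haveI : Algebra.FormallySmooth R B' := Algebra.smoothLocus_eq_univ_iff.1 hsm
  letI : Algebra B Λ := h.toRingHom.toAlgebra
  let ev : MvPolynomial σ B →ₐ[B] Λ := MvPolynomial.aeval lam
  have hev : RingHom.ker q.toRingHom ≤ RingHom.ker ev.toRingHom := by
    rw [hqk, Ideal.span_le, Set.singleton_subset_iff]
    change ev rel = 0
    simp only [rel, ev, map_sub, map_sum, map_mul, map_one, MvPolynomial.aeval_C, MvPolynomial.aeval_X, sub_eq_zero]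
    exact (Finset.sum_congr rfl fun i _ => mul_comm _ _).trans hlam
  let h₁ : B' →ₐ[B] Λ := AlgHom.liftOfSurjective q hq ev hev
  refine ⟨B', inferInstance, inferInstance, ⟨inferInstance, inferInstance⟩, IsScalarTower.toAlgHom R B B',
    { h₁.toRingHom with
      commutes' := fun r => by
        show h₁ (algebraMap B B' (algebraMap R B r)) = algebraMap R Λ r
        rw [AlgHom.commutes]
        exact h.commutes r }, AlgHom.ext fun b => h₁.commutes b⟩

theorem isStrictlyStandard_mul {R A : Type u} [CommRing R] [CommRing A] [Algebra R A] {a : A}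
    (h : Smoothing.IsStrictlyStandard R A a) (b : A) : Smoothing.IsStrictlyStandard R A (b * a) := by
  obtain ⟨P, h1, h2⟩ := h
  refine ⟨P, Ideal.mul_mem_left _ _ h1, fun a' ha' j hj => ?_⟩
  obtain ⟨a₀, ha₀⟩ := P.surj a
  obtain ⟨b₀, hb₀⟩ := P.surj b
  have hd : a' - b₀ * a₀ ∈ Ideal.span (Set.range P.rel) := by
    rw [← P.ker_eq, RingHom.mem_ker]
    change P.hom (a' - b₀ * a₀) = 0
    rw [map_sub, map_mul, ha', ha₀, hb₀, sub_self]
  rw [show a' * P.rel j = b₀ * (a₀ * P.rel j) + (a' - b₀ * a₀) * P.rel j by ring]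
  exact Ideal.add_mem _ (Ideal.mul_mem_left _ _ (h2 a₀ ha₀ j hj))
    (Submodule.mem_sup_right (by rw [pow_two]; exact Ideal.mul_mem_mul hd (Ideal.subset_span ⟨j, rfl⟩)))

theorem isStrictlyStandard_of_elementary {R A : Type u} [CommRing R] [CommRing A] [Algebra R A] {a : A}
    (h : Smoothing.IsElementaryStandard R A a) : Smoothing.IsStrictlyStandard R A a := by
  obtain ⟨P, ⟨a', ha⟩, h2⟩ := h
  exact ⟨P, ha ▸ Ideal.mul_mem_left _ _ (Ideal.subset_span ⟨Fin.castLE P.hcn, rfl⟩), h2⟩

/-- Maximal minors of the Jacobian of a presentation lie in the singular ideal. -/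
theorem minor_mem_singularIdeal {k R : Type u} [CommRing k] [CommRing R] [Algebra k R] {n c : ℕ}
    (G : Fin c → MvPolynomial (Fin n) k) (hom : MvPolynomial (Fin n) k →ₐ[k] R) (hs : Function.Surjective hom)
    (hker : RingHom.ker hom.toRingHom = Ideal.span (Set.range G)) (hcn : c ≤ n) (cols : Fin c → Fin n) :
    hom (Smoothing.jacobianMinor G id cols) ∈ Smoothing.singularIdeal k R := by
  haveI : Algebra.FinitePresentation k R :=
    Algebra.FinitePresentation.of_surjective hs (by rw [hker]; exact Submodule.fg_span (Set.finite_range G))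
  rw [Groth.Agent.S2026.result.1]
  refine Ideal.le_radical (Ideal.subset_span
    ⟨⟨n, c, c, hcn, le_rfl, G, hom, hs, hker⟩, Ideal.subset_span ⟨cols, ?_⟩,
      fun _ _ j hj => absurd j.isLt (not_lt.2 hj)⟩)
  rfl

end Groth.Agent.Popescu
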