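import Mathlib
import Groth.Prelude.Def_CAlgX
import Groth.Agent.FSField.Basic

/-!
Derivations into the residue field of an adically formally smooth local algebra: extension, the Jacobian
criterion and finiteness of the first cotangent cohomology of the residue field.
-/

set_option autoImplicit false
set_option linter.style.haveILetI false

universe u v w

namespace Groth.Agent.Popescu

open TensorProduct TrivSqZeroExt

theorem exists_hom_lift {k L K : Type u} [Field k] [CommRing L] [IsLocalRing L] [Algebra k L] [Field K]
    (hL : CAlgX.IsAdicFormallySmooth k L (IsLocalRing.maximalIdeal L)) (res : L →+* K)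
    (hres : ∀ x ∈ IsLocalRing.maximalIdeal L, res x = 0) (δ : k →+* DualNumber K)
    (hδ : ∀ c, fst (δ c) = res (algebraMap k L c)) :
    ∃ χ : L →+* DualNumber K, (∀ c, χ (algebraMap k L c) = δ c) ∧ ∀ x, fst (χ x) = res x := by
  letI : Algebra k (DualNumber K) := δ.toAlgebra
  let J : Ideal (DualNumber K) := RingHom.ker ((fstHom K K K).toRingHom)
  have hJmem : ∀ {z : DualNumber K}, z ∈ J ↔ fst z = 0 := fun {z} => Iff.rfl
  have hJ : J ^ 2 = ⊥ := by
    rw [pow_two, eq_bot_iff, Ideal.mul_le]
    intro a ha b hb
    rw [Ideal.mem_bot]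
    ext
    · rw [fst_mul, fst_zero, hJmem.1 ha, zero_mul]
    · rw [snd_mul, snd_zero, hJmem.1 ha, hJmem.1 hb, zero_smul, MulOpposite.op_zero, zero_smul, add_zero]
  let ψ : L →ₐ[k] DualNumber K ⧸ J :=
    { (Ideal.Quotient.mk J).comp ((inlHom K K).comp res) with
      commutes' := fun c => by
        show Ideal.Quotient.mk J (inl (res (algebraMap k L c))) = Ideal.Quotient.mk J (δ c)
        rw [Ideal.Quotient.eq, hJmem, fst_sub, fst_inl, hδ, sub_self] }
  obtain ⟨χ, hχ⟩ := hL (DualNumber K) J hJ ψ ⟨1, fun x hx => by
    show Ideal.Quotient.mk J (inl (res x)) = 0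
    rw [pow_one] at hx
    rw [hres x hx, inl_zero, map_zero]⟩
  refine ⟨χ.toRingHom, fun c => χ.commutes c, fun x => ?_⟩
  have : Ideal.Quotient.mk J (χ x) = Ideal.Quotient.mk J (inl (res x)) := AlgHom.congr_fun hχ x
  rw [Ideal.Quotient.eq, hJmem, fst_sub, fst_inl, sub_eq_zero] at this
  exact this

theorem dualNumber_ext {σ : Type v} [Fintype σ] {k : Type u} [CommRing k] {K : Type u} [CommRing K]
    (h h' : MvPolynomial σ k →+* DualNumber K) (hfst : ∀ p, fst (h p) = fst (h' p))
    (hC : ∀ c, h (MvPolynomial.C c) = h' (MvPolynomial.C c)) (p : MvPolynomial σ k) :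
    snd (h p) = snd (h' p) + ∑ i, fst (h' (MvPolynomial.pderiv i p)) * (snd (h (MvPolynomial.X i)) - snd (h' (MvPolynomial.X i))) := by
  classical
  induction p using MvPolynomial.induction_on with
  | C c => simp [hC]
  | add p q hp hq =>
    simp only [map_add, snd_add, fst_add, hp, hq, add_mul, Finset.sum_add_distrib]
    ring
  | mul_X p i hp =>
    have hD : ∀ j, MvPolynomial.pderiv j (p * MvPolynomial.X i) =
        MvPolynomial.pderiv j p * MvPolynomial.X i + p * (if i = j then 1 else 0) := fun j => by
      rw [MvPolynomial.pderiv_mul, MvPolynomial.pderiv_X, Pi.single_apply]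
    simp only [hD, map_add, map_mul, snd_mul, fst_add, fst_mul, hfst, add_mul, Finset.sum_add_distrib,
      apply_ite h', map_one, map_zero, apply_ite fst, fst_one, fst_zero, mul_ite, mul_one, mul_zero, ite_mul,
      zero_mul, Finset.sum_ite_eq, Finset.mem_univ, if_true, smul_eq_mul, op_smul_eq_mul]
    rw [hp]
    have hsum : ∀ a : K, ∑ x, fst (h' (MvPolynomial.pderiv x p)) * a * (snd (h (MvPolynomial.X x)) - snd (h' (MvPolynomial.X x))) =
        (∑ x, fst (h' (MvPolynomial.pderiv x p)) * (snd (h (MvPolynomial.X x)) - snd (h' (MvPolynomial.X x)))) * a := fun a => by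
      rw [Finset.sum_mul]
      exact Finset.sum_congr rfl fun x _ => by ring
    rw [hsum]
    ring

/-- Jacobian criterion: equations vanishing on an adically formally smooth local algebra, whose
differentials over the prime field are arbitrary, have independent Jacobian rows at the residue field. -/
theorem jacobian_indep {k L K : Type u} [Field k] [CommRing L] [IsLocalRing L] [Algebra k L] [Field K]
    (hL : CAlgX.IsAdicFormallySmooth k L (IsLocalRing.maximalIdeal L)) (res : L →+* K)
    (hres : ∀ x ∈ IsLocalRing.maximalIdeal L, res x = 0)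
    {σ : Type v} [Fintype σ] {ρ : Type w} [Fintype ρ] [DecidableEq ρ] (ev : MvPolynomial σ k →ₐ[k] L)
    (G : ρ → MvPolynomial σ k) (hG : ∀ l, ev (G l) = 0)
    (hsurj : ∀ a : ρ → K, ∃ h : MvPolynomial σ k →+* DualNumber K,
      (∀ p, fst (h p) = res (ev p)) ∧ ∀ l, snd (h (G l)) = a l)
    (c : ρ → K) (hc : ∀ i, ∑ l, c l * res (ev (MvPolynomial.pderiv i (G l))) = 0) : c = 0 := by
  funext l₀
  obtain ⟨h, hfst, hsnd⟩ := hsurj (Pi.single l₀ 1)
  obtain ⟨χ, hχ, hχf⟩ := exists_hom_lift hL res hres (h.comp MvPolynomial.C) fun r => by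
    show fst (h (MvPolynomial.C r)) = _
    rw [hfst]
    exact congrArg res (ev.commutes r)
  have key := fun l => dualNumber_ext h (χ.comp ev.toRingHom) (fun p => by
      show fst (h p) = fst (χ (ev p))
      rw [hfst, hχf]) (fun r => by
      show h (MvPolynomial.C r) = χ (ev (MvPolynomial.C r))
      rw [show ev (MvPolynomial.C r) = algebraMap k L r from ev.commutes r, hχ]
      rfl) (G l)
  have h0 : ∑ l, c l * (Pi.single l₀ (1 : K) : ρ → K) l = 0 := by
    have : ∀ l, (Pi.single l₀ (1 : K) : ρ → K) l = ∑ i, res (ev (MvPolynomial.pderiv i (G l))) *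
        (snd (h (MvPolynomial.X i)) - snd (χ (ev (MvPolynomial.X i)))) := fun l => by
      have := key l
      simp only [RingHom.comp_apply, AlgHom.toRingHom_eq_coe, RingHom.coe_coe, hG l, map_zero, snd_zero, zero_add, hχf, hsnd] at this
      exact this
    simp only [this, Finset.mul_sum]
    rw [Finset.sum_comm]
    refine Finset.sum_eq_zero fun i _ => ?_
    simp only [← mul_assoc, ← Finset.sum_mul, hc i, zero_mul]
  simpa [Pi.single_apply] using h0

theorem exists_minor_ne_zero {K : Type u} [Field K] {σ : Type v} [Fintype σ] {c : ℕ} (M : Fin c → σ → K)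
    (h : ∀ a : Fin c → K, (∀ i, ∑ l, a l * M l i = 0) → a = 0) :
    ∃ cols : Fin c → σ, (Matrix.of fun l j => M l (cols j)).det ≠ 0 := by
  classical
  have hli : LinearIndependent K (fun l => M l) := Fintype.linearIndependent_iff.2 fun a ha l => by
    have := h a fun i => by simpa [Finset.sum_apply] using congrFun ha i
    exact congrFun this l
  let A : Matrix (Fin c) σ K := Matrix.of M
  have hspan : Submodule.span K (Set.range A.col) = ⊤ := by
    refine Submodule.eq_top_of_finrank_eq ?_
    rw [← Matrix.rank_eq_finrank_span_cols, Module.finrank_fin_fun]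
    exact (LinearIndependent.rank_matrix (show LinearIndependent K A.row from hli)).trans (Fintype.card_fin c)
  obtain ⟨κ, a, ha, hsp, hind⟩ := exists_linearIndependent' K A.col
  haveI : Finite κ := Finite.of_injective a ha
  haveI := Fintype.ofFinite κ
  have hcard : Fintype.card κ = c := by
    have := finrank_span_eq_card hind
    rw [hsp, hspan, finrank_top, Module.finrank_fin_fun] at this
    exact this.symm
  let e : Fin c ≃ κ := (Fintype.equivFinOfCardEq hcard).symm
  refine ⟨a ∘ e, ?_⟩
  have : LinearIndependent K (Matrix.of fun l j => M l (a (e j))).col := hind.comp e e.injective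
  rw [Matrix.linearIndependent_cols_iff_isUnit, Matrix.isUnit_iff_isUnit_det] at this
  exact this.ne_zero

/-- Over a field, the residue field of an adically formally smooth Noetherian local algebra has finite `H₁`. -/
theorem finite_h1Cotangent {k L K : Type u} [Field k] [CommRing L] [IsLocalRing L] [IsNoetherianRing L]
    [Algebra k L] [Field K] [Algebra L K] [Algebra k K] [IsScalarTower k L K]
    (hL : CAlgX.IsAdicFormallySmooth k L (IsLocalRing.maximalIdeal L))
    (hsur : Function.Surjective (algebraMap L K))
    (hres : ∀ x ∈ IsLocalRing.maximalIdeal L, algebraMap L K x = 0)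
    (F : Type u) [Field F] [PerfectField F] [Algebra F k] [Algebra F L] [Algebra F K] [IsScalarTower F k L]
    [IsScalarTower F k K] [IsScalarTower F L K] :
    Module.Finite K (Algebra.H1Cotangent k K) := by
  haveI : Algebra.FormallySmooth F K := FSField.formallySmooth_of_perfectField F K
  let ι : K ⊗[k] Ω[k⁄F] →ₗ[K] K ⊗[L] Ω[L⁄F] :=
    LinearMap.liftBaseChange K (((TensorProduct.mk L K Ω[L⁄F] 1).restrictScalars k).comp (KaehlerDifferential.map F F k L))
  have hι : ∀ a c, ι (a ⊗ₜ KaehlerDifferential.D F k c) = a ⊗ₜ KaehlerDifferential.D F L (algebraMap k L c) := fun a c => by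
    simp [ι, TensorProduct.smul_tmul']
  have hinj : Function.Injective ι := by
    rw [injective_iff_map_eq_zero]
    intro w hw
    by_contra hne
    obtain ⟨φ, hφ⟩ : ∃ φ : K ⊗[k] Ω[k⁄F] →ₗ[K] K, φ w ≠ 0 := by
      by_contra h
      push Not at h
      exact hne ((Module.forall_dual_apply_eq_zero_iff K w).1 h)
    let D0 : k →ₗ[k] K := 0
    let δ : k →+* DualNumber K :=
      { toFun := fun c => inl (algebraMap k K c) + inr (φ (1 ⊗ₜ KaehlerDifferential.D F k c))
        map_one' := by simp
        map_zero' := by simp
        map_add' := fun a b => by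
          simp only [map_add, tmul_add, inl_add, inr_add]; abel
        map_mul' := fun a b => by
          ext
          · simp
          · have h1 : ∀ (r : k) (y : Ω[k⁄F]), φ ((1 : K) ⊗ₜ[k] (r • y)) = algebraMap k K r * φ (1 ⊗ₜ y) := fun r y => by
              rw [tmul_smul, ← algebraMap_smul K r, map_smul, smul_eq_mul]
            simp only [snd_add, snd_inl, snd_inr, zero_add, snd_mul, fst_add, fst_inl, fst_inr, add_zero,
              Derivation.leibniz, tmul_add, map_add, h1, smul_eq_mul, op_smul_eq_mul]
            ring }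
    obtain ⟨χ, hχ, hχf⟩ := exists_hom_lift hL (algebraMap L K) hres δ fun c => by
      simp [δ, ← IsScalarTower.algebraMap_apply]
    have hχc : ∀ c, snd (χ (algebraMap k L c)) = φ (1 ⊗ₜ KaehlerDifferential.D F k c) := fun c => by
      rw [hχ]
      simp [δ]
    let Δ : Derivation F L K :=
      Derivation.mk'
        { toFun := fun x => snd (χ x)
          map_add' := fun a b => by rw [map_add, snd_add]
          map_smul' := fun r x => by
            rw [Algebra.smul_def, map_mul, snd_mul, RingHom.id_apply, hχf]
            rw [show snd (χ (algebraMap F L r)) = 0 by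
              rw [IsScalarTower.algebraMap_apply F k L, hχc, Derivation.map_algebraMap, tmul_zero, map_zero]]
            simp [Algebra.smul_def, IsScalarTower.algebraMap_apply F L K] }
        fun a b => by
          show snd (χ (a * b)) = a • snd (χ b) + b • snd (χ a)
          rw [map_mul, snd_mul, hχf, hχf, smul_eq_mul, op_smul_eq_mul]
          simp only [Algebra.smul_def]
          ring
    let Φ : K ⊗[L] Ω[L⁄F] →ₗ[K] K := LinearMap.liftBaseChange K Δ.liftKaehlerDifferential
    have hΦ : Φ.comp ι = φ := by
      refine TensorProduct.AlgebraTensorModule.curry_injective (LinearMap.ext_ring ?_)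
      refine LinearMap.ext fun y => ?_
      have hy : y ∈ Submodule.span k (Set.range (KaehlerDifferential.D F k)) := by
        rw [KaehlerDifferential.span_range_derivation]; trivial
      show Φ (ι (1 ⊗ₜ y)) = φ (1 ⊗ₜ y)
      induction hy using Submodule.span_induction with
      | mem y hy =>
        obtain ⟨c, rfl⟩ := hy
        rw [hι, LinearMap.liftBaseChange_tmul, one_smul, Derivation.liftKaehlerDifferential_comp_D]
        exact hχc c
      | zero => simp
      | add a b _ _ ha hb => simp only [tmul_add, map_add, ha, hb]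
      | smul r a _ ha => simp only [tmul_smul, ← algebraMap_smul K r, map_smul, ha]
    exact hφ (by rw [← hΦ, LinearMap.comp_apply, hw, map_zero])
  let N := LinearMap.ker (KaehlerDifferential.mapBaseChange F L K)
  haveI : Module.Finite L (RingHom.ker (algebraMap L K)).Cotangent :=
    Module.Finite.of_surjective _ (RingHom.ker (algebraMap L K)).toCotangent_surjective
  have hN : LinearMap.range (KaehlerDifferential.kerCotangentToTensor F L K) = N.restrictScalars L :=
    KaehlerDifferential.range_kerCotangentToTensor F L K hsur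
  haveI : Module.Finite L (N.restrictScalars L) := hN ▸ inferInstance
  haveI : Module.Finite L N := ‹Module.Finite L (N.restrictScalars L)›
  haveI : Module.Finite K N := Module.Finite.of_restrictScalars_finite L K N
  let W := LinearMap.ker (KaehlerDifferential.mapBaseChange F k K)
  have hcomm : (KaehlerDifferential.mapBaseChange F L K).comp ι = KaehlerDifferential.mapBaseChange F k K := by
    refine TensorProduct.AlgebraTensorModule.curry_injective (LinearMap.ext_ring ?_)
    refine LinearMap.ext fun y => ?_
    have hy : y ∈ Submodule.span k (Set.range (KaehlerDifferential.D F k)) := by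
      rw [KaehlerDifferential.span_range_derivation]; trivial
    show KaehlerDifferential.mapBaseChange F L K (ι (1 ⊗ₜ y)) = KaehlerDifferential.mapBaseChange F k K (1 ⊗ₜ y)
    induction hy using Submodule.span_induction with
    | mem y hy =>
      obtain ⟨c, rfl⟩ := hy
      rw [hι, KaehlerDifferential.mapBaseChange_tmul, KaehlerDifferential.mapBaseChange_tmul, one_smul, one_smul,
        KaehlerDifferential.map_D, KaehlerDifferential.map_D, ← IsScalarTower.algebraMap_apply]
    | zero => simp
    | add a b _ _ ha hb => simp only [tmul_add, map_add, ha, hb]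
    | smul r a _ ha => simp only [tmul_smul, ← algebraMap_smul K r, map_smul, ha]
  haveI : IsNoetherian K N := isNoetherian_of_isNoetherianRing_of_finite K N
  haveI : Module.Finite K W := Module.Finite.of_injective (ι.restrict (p := W) (q := N) fun x hx => by
      rw [LinearMap.mem_ker, ← LinearMap.comp_apply, hcomm]
      exact hx) fun a b hab => Subtype.ext (hinj (congrArg Subtype.val hab))
  have hδinj : Function.Injective (Algebra.H1Cotangent.δ F k K) := by
    rw [injective_iff_map_eq_zero]
    intro x hx
    obtain ⟨y, rfl⟩ := (Algebra.H1Cotangent.exact_map_δ F k K x).1 hx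
    rw [Subsingleton.elim y 0, map_zero]
  haveI : IsNoetherian K W := isNoetherian_of_isNoetherianRing_of_finite K W
  exact Module.Finite.of_injective ((Algebra.H1Cotangent.δ F k K).codRestrict W fun x =>
    (Algebra.H1Cotangent.exact_δ_mapBaseChange F k K).apply_apply_eq_zero x) fun a b hab =>
      hδinj (congrArg Subtype.val hab)

/-- Prescribed differentials on elements independent in the cotangent space, using a perfect subfield. -/
theorem exists_dual_hom {Rp : Type u} [CommRing Rp] [IsLocalRing Rp] (F : Type u) [Field F] [PerfectField F]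
    [Algebra F Rp] {K : Type u} [Field K] (i : IsLocalRing.ResidueField Rp →+* K) {ρ : Type w}
    (f : ρ → IsLocalRing.maximalIdeal Rp)
    (hind : LinearIndependent (IsLocalRing.ResidueField Rp) fun l => (IsLocalRing.maximalIdeal Rp).toCotangent (f l))
    (a : ρ → K) :
    ∃ h : Rp →+* DualNumber K, (∀ x, fst (h x) = i (IsLocalRing.residue Rp x)) ∧ ∀ l, snd (h (f l)) = a l := by
  classical
  let K₀ := IsLocalRing.ResidueField Rp
  let m := IsLocalRing.maximalIdeal Rp
  haveI : Algebra.FormallySmooth F K₀ := FSField.formallySmooth_of_perfectField F K₀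
  let M₂ : Ideal Rp := m ^ 2
  let J : Ideal (Rp ⧸ M₂) := m.map (Ideal.Quotient.mk M₂)
  have hJ : J ^ 2 = ⊥ := by rw [← Ideal.map_pow]; exact Ideal.map_quotient_self _
  let e : ((Rp ⧸ M₂) ⧸ J) ≃ₐ[F] K₀ :=
    DoubleQuot.quotQuotEquivQuotOfLEₐ F (Ideal.pow_le_self two_ne_zero)
  obtain ⟨σ, hσ⟩ := Algebra.FormallySmooth.comp_surjective F K₀ J hJ e.symm.toAlgHom
  choose sec hsec using fun z : K₀ => Ideal.Quotient.mk_surjective (σ z)
  have hsecr : ∀ z, IsLocalRing.residue Rp (sec z) = z := fun z => by
    have h1 := congrArg e (AlgHom.congr_fun hσ z)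
    rw [AlgEquiv.coe_toAlgHom, AlgEquiv.apply_symm_apply, AlgHom.comp_apply, Ideal.Quotient.mkₐ_eq_mk, ← hsec] at h1
    exact h1
  have hmem : ∀ x, x - sec (IsLocalRing.residue Rp x) ∈ m := fun x => by
    rw [← IsLocalRing.residue_eq_zero_iff, map_sub, hsecr, sub_self]
  letI : Algebra K₀ K := i.toAlgebra
  obtain ⟨ζ, hζ⟩ : ∃ ζ : IsLocalRing.CotangentSpace Rp →ₗ[K₀] K, ∀ l, ζ (m.toCotangent (f l)) = a l := by
    let b := Module.Basis.extend hind.linearIndepOn_id
    refine ⟨b.constr K₀ fun v => if h : ∃ l, m.toCotangent (f l) = (v : IsLocalRing.CotangentSpace Rp) then a h.choose else 0,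
      fun l => ?_⟩
    have hv : m.toCotangent (f l) ∈ hind.linearIndepOn_id.extend (Set.subset_univ _) :=
      hind.linearIndepOn_id.subset_extend _ ⟨l, rfl⟩
    rw [show m.toCotangent (f l) = b ⟨_, hv⟩ from (Module.Basis.extend_apply_self hind.linearIndepOn_id ⟨_, hv⟩).symm,
      Module.Basis.constr_basis, dif_pos ⟨l, rfl⟩]
    congr 1
    have hspec := (⟨l, rfl⟩ : ∃ l', m.toCotangent (f l') = m.toCotangent (f l))
    exact hind.injective hspec.choose_spec
  let D : Rp → K := fun x => ζ (m.toCotangent ⟨x - sec (IsLocalRing.residue Rp x), hmem x⟩)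
  have hsec2 : ∀ {z : K₀} {y : Rp}, Ideal.Quotient.mk M₂ y = σ z → y - sec z ∈ M₂ := fun {z y} h => by
    rw [← Ideal.Quotient.eq, hsec]; exact h
  have hDeq : ∀ {x : Rp} {y : m}, x - sec (IsLocalRing.residue Rp x) - (y : Rp) ∈ M₂ → D x = ζ (m.toCotangent y) :=
    fun {x y} h => congrArg ζ ((Ideal.toCotangent_eq m).2 h)
  have hadd : ∀ x y, D (x + y) = D x + D y := fun x y => by
    refine (hDeq (y := ⟨_, hmem x⟩ + ⟨_, hmem y⟩) ?_).trans (by rw [map_add, map_add])
    rw [Submodule.coe_add]
    rw [show x + y - sec (IsLocalRing.residue Rp (x + y)) - ((x - sec (IsLocalRing.residue Rp x)) + (y - sec (IsLocalRing.residue Rp y))) =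
      sec (IsLocalRing.residue Rp x) + sec (IsLocalRing.residue Rp y) - sec (IsLocalRing.residue Rp (x + y)) by ring]
    refine hsec2 ?_
    rw [map_add, hsec, hsec, ← map_add, ← map_add]
  have hmul : ∀ x y, D (x * y) = i (IsLocalRing.residue Rp x) * D y + D x * i (IsLocalRing.residue Rp y) := fun x y => by
    refine (hDeq (y := x • (⟨_, hmem y⟩ : m) + sec (IsLocalRing.residue Rp y) • (⟨_, hmem x⟩ : m)) ?_).trans ?_
    · rw [Submodule.coe_add, Submodule.coe_smul, Submodule.coe_smul, smul_eq_mul, smul_eq_mul]
      rw [show x * y - sec (IsLocalRing.residue Rp (x * y)) - (x * (y - sec (IsLocalRing.residue Rp y)) + sec (IsLocalRing.residue Rp y) * (x - sec (IsLocalRing.residue Rp x))) =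
        sec (IsLocalRing.residue Rp x) * sec (IsLocalRing.residue Rp y) - sec (IsLocalRing.residue Rp (x * y)) by ring]
      refine hsec2 ?_
      rw [map_mul, hsec, hsec, ← map_mul, ← map_mul]
    · rw [map_add, map_smul, map_smul, map_add, ← IsScalarTower.algebraMap_smul K₀ x, map_smul,
        ← IsScalarTower.algebraMap_smul K₀ (sec (IsLocalRing.residue Rp y)), map_smul]
      simp only [Algebra.smul_def]
      change i (IsLocalRing.residue Rp x) * D y + i (IsLocalRing.residue Rp (sec _)) * D x = _
      rw [hsecr]
      ring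
  have hD1 : D 1 = 0 := by have := hmul 1 1; simp at this; exact this
  have hD0 : D 0 = 0 := by have := hadd 0 0; simp at this; exact this
  refine ⟨{ toFun := fun x => inl (i (IsLocalRing.residue Rp x)) + inr (D x)
            map_one' := by simp [hD1]
            map_zero' := by simp [hD0]
            map_add' := fun x y => by simp only [map_add, hadd, inl_add, inr_add]; abel
            map_mul' := fun x y => by
              ext
              · simp
              · simp [hmul, smul_eq_mul, op_smul_eq_mul] }, fun x => ?_, fun l => ?_⟩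
  · simp
  · simp only [RingHom.coe_mk, MonoidHom.coe_mk, OneHom.coe_mk, snd_add, snd_inl, snd_inr, zero_add]
    rw [hDeq (x := (f l : Rp)) (y := f l), hζ]
    rw [show (f l : Rp) - sec (IsLocalRing.residue Rp (f l)) - (f l : Rp) = 0 - sec (IsLocalRing.residue Rp (f l)) by ring]
    refine hsec2 ?_
    rw [map_zero, (IsLocalRing.residue_eq_zero_iff (f l : Rp)).2 (f l).2, map_zero]

end Groth.Agent.Popescu
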