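import Mathlib
import Groth.Agent.Popescu.Basic
import Groth.Agent.SerreReg.Regular
import Groth.Agent.RegPow.Basic
import Groth.Agent.GeomProp.SmoothReg

/-!
Powers of parts of regular systems of parameters, and scaling them to satisfy the annihilator conditions globally.
-/

set_option autoImplicit false
set_option linter.style.haveILetI false

universe u

namespace Groth.Agent.Popescu

open RingTheory.Sequence IsLocalRing
open scoped Pointwise

theorem isWeaklyRegular_of_indep : ∀ (n : ℕ) (S : Type u) [CommRing S] [IsRegularLocalRing S] (x : Fin n → S),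
    (∀ i, x i ∈ maximalIdeal S) →
    (∀ c : Fin n → S, ∑ i, c i * x i ∈ maximalIdeal S ^ 2 → ∀ i, c i ∈ maximalIdeal S) →
    IsWeaklyRegular S (List.ofFn x) := by
  intro n
  induction n with
  | zero => intro S _ _ x _ _; rw [List.ofFn_zero]; exact IsWeaklyRegular.nil S S
  | succ n ih =>
    intro S _ _ x hm hind
    have hx2 : x 0 ∉ maximalIdeal S ^ 2 := fun h => by
      have := hind (Pi.single 0 1) (by simpa [Pi.single_apply, ite_mul, Finset.sum_ite_eq'] using h) 0
      rw [Pi.single_eq_same] at this
      exact (maximalIdeal.isMaximal S).ne_top ((Ideal.eq_top_iff_one _).2 this)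
    obtain ⟨hreg, hsm⟩ := Groth.Agent.SerreReg.isRegularLocalRing_quot (hm 0) hx2
    rw [List.ofFn_succ]
    refine IsWeaklyRegular.cons' hsm ?_
    let T := S ⧸ Ideal.span {x 0}
    haveI : IsLocalHom (Ideal.Quotient.mk (Ideal.span {x 0})) :=
      IsLocalHom.of_surjective _ Ideal.Quotient.mk_surjective
    have hmap : (maximalIdeal S).map (Ideal.Quotient.mk (Ideal.span {x 0})) = maximalIdeal T := by
      rw [← IsLocalRing.maximalIdeal_comap (Ideal.Quotient.mk (Ideal.span {x 0})),
        Ideal.map_comap_of_surjective _ Ideal.Quotient.mk_surjective]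
    have h' := ih T (fun i => Ideal.Quotient.mk _ (x i.succ))
      (fun i => hmap ▸ Ideal.mem_map_of_mem _ (hm i.succ)) (fun c hc i => by
        choose c' hc' using fun i => Ideal.Quotient.mk_surjective (c i)
        rw [← hmap, ← Ideal.map_pow] at hc
        simp only [← hc', ← map_mul, ← map_sum] at hc
        obtain ⟨y, hy, hyc⟩ := (Ideal.mem_map_iff_of_surjective _ Ideal.Quotient.mk_surjective).1 hc
        obtain ⟨a, ha⟩ := Ideal.mem_span_singleton'.1 (Ideal.Quotient.eq.1 hyc)
        have := hind (Fin.cons a c') (by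
          rw [Fin.sum_univ_succ]
          simp only [Fin.cons_zero, Fin.cons_succ]
          rw [ha, sub_add_cancel]
          exact hy) i.succ
        rw [Fin.cons_succ] at this
        rw [← hc', ← hmap]
        exact Ideal.mem_map_of_mem _ this)
    let e : T ≃+ QuotSMulTop (x 0) S :=
      (Submodule.quotEquivOfEq (Ideal.span {x 0} : Submodule S S) (x 0 • ⊤)
        (by rw [← Submodule.ideal_span_singleton_smul, smul_eq_mul, Ideal.mul_top])).toAddEquiv
    rw [show (List.ofFn fun i => Ideal.Quotient.mk (Ideal.span {x 0}) (x i.succ)) =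
      (List.ofFn fun i => x i.succ).map (Ideal.Quotient.mk (Ideal.span {x 0})) by rw [List.map_ofFn]; rfl] at h'
    refine (e.isWeaklyRegular_congr (as := (List.ofFn fun i => x i.succ).map (Ideal.Quotient.mk (Ideal.span {x 0})))
      (List.forall₂_same.mpr fun r _ y => ?_)).mp h'
    obtain ⟨s, rfl⟩ := Ideal.Quotient.mk_surjective r
    obtain ⟨t, rfl⟩ := Ideal.Quotient.mk_surjective y
    rfl

/-- The ideal generated by the eighth powers of the earlier entries. -/
abbrev prefixIdeal {S : Type u} [CommRing S] {d : ℕ} (π : Fin d → S) (i : ℕ) : Ideal S :=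
  Ideal.span (Set.range fun j : {j : Fin d // (j : ℕ) < i} => π j ^ 8)

theorem mem_prefix_of_pow_mul_mem {S : Type u} [CommRing S] [IsRegularLocalRing S] {d : ℕ} (x : Fin d → S)
    (hm : ∀ i, x i ∈ maximalIdeal S)
    (hind : ∀ c : Fin d → S, ∑ i, c i * x i ∈ maximalIdeal S ^ 2 → ∀ i, c i ∈ maximalIdeal S)
    (e m : ℕ) (he : 0 < e) (i : Fin d) (y : S)
    (h : x i ^ m * y ∈ prefixIdeal (fun j => x j ^ e) i) : y ∈ prefixIdeal (fun j => x j ^ e) i := by
  have h1 := Groth.Agent.RegPow.isSMulRegular_getElem_mod_pow _ (isWeaklyRegular_of_indep d S x hm hind) (e * 8)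
    (by omega) i (by simp)
  have hI : Ideal.ofList (((List.ofFn x).take i).map (· ^ (e * 8))) = prefixIdeal (fun j => x j ^ e) i := by
    rw [Ideal.ofList]
    refine congrArg Ideal.span (Set.ext fun z => ?_)
    simp only [Set.mem_setOf_eq, List.mem_map, List.mem_take_iff_getElem, List.length_ofFn, List.getElem_ofFn,
      Set.mem_range, ← pow_mul]
    constructor
    · rintro ⟨_, ⟨j, hj, rfl⟩, rfl⟩
      exact ⟨⟨⟨j, (lt_min_iff.1 hj).2⟩, (lt_min_iff.1 hj).1⟩, rfl⟩
    · rintro ⟨⟨j, hj⟩, rfl⟩
      exact ⟨_, ⟨j, lt_min hj j.2, rfl⟩, rfl⟩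
  rw [hI, List.getElem_ofFn] at h1
  rw [← Ideal.Quotient.eq_zero_iff_mem] at h ⊢
  have h2 := h1.pow m
  refine h2 ?_
  change x i ^ m • (Ideal.Quotient.mk _ y : S ⧸ prefixIdeal (fun j => x j ^ e) i) = x i ^ m • 0
  rw [smul_zero, Algebra.smul_def, Ideal.Quotient.algebraMap_eq, ← map_mul]
  exact h

/-- The annihilator conditions hold near a prime whose local ring is regular with independent parameters. -/
theorem exists_mul_mem_prefix {T : Type u} [CommRing T] (P : Ideal T) [P.IsPrime]
    [IsRegularLocalRing (Localization.AtPrime P)] {d : ℕ} (π : Fin d → T) (hπ : ∀ i, π i ∈ P)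
    (hind : ∀ c : Fin d → Localization.AtPrime P,
      ∑ i, c i * algebraMap T _ (π i) ∈ maximalIdeal (Localization.AtPrime P) ^ 2 →
        ∀ i, c i ∈ maximalIdeal (Localization.AtPrime P))
    (E : ℕ) (hE : 0 < E) (i : Fin d) (y : T)
    (h : ∃ u ∉ P, u * ((π i ^ E) ^ 2 * y) ∈ prefixIdeal (fun j => π j ^ E) i) :
    ∃ u ∉ P, u * y ∈ prefixIdeal (fun j => π j ^ E) i := by
  set f := algebraMap T (Localization.AtPrime P)
  have hmap : (prefixIdeal (fun j => π j ^ E) i).map f = prefixIdeal (fun j => f (π j) ^ E) i := by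
    rw [Ideal.map_span, ← Set.range_comp]
    exact congrArg Ideal.span (congrArg Set.range (funext fun j => by simp))
  obtain ⟨u, hu, hmem⟩ := h
  have hu' : IsUnit (f u) := IsLocalization.map_units _ (⟨u, hu⟩ : P.primeCompl)
  have h1 : f y ∈ (prefixIdeal (fun j => π j ^ E) i).map f := by
    rw [hmap]
    refine mem_prefix_of_pow_mul_mem (fun j => f (π j))
      (fun j => (IsLocalization.AtPrime.to_map_mem_maximal_iff _ P _).2 (hπ j)) hind E (E * 2) hE i (f y) ?_
    have := Ideal.mem_map_of_mem f hmem
    rw [hmap, map_mul, Ideal.unit_mul_mem_iff_mem _ hu', map_mul, map_pow, map_pow, ← pow_mul] at this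
    exact this
  obtain ⟨m, hm, hmy⟩ := (IsLocalization.algebraMap_mem_map_algebraMap_iff P.primeCompl _ _ _).1 h1
  exact ⟨m, hm, hmy⟩

theorem exists_torsion_killer {T : Type u} [CommRing T] [IsNoetherianRing T] (P : Ideal T) [P.IsPrime]
    (J : Ideal T) : ∃ s ∉ P, ∀ x, (∃ u ∉ P, u * x ∈ J) → s * x ∈ J := by
  classical
  let sat : Ideal T := (J.map (algebraMap T (Localization.AtPrime P))).comap (algebraMap T _)
  obtain ⟨g, hg⟩ := sat.fg_of_isNoetherianRing
  have hx : ∀ x : g, ∃ s ∉ P, s * (x : T) ∈ J := fun x => by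
    obtain ⟨m, hm, hmy⟩ := (IsLocalization.algebraMap_mem_map_algebraMap_iff P.primeCompl _ J (x : T)).1
      (show (x : T) ∈ sat from hg ▸ Ideal.subset_span x.2)
    exact ⟨m, hm, hmy⟩
  choose s hs hsx using hx
  refine ⟨∏ x, s x, fun h => ?_, fun x hux => ?_⟩
  · obtain ⟨x, -, hx⟩ := Ideal.IsPrime.prod_mem_iff.1 h
    exact hs x hx
  have hxs : x ∈ sat := (IsLocalization.algebraMap_mem_map_algebraMap_iff P.primeCompl _ J x).2
    (hux.imp fun _ h => h)
  rw [← hg] at hxs
  clear hux
  induction hxs using Submodule.span_induction with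
  | mem y hy => rw [← Finset.prod_erase_mul _ _ (Finset.mem_univ ⟨y, hy⟩), mul_assoc]; exact J.mul_mem_left _ (hsx _)
  | zero => simp
  | add a b _ _ ha hb => rw [mul_add]; exact J.add_mem ha hb
  | smul r a _ ha => rw [smul_eq_mul, mul_left_comm]; exact J.mul_mem_left _ ha

/-- One step of the scaling. -/
theorem scaled_condition {T : Type u} [CommRing T] (P : Ideal T) [P.IsPrime] {d : ℕ} (π t : Fin d → T)
    (i : Fin d) (hloc : ∀ y, (∃ u ∉ P, u * (π i ^ 2 * y) ∈ prefixIdeal π i) → ∃ u ∉ P, u * y ∈ prefixIdeal π i)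
    (ht : ∀ j, t j ∉ P) {s u : T} (hu : t i = u * s)
    (hs : ∀ x, (∃ v ∉ P, v * x ∈ prefixIdeal (fun j => t j * π j) i) → s * x ∈ prefixIdeal (fun j => t j * π j) i)
    (x : T) (hx : (t i * π i) ^ 2 * x ∈ prefixIdeal (fun j => t j * π j) i) :
    t i * π i * x ∈ prefixIdeal (fun j => t j * π j) i := by
  classical
  have hle : prefixIdeal (fun j => t j * π j) i ≤ prefixIdeal π i := by
    rw [prefixIdeal, Ideal.span_le]
    rintro _ ⟨j, rfl⟩
    change (t j * π j) ^ 8 ∈ prefixIdeal π i
    rw [mul_pow]
    exact Ideal.mul_mem_left _ _ (Ideal.subset_span ⟨j, rfl⟩)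
  obtain ⟨v, hv, hvx⟩ := hloc x ⟨t i ^ 2, fun h => ht i (Ideal.IsPrime.mem_of_pow_mem ‹_› 2 h),
    by rw [← mul_assoc, ← mul_pow]; exact hle hx⟩
  let N := ∏ j, t j ^ 8
  have hN : ∀ z ∈ prefixIdeal π i, N * z ∈ prefixIdeal (fun j => t j * π j) i := by
    intro z hz
    induction hz using Submodule.span_induction with
    | mem y hy =>
      obtain ⟨j, rfl⟩ := hy
      change N * π j ^ 8 ∈ _
      rw [show N = (∏ l ∈ Finset.univ.erase (j : Fin d), t l ^ 8) * t j ^ 8 from
        (Finset.prod_erase_mul _ _ (Finset.mem_univ (j : Fin d))).symm, mul_assoc, ← mul_pow]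
      exact Ideal.mul_mem_left _ _ (Ideal.subset_span ⟨j, rfl⟩)
    | zero => simp
    | add a b _ _ ha hb => rw [mul_add]; exact Ideal.add_mem _ ha hb
    | smul r a _ ha => rw [smul_eq_mul, mul_left_comm]; exact Ideal.mul_mem_left _ _ ha
  have hNP : N ∉ P := fun h => by
    obtain ⟨j, -, hj⟩ := Ideal.IsPrime.prod_mem_iff.1 h
    exact ht j (Ideal.IsPrime.mem_of_pow_mem ‹_› 8 hj)
  rw [hu, show u * s * π i * x = u * π i * (s * x) by ring]
  refine Ideal.mul_mem_left _ _ (hs x ⟨N * v, fun h => ?_, by rw [mul_assoc]; exact hN _ hvx⟩)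
  exact (Ideal.IsPrime.mem_or_mem ‹_› h).elim hNP hv

/-- Independence of parameters reflects along maps of local rings. -/
theorem indep_of_hom {T L : Type u} [CommRing T] [CommRing L] [IsLocalRing L] (f : T →+* L) (P : Ideal T) [P.IsPrime]
    (hP : (maximalIdeal L).comap f = P) {d : ℕ} (π : Fin d → T)
    (hind : ∀ c : Fin d → L, ∑ i, c i * f (π i) ∈ maximalIdeal L ^ 2 → ∀ i, c i ∈ maximalIdeal L)
    (c : Fin d → Localization.AtPrime P)
    (hc : ∑ i, c i * algebraMap T _ (π i) ∈ maximalIdeal (Localization.AtPrime P) ^ 2) (i : Fin d) :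
    c i ∈ maximalIdeal (Localization.AtPrime P) := by
  let F : Localization.AtPrime P →+* L := IsLocalization.lift (M := P.primeCompl) (g := f) fun y => by
    by_contra h
    exact y.2 (hP ▸ (IsLocalRing.mem_maximalIdeal (R := L) (f y)).2 h)
  have hF : ∀ x, F (algebraMap T _ x) = f x := fun x => IsLocalization.lift_eq _ x
  haveI : IsLocalHom F := ((IsLocalRing.local_hom_TFAE F).out 0 2).mpr (by
    rw [← Localization.AtPrime.map_eq_maximalIdeal, Ideal.map_map, Ideal.map_le_iff_le_comap]
    intro x hx
    change F (algebraMap T _ x) ∈ maximalIdeal L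
    rw [hF, ← Ideal.mem_comap, hP]
    exact hx)
  have h2 : F (∑ i, c i * algebraMap T _ (π i)) ∈ maximalIdeal L ^ 2 :=
    Ideal.pow_right_mono (((IsLocalRing.local_hom_TFAE F).out 0 2).mp ‹_›) 2
      ((Ideal.map_pow F _ 2).le (Ideal.mem_map_of_mem F hc))
  simp only [map_sum, map_mul, hF] at h2
  have h3 := hind (fun i => F (c i)) h2 i
  by_contra h
  exact (IsLocalRing.mem_maximalIdeal _).1 h3 ((IsLocalRing.notMem_maximalIdeal.1 h).map F)

theorem isRegularLocalRing_of_isSmoothAt (k : Type u) {T : Type u} [Field k] [CommRing T] [Algebra k T]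
    [Algebra.FinitePresentation k T] (P : Ideal T) [P.IsPrime] [Algebra.IsSmoothAt k P] :
    IsRegularLocalRing (Localization.AtPrime P) := by
  obtain ⟨g, hg, hsm⟩ := Algebra.IsSmoothAt.exists_notMem_smooth k P
  haveI := hsm
  let Tg := Localization.Away g
  haveI := Groth.Agent.GeomProp.isRegularRing_of_smooth k Tg
  have hdisj : Disjoint ((Submonoid.powers g : Submonoid T) : Set T) P :=
    (Ideal.disjoint_powers_iff_notMem_of_isPrime g).2 hg
  let Q := P.map (algebraMap T Tg)
  haveI : Q.IsPrime := IsLocalization.isPrime_of_isPrime_disjoint (Submonoid.powers g) Tg P inferInstance hdisj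
  have h1 : Q.comap (algebraMap T Tg) = P :=
    IsLocalization.under_map_of_isPrime_disjoint (Submonoid.powers g) _ inferInstance hdisj
  haveI := IsLocalization.isLocalization_isLocalization_atPrime_isLocalization (Submonoid.powers g)
    (Localization.AtPrime Q) Q
  have hloc : IsLocalization.AtPrime (Localization.AtPrime Q) (Q.comap (algebraMap T Tg)) :=
    IsLocalization.isLocalization_isLocalization_atPrime_isLocalization (Submonoid.powers g) _ Q
  haveI : IsLocalization.AtPrime (Localization.AtPrime Q) P := by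
    convert hloc using 2
    exact h1.symm
  haveI : IsRegularLocalRing (Localization.AtPrime Q) := IsRegularRing.isRegularLocalRing_localization Q
  exact IsRegularLocalRing.of_ringEquiv (R := Localization.AtPrime Q)
    (IsLocalization.algEquiv P.primeCompl (Localization.AtPrime Q) (Localization.AtPrime P)).toRingEquiv

/-- Scaling by units near `q` makes the annihilator conditions hold in a smooth extension and in the target. -/
theorem exists_scaling {k R Λ : Type u} [Field k] [CommRing R] [Algebra k R] [Algebra.FinitePresentation k R]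
    [CommRing Λ] [Algebra k Λ] [IsNoetherianRing Λ] (f : R →ₐ[k] Λ) (q : Ideal Λ) [q.IsPrime]
    [Algebra.IsSmoothAt k (q.comap f)] [IsRegularLocalRing (Localization.AtPrime q)] {d : ℕ} (x : Fin d → R)
    (hx : ∀ i, f (x i) ∈ q)
    (hind : ∀ c : Fin d → Localization.AtPrime q,
      ∑ i, c i * algebraMap Λ _ (f (x i)) ∈ maximalIdeal (Localization.AtPrime q) ^ 2 →
        ∀ i, c i ∈ maximalIdeal (Localization.AtPrime q))
    (E : ℕ) (hE : 0 < E) :
    ∀ i : ℕ, i ≤ d → ∃ (R' : Type u) (_ : CommRing R') (_ : Algebra k R') (_ : Algebra R R')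
      (_ : IsScalarTower k R R') (_ : Algebra.Smooth R R') (f' : R' →ₐ[k] Λ) (t : Fin d → R'),
      (∀ r, f' (algebraMap R R' r) = f r) ∧ (∀ j, f' (t j) ∉ q) ∧
      ∀ j : Fin d, (j : ℕ) < i →
        (∀ y, (t j * algebraMap R R' (x j) ^ E) ^ 2 * y ∈ prefixIdeal (fun l => t l * algebraMap R R' (x l) ^ E) j →
          t j * algebraMap R R' (x j) ^ E * y ∈ prefixIdeal (fun l => t l * algebraMap R R' (x l) ^ E) j) ∧
        (∀ y, (f' (t j) * f (x j) ^ E) ^ 2 * y ∈ prefixIdeal (fun l => f' (t l) * f (x l) ^ E) j →
          f' (t j) * f (x j) ^ E * y ∈ prefixIdeal (fun l => f' (t l) * f (x l) ^ E) j) := by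
  classical
  intro i
  induction i with
  | zero =>
    intro _
    exact ⟨R, inferInstance, inferInstance, Algebra.id R, IsScalarTower.right, inferInstance, f, fun _ => 1,
      fun _ => rfl, fun _ => by rw [map_one]; exact fun h => Ideal.IsPrime.ne_top ‹_› ((Ideal.eq_top_iff_one q).2 h),
      fun j hj => absurd hj (Nat.not_lt_zero _)⟩
  | succ i ih =>
    intro hi
    obtain ⟨R', _, _, _, _, _, f', t, hf', ht, hcond⟩ := ih (Nat.le_of_succ_le hi)
    let i₀ : Fin d := ⟨i, hi⟩
    haveI : Algebra.FinitePresentation k R' := Algebra.FinitePresentation.trans k R R'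
    haveI : IsNoetherianRing R' := Algebra.FiniteType.isNoetherianRing k R'
    let P : Ideal R' := q.comap f'
    haveI hPp : P.IsPrime := Ideal.comap_isPrime f' q
    haveI : Algebra.IsSmoothAt k P := by
      haveI : Algebra.IsSmoothAt k (P.comap (algebraMap R R')) := by
        have e : P.comap (algebraMap R R') = q.comap f := by ext r; simp [P, hf']
        simpa only [e]
      exact isSmoothAt_trans (R := k) (S := R) P
    haveI := isRegularLocalRing_of_isSmoothAt k P
    have hπP : ∀ l, algebraMap R R' (x l) ∈ P := fun l => by simp [P, hf', hx]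
    have hindP : ∀ c : Fin d → Localization.AtPrime P,
        ∑ l, c l * algebraMap R' _ (algebraMap R R' (x l)) ∈ maximalIdeal (Localization.AtPrime P) ^ 2 →
          ∀ l, c l ∈ maximalIdeal (Localization.AtPrime P) := fun c hc l =>
      indep_of_hom (T := R') ((algebraMap Λ (Localization.AtPrime q)).comp f'.toRingHom) P (by
          rw [← Ideal.comap_comap]
          change Ideal.comap f'.toRingHom ((maximalIdeal _).under Λ) = P
          rw [IsLocalization.AtPrime.under_maximalIdeal _ q]
          rfl)
        (fun l => algebraMap R R' (x l)) (fun c hc => hind c (by simpa [hf'] using hc)) c hc l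
    obtain ⟨sR, hsR, hkR⟩ := exists_torsion_killer P (prefixIdeal (fun l => t l * algebraMap R R' (x l) ^ E) i)
    obtain ⟨sΛ, hsΛ, hkΛ⟩ := exists_torsion_killer q (prefixIdeal (fun l => f' (t l) * f (x l) ^ E) i)
    let R'' := Polynomial R'
    let f'' : R'' →ₐ[k] Λ :=
      { Polynomial.eval₂RingHom f'.toRingHom sΛ with
        commutes' := fun c => by
          show Polynomial.eval₂ f'.toRingHom sΛ (Polynomial.C (algebraMap k R' c)) = _
          rw [Polynomial.eval₂_C]
          exact f'.commutes c }
    have hC : ∀ r, f'' (Polynomial.C r) = f' r := fun r => Polynomial.eval₂_C f'.toRingHom sΛ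
    let t'' : Fin d → R'' := Function.update (fun l => Polynomial.C (t l)) i₀ (Polynomial.X * Polynomial.C sR)
    have hsR' : f' sR ∉ q := hsR
    have hX : f'' Polynomial.X = sΛ := Polynomial.eval₂_X f'.toRingHom sΛ
    have ht''i : f'' (t'' i₀) = sΛ * f' sR := by simp [t'', hX, hC]
    have ht'' : ∀ l, f'' (t'' l) ∉ q := fun l => by
      by_cases hl : l = i₀
      · subst hl
        rw [ht''i]
        exact fun h => (Ideal.IsPrime.mem_or_mem ‹_› h).elim hsΛ hsR'
      · simp only [t'', Function.update_of_ne hl, hC]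
        exact ht l
    have halg : ∀ r, algebraMap R R'' r = Polynomial.C (algebraMap R R' r) := fun r => rfl
    have hne : ∀ {j : ℕ}, j ≤ i → ∀ l : {l : Fin d // (l : ℕ) < j}, (l : Fin d) ≠ i₀ := fun hj l h => by
      have := l.2
      rw [h] at this
      exact absurd this (not_lt.2 hj)
    have hJ : ∀ j : ℕ, j ≤ i → prefixIdeal (fun l => t'' l * algebraMap R R'' (x l) ^ E) j =
        (prefixIdeal (fun l => t l * algebraMap R R' (x l) ^ E) j).map Polynomial.C := fun j hj => by
      rw [prefixIdeal, prefixIdeal, Ideal.map_span, ← Set.range_comp]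
      refine congrArg Ideal.span (congrArg Set.range (funext fun l => ?_))
      simp [t'', Function.update_of_ne (hne hj l), halg]
    have hJΛ : ∀ j : ℕ, j ≤ i → prefixIdeal (fun l => f'' (t'' l) * f (x l) ^ E) j =
        prefixIdeal (fun l => f' (t l) * f (x l) ^ E) j := fun j hj => by
      refine congrArg Ideal.span (congrArg Set.range (funext fun l => ?_))
      simp [t'', Function.update_of_ne (hne hj l), hC]
    haveI : Algebra.Smooth R' R'' :=
      have : Algebra.Smooth R' (MvPolynomial (Fin 1) R') := ⟨inferInstance, inferInstance⟩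
      Algebra.Smooth.of_equiv (MvPolynomial.uniqueAlgEquiv R' (Fin 1))
    haveI : Algebra.Smooth R R'' := Algebra.Smooth.comp R R' R''
    refine ⟨R'', inferInstance, inferInstance, inferInstance, inferInstance, inferInstance, f'', t'',
      fun r => by rw [halg, hC, hf'], ht'', fun j hj => ?_⟩
    rcases Nat.lt_succ_iff_lt_or_eq.1 hj with hj | hj
    · have hji : j ≠ i₀ := fun h => by rw [h] at hj; exact lt_irrefl _ hj
      have hle : (j : ℕ) ≤ i := hj.le
      refine ⟨fun y hy => ?_, fun y hy => ?_⟩
      · rw [hJ j hle, Ideal.mem_map_C_iff] at hy ⊢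
        intro n
        simp only [t'', Function.update_of_ne hji, halg, ← map_pow Polynomial.C, ← map_mul Polynomial.C] at hy ⊢
        have hn := hy n
        rw [Polynomial.coeff_C_mul] at hn ⊢
        exact (hcond j hj).1 _ hn
      · simp only [hJΛ j hle, t'', Function.update_of_ne hji, hC] at hy ⊢
        exact (hcond j hj).2 y hy
    · have hji : j = i₀ := Fin.ext hj
      subst hji
      refine ⟨fun y hy => ?_, fun y hy => ?_⟩
      · rw [hJ _ le_rfl, Ideal.mem_map_C_iff] at hy ⊢
        intro n
        have ht2 : t'' i₀ * algebraMap R R'' (x i₀) ^ E =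
            Polynomial.X * Polynomial.C (sR * algebraMap R R' (x i₀) ^ E) := by
          simp [t'', halg, map_mul, mul_assoc]
        have key : ∀ z, (sR * algebraMap R R' (x i₀) ^ E) ^ 2 * z ∈
            prefixIdeal (fun l => t l * algebraMap R R' (x l) ^ E) i →
            sR * algebraMap R R' (x i₀) ^ E * z ∈ prefixIdeal (fun l => t l * algebraMap R R' (x l) ^ E) i := by
          intro z hz
          have hz' := scaled_condition P (fun l => algebraMap R R' (x l) ^ E) (Function.update t i₀ sR) i₀
            (exists_mul_mem_prefix P _ hπP hindP E hE i₀)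
            (fun l => by
              by_cases hl : l = i₀
              · subst hl; simp only [Function.update_self]; exact hsR
              · simp only [Function.update_of_ne hl]; exact ht l)
            (s := sR) (u := 1) (by simp) (fun w hw => ?_) z
          · have e : prefixIdeal (fun l => Function.update t i₀ sR l * algebraMap R R' (x l) ^ E) i₀ =
                prefixIdeal (fun l => t l * algebraMap R R' (x l) ^ E) i := by
              refine congrArg Ideal.span (congrArg Set.range (funext fun l => ?_))
              simp [Function.update_of_ne (hne le_rfl l)]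
            simp only [e, Function.update_self] at hz'
            exact hz' hz
          · have e : prefixIdeal (fun l => Function.update t i₀ sR l * algebraMap R R' (x l) ^ E) i₀ =
                prefixIdeal (fun l => t l * algebraMap R R' (x l) ^ E) i := by
              refine congrArg Ideal.span (congrArg Set.range (funext fun l => ?_))
              simp [Function.update_of_ne (hne le_rfl l)]
            simp only [e] at hw ⊢
            exact hkR w hw
        rw [ht2] at hy ⊢
        rcases n with _ | n
        · rw [mul_assoc, Polynomial.coeff_X_mul_zero]; exact Submodule.zero_mem _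
        · have := hy (n + 2)
          rw [mul_pow, ← map_pow, mul_assoc, Polynomial.coeff_X_pow_mul] at this
          rw [mul_assoc, Polynomial.coeff_X_mul, Polynomial.coeff_C_mul]
          rw [Polynomial.coeff_C_mul] at this
          exact key _ this
      · have e : prefixIdeal (fun l => Function.update (fun l => f' (t l)) i₀ (sΛ * f' sR) l * f (x l) ^ E) i₀ =
            prefixIdeal (fun l => f' (t l) * f (x l) ^ E) i := by
          refine congrArg Ideal.span (congrArg Set.range (funext fun l => ?_))
          simp [Function.update_of_ne (hne le_rfl l)]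
        have := scaled_condition q (fun l => f (x l) ^ E) (Function.update (fun l => f' (t l)) i₀ (sΛ * f' sR)) i₀
          (exists_mul_mem_prefix q _ hx hind E hE i₀)
          (fun l => by
            by_cases hl : l = i₀
            · subst hl; simp only [Function.update_self]
              exact fun h => (Ideal.IsPrime.mem_or_mem ‹_› h).elim hsΛ hsR'
            · simp only [Function.update_of_ne hl]; exact ht l)
          (s := sΛ) (u := f' sR) (by simp [mul_comm])
          (fun w hw => by simp only [e] at hw ⊢; exact hkΛ w hw) y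
        simp only [e, Function.update_self] at this
        simp only [ht''i] at hy ⊢
        rw [hJΛ _ (le_refl i)] at hy ⊢
        exact this hy

end Groth.Agent.Popescu
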