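import Mathlib
import Groth.Agent.Popescu.Basic
import Groth.Agent.Popescu.Deriv
import Groth.Agent.Popescu.Scale

/-!
The envelope: a finitely presented algebra, smooth at the given prime and where the chosen elements do not vanish,
which carries the complete intersection model modulo powers of the parameters.
-/

set_option autoImplicit false
set_option linter.style.haveILetI false

universe u

namespace Groth.Agent.Popescu

open MvPolynomial

/-- The variables of the envelope. -/
inductive Var (d m c r : ℕ) : Type
  | x (i : Fin d)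
  | u (j : Fin m)
  | v
  | sg
  | al (j : Fin r)
  | z (l : Fin c ⊕ Fin r) (i : Fin d)
  | w (l : Fin c ⊕ Fin r) (j : Fin r)
  deriving Fintype, DecidableEq

theorem exists_homog {k : Type u} [CommRing k] {d m c r : ℕ} (g : MvPolynomial (Fin d ⊕ Fin m) k) :
    ∃ (G : MvPolynomial (Var d m c r) k) (N : ℕ), (∀ l j, pderiv (Var.w l j) G = 0) ∧
      (∀ (T : Type u) [CommRing T] (h h' : MvPolynomial (Var d m c r) k →+* T), (∀ a, h (C a) = h' (C a)) →
        (∀ i, h (X (Var.x i)) = h' (X (Var.x i))) → (∀ j, h (X (Var.u j)) = h' (X (Var.u j))) →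
        h (X Var.v) = h' (X Var.v) → h G = h' G) ∧
      ∀ (T : Type u) [CommRing T] (h : MvPolynomial (Var d m c r) k →+* T) (yv : Fin m → T),
        (∀ j, h (X Var.v) * yv j = h (X (Var.u j))) →
        h G = h (X Var.v) ^ N * eval₂Hom (h.comp C) (Sum.elim (fun i => h (X (Var.x i))) yv) g := by
  induction g using MvPolynomial.induction_on with
  | C a => exact ⟨C a, 0, fun l j => pderiv_C, fun T _ h h' hc _ _ _ => hc a, fun T _ h yv _ => by simp⟩
  | add p q hp hq =>
    obtain ⟨G, N, hw, hi, hG⟩ := hp
    obtain ⟨G', N', hw', hi', hG'⟩ := hq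
    refine ⟨X Var.v ^ N' * G + X Var.v ^ N * G', N + N', fun l j => ?_, fun T _ h h' hc hx hu hv => by
      simp only [map_add, map_mul, map_pow, hi T h h' hc hx hu hv, hi' T h h' hc hx hu hv, hv], fun T _ h yv hy => ?_⟩
    · simp [pderiv_mul, hw, hw', pderiv_pow, pderiv_X_of_ne]
    · simp only [map_add, map_mul, map_pow, hG T h yv hy, hG' T h yv hy]
      ring
  | mul_X p i hp =>
    obtain ⟨G, N, hw, hi, hG⟩ := hp
    rcases i with i | j
    · refine ⟨G * X (Var.x i), N, fun l j => ?_, fun T _ h h' hc hx hu hv => by
        simp only [map_mul, hi T h h' hc hx hu hv, hx], fun T _ h yv hy => ?_⟩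
      · simp [pderiv_mul, hw, pderiv_X_of_ne]
      · simp only [map_mul, hG T h yv hy, eval₂Hom_X', Sum.elim_inl]
        ring
    · refine ⟨G * X (Var.u j), N + 1, fun l j' => ?_, fun T _ h h' hc hx hu hv => by
        simp only [map_mul, hi T h h' hc hx hu hv, hu], fun T _ h yv hy => ?_⟩
      · simp [pderiv_mul, hw, pderiv_X_of_ne]
      · simp only [map_mul, hG T h yv hy, eval₂Hom_X', Sum.elim_inr, ← hy]
        ring

theorem minor_mem {k R : Type u} [CommRing k] [CommRing R] [Algebra k R] {σ ρ : Type} [Fintype σ] [Fintype ρ]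
    [DecidableEq ρ] (G : ρ → MvPolynomial σ k) (hom : MvPolynomial σ k →ₐ[k] R) (hs : Function.Surjective hom)
    (hker : RingHom.ker hom.toRingHom = Ideal.span (Set.range G)) (cols : ρ → σ) :
    hom (Matrix.det (Matrix.of fun l j => pderiv (cols j) (G l))) ∈ Smoothing.singularIdeal k R := by
  classical
  by_cases hinj : Function.Injective cols
  swap
  · simp only [Function.Injective, not_forall] at hinj
    obtain ⟨a, b, hab, hne⟩ := hinj
    rw [Matrix.det_zero_of_column_eq hne (fun l => by simp [hab]), map_zero]
    exact Submodule.zero_mem _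
  let eσ := Fintype.equivFin σ
  let eρ := Fintype.equivFin ρ
  let G' : Fin (Fintype.card ρ) → MvPolynomial (Fin (Fintype.card σ)) k := fun l => rename eσ (G (eρ.symm l))
  let hom' : MvPolynomial (Fin (Fintype.card σ)) k →ₐ[k] R := hom.comp (rename eσ.symm)
  have hee : ∀ p : MvPolynomial σ k, rename eσ.symm (rename eσ p) = p := fun p => by
    rw [rename_rename, Equiv.symm_comp_self, rename_id_apply]
  have hee' : ∀ p : MvPolynomial (Fin (Fintype.card σ)) k, rename eσ (rename eσ.symm p) = p := fun p => by
    rw [rename_rename, Equiv.self_comp_symm, rename_id_apply]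
  have hker' : RingHom.ker hom'.toRingHom = Ideal.span (Set.range G') := by
    refine le_antisymm (fun p hp => ?_) (Ideal.span_le.2 ?_)
    · have h1 : rename eσ.symm p ∈ Ideal.span (Set.range G) := by rw [← hker]; exact hp
      have h2 := Ideal.mem_map_of_mem (rename eσ) h1
      rw [hee', Ideal.map_span, ← Set.range_comp] at h2
      refine Ideal.span_mono ?_ h2
      rintro _ ⟨l, rfl⟩
      exact ⟨eρ l, by simp [G']⟩
    · rintro _ ⟨l, rfl⟩
      have h2 : G (eρ.symm l) ∈ RingHom.ker hom.toRingHom := hker ▸ Ideal.subset_span ⟨_, rfl⟩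
      change hom (rename eσ.symm (G' l)) = 0
      simp only [G', hee]
      exact h2
  have := minor_mem_singularIdeal G' hom' (fun x => by
      obtain ⟨p, rfl⟩ := hs x
      exact ⟨rename eσ p, by simp [hom', hee]⟩) hker' (Fintype.card_le_of_injective cols hinj |>.trans' le_rfl)
    (fun j => eσ (cols (eρ.symm j)))
  have hdet : Smoothing.jacobianMinor G' id (fun j => eσ (cols (eρ.symm j))) =
      rename eσ (Matrix.det (Matrix.of fun l j => pderiv (cols j) (G l))) := by
    rw [Smoothing.jacobianMinor, AlgHom.map_det, ← Matrix.det_submatrix_equiv_self eρ.symm]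
    congr 1
    ext l j
    simp [G', pderiv_rename eσ.injective]
  rw [hdet] at this
  simpa [hom', hee] using this

set_option maxHeartbeats 1000000 in
/-- The envelope of a model. -/
theorem exists_envelope {k Λ : Type u} [Field k] [CommRing Λ] [Algebra k Λ] [IsNoetherianRing Λ] (q : Ideal Λ)
    [q.IsPrime] (hL : CAlgX.IsAdicFormallySmooth k (Localization.AtPrime q)
      (IsLocalRing.maximalIdeal (Localization.AtPrime q)))
    {d m c r : ℕ} (p : Fin d → Λ) (hpq : ∀ i, p i ∈ q) (e : ℕ) (he : 2 ≤ e)
    (a : Fin m → Λ) (b : Λ) (hb : b ∉ q) (y : Fin m → Localization.AtPrime q)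
    (hy : ∀ j, algebraMap Λ _ b * y j = algebraMap Λ _ (a j))
    (f : Fin c → MvPolynomial (Fin d ⊕ Fin m) k)
    (hf : ∀ l, aeval (Sum.elim (fun i => algebraMap Λ (Localization.AtPrime q) (p i)) y) (f l) ∈
      Ideal.span (Set.range fun i => algebraMap Λ (Localization.AtPrime q) (p i) ^ e))
    (hsurj : ∀ t : Fin c → IsLocalRing.ResidueField (Localization.AtPrime q),
      ∃ h : MvPolynomial (Fin d ⊕ Fin m) k →+* DualNumber (IsLocalRing.ResidueField (Localization.AtPrime q)),
        (∀ g, TrivSqZeroExt.fst (h g) = IsLocalRing.residue _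
          (aeval (Sum.elim (fun i => algebraMap Λ (Localization.AtPrime q) (p i)) y) g)) ∧
        ∀ l, TrivSqZeroExt.snd (h (f l)) = t l)
    (al : Fin r → Λ) (halq : ∀ j, al j ∈ q)
    (hal : ∀ j, algebraMap Λ (Localization.AtPrime q) (al j) ∈
      Ideal.span (Set.range fun i => algebraMap Λ (Localization.AtPrime q) (p i) ^ e)) :
    ∃ (R : Type u) (_ : CommRing R) (_ : Algebra k R) (_ : Algebra.FinitePresentation k R) (fR : R →ₐ[k] Λ)
      (x : Fin d → R) (U : Fin m → R) (V S : R) (A : Fin r → R) (W : (Fin c ⊕ Fin r) × Fin r → R),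
      (∀ i, fR (x i) = p i) ∧ (∀ j, fR (U j) = a j) ∧ fR V = b ∧ fR S ∉ q ∧ (∀ z, fR (W z) = 0) ∧
      (∀ j, fR (A j) = al j) ∧ (∀ j, A j ∈ Smoothing.singularIdeal k R) ∧
      Algebra.IsSmoothAt k (q.comap fR) ∧
      ∀ (T : Type u) [CommRing T] [IsLocalRing T] (h : R →+* T), IsUnit (h V) → IsUnit (h S) →
        (∀ z, h (W z) ∈ IsLocalRing.maximalIdeal T) → (∀ i, h (x i) ^ e = 0) →
        ∀ yv : Fin m → T, (∀ j, h V * yv j = h (U j)) →
        ∀ l, eval₂Hom (h.comp (algebraMap k R)) (Sum.elim (fun i => h (x i)) yv) (f l) = 0 := by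
  classical
  let L := Localization.AtPrime q
  let fL := algebraMap Λ L
  let K := IsLocalRing.ResidueField L
  let σ := Var d m c r
  let ρ := Fin c ⊕ Fin r
  choose F N hFw hFi hF using fun l => exists_homog (c := c) (r := r) (f l)
  let Base : ρ → MvPolynomial σ k := Sum.elim F fun j => X (Var.al j)
  let G : ρ → MvPolynomial σ k := fun l => X Var.sg * Base l - ∑ i, X (Var.z l i) * X (Var.x i) ^ e -
    ∑ j, X (Var.al j) * X (Var.w l j)
  -- values
  let Je : Ideal Λ := Ideal.span (Set.range fun i => p i ^ e)
  obtain ⟨s, hs, hsk⟩ := exists_torsion_killer q Je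
  let vals0 : σ → Λ := fun
    | Var.x i => p i
    | Var.u j => a j
    | Var.v => b
    | Var.sg => s
    | Var.al j => al j
    | Var.z _ _ => 0
    | Var.w _ _ => 0
  have hbase : ∀ l, s * aeval vals0 (Base l) ∈ Je := by
    intro l
    refine hsk _ ?_
    have hmap : Je.map fL = Ideal.span (Set.range fun i => fL (p i) ^ e) := by
      rw [Ideal.map_span, ← Set.range_comp]
      exact congrArg Ideal.span (congrArg Set.range (funext fun i => by simp [fL]))
    have hmem : fL (aeval vals0 (Base l)) ∈ Je.map fL := by
      rw [hmap]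
      rcases l with l | j
      · have h1 := hF l L (fL.comp (aeval vals0).toRingHom) y (fun j => by
          simp only [RingHom.comp_apply, AlgHom.toRingHom_eq_coe, RingHom.coe_coe, aeval_X, vals0]
          exact hy j)
        simp only [RingHom.comp_apply, AlgHom.toRingHom_eq_coe, RingHom.coe_coe, aeval_X] at h1
        simp only [Base, Sum.elim_inl, h1]
        refine Ideal.mul_mem_left _ _ ?_
        convert hf l using 1
        rw [aeval_def]
        refine congrArg (fun z : k →+* L => eval₂ z _ (f l)) (RingHom.ext fun z => ?_)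
        simp [fL, ← IsScalarTower.algebraMap_apply]
        rfl
      · simpa [Base, vals0] using hal j
    obtain ⟨u, hu, hux⟩ := (IsLocalization.algebraMap_mem_map_algebraMap_iff q.primeCompl L _ _).1 hmem
    exact ⟨u, hu, hux⟩
  choose z hz using fun l => Ideal.mem_span_range_iff_exists_fun.1 (hbase l)
  let vals : σ → Λ := fun
    | Var.x i => p i
    | Var.u j => a j
    | Var.v => b
    | Var.sg => s
    | Var.al j => al j
    | Var.z l i => z l i
    | Var.w _ _ => 0
  have hbase' : ∀ l, aeval vals (Base l) = aeval vals0 (Base l) := by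
    intro l
    rcases l with l | j
    · simp only [Base, Sum.elim_inl]
      exact hFi l Λ (aeval vals).toRingHom (aeval vals0).toRingHom (fun z => by simp) (fun i => by simp [vals, vals0])
        (fun j => by simp [vals, vals0]) (by simp [vals, vals0])
    · simp [Base, vals, vals0]
  have hG0 : ∀ l, aeval vals (G l) = 0 := by
    intro l
    simp only [G, map_sub, map_mul, map_sum, map_pow, aeval_X, hbase', vals, mul_zero, Finset.sum_const_zero, sub_zero]
    rw [sub_eq_zero]
    exact (hz l).symm
  obtain ⟨R, _, _, π, hπs, hπk⟩ : ∃ (R : Type u) (_ : CommRing R) (_ : Algebra k R)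
      (π : MvPolynomial σ k →ₐ[k] R), Function.Surjective π ∧ RingHom.ker π.toRingHom = Ideal.span (Set.range G) :=
    ⟨MvPolynomial σ k ⧸ Ideal.span (Set.range G), inferInstance, inferInstance, Ideal.Quotient.mkₐ k _,
      Ideal.Quotient.mkₐ_surjective k _, Ideal.Quotient.mkₐ_ker k _⟩
  haveI : Algebra.FinitePresentation k R :=
    Algebra.FinitePresentation.of_surjective hπs (by rw [hπk]; exact Submodule.fg_span (Set.finite_range G))
  have hGπ : ∀ l, π (G l) = 0 := fun l =>
    RingHom.mem_ker.1 (show G l ∈ RingHom.ker π.toRingHom from hπk ▸ Ideal.subset_span ⟨l, rfl⟩)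
  let fR : R →ₐ[k] Λ := AlgHom.liftOfSurjective π hπs (aeval vals) (by
    rw [hπk, Ideal.span_le]
    rintro _ ⟨l, rfl⟩
    exact hG0 l)
  have hfR : ∀ g, fR (π g) = aeval vals g := fun g => AlgHom.liftOfSurjective_apply _ _ _ _ g
  refine ⟨R, inferInstance, inferInstance, inferInstance, fR, fun i => π (X (Var.x i)), fun j => π (X (Var.u j)),
    π (X Var.v), π (X Var.sg), fun j => π (X (Var.al j)), fun zz => π (X (Var.w zz.1 zz.2)),
    fun i => by simp [hfR, vals], fun j => by simp [hfR, vals], by simp [hfR, vals],
    by simp only [hfR, aeval_X, vals]; exact hs, fun zz => by simp [hfR, vals], fun j => by simp [hfR, vals],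
    fun j => ?_, ?_, ?_⟩
  · -- smooth where `al j` is invertible
    have h1 := minor_mem G π hπs hπk (fun l => Var.w l j)
    have hwB : ∀ l l', pderiv (Var.w l j : σ) (Base l') = 0 := by
      intro l l'
      rcases l' with l' | j'
      · exact hFw l' l j
      · simp [Base]
    have hM : (Matrix.of fun l' l => pderiv (Var.w l j : σ) (G l')) =
        Matrix.diagonal fun _ : ρ => (-X (Var.al j) : MvPolynomial σ k) := by
      ext l' l
      simp only [G, Matrix.of_apply, map_sub, map_sum, pderiv_mul, pderiv_pow, hwB, Matrix.diagonal_apply]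
      simp [pderiv_X, Pi.single_apply, Finset.sum_ite_eq', eq_comm]
      split <;> simp_all
    rw [hM, Matrix.det_diagonal, Finset.prod_const, map_pow, map_neg] at h1
    have h2 : π (X (Var.al j)) ^ (Finset.univ : Finset ρ).card ∈ Smoothing.singularIdeal k R := by
      have := Ideal.mul_mem_left _ ((-1) ^ (Finset.univ : Finset ρ).card) h1
      rwa [← mul_pow, neg_one_mul, neg_neg] at this
    rw [Smoothing.singularIdeal, PrimeSpectrum.mem_vanishingIdeal] at h2 ⊢
    exact fun Q hQ => Q.isPrime.mem_of_pow_mem _ (h2 Q hQ)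
  · -- smooth at `q`
    let res := IsLocalRing.residue L
    let evL : MvPolynomial σ k →ₐ[k] L := (IsScalarTower.toAlgHom k Λ L).comp (aeval vals)
    have hevL : ∀ g, evL g = fL (aeval vals g) := fun g => rfl
    have hind := fun t ht => jacobian_indep (K := K) hL res (fun x hx => (IsLocalRing.residue_eq_zero_iff x).2 hx)
      evL G (fun l => by rw [hevL, hG0, map_zero]) (fun t => ?_) t ht
    · let eρ := Fintype.equivFin ρ
      obtain ⟨cols, hcols⟩ := exists_minor_ne_zero (fun l i => res (evL (pderiv i (G (eρ.symm l))))) (fun t ht => by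
        have h0 := hind (fun l => t (eρ l)) fun i => by
          rw [← ht i, ← eρ.sum_comp]
          simp
        funext l
        simpa using congrFun h0 (eρ.symm l))
      have h1 := minor_mem G π hπs hπk (fun l => cols (eρ l))
      by_contra hns
      rw [Smoothing.singularIdeal, PrimeSpectrum.mem_vanishingIdeal] at h1
      have h2 := h1 ⟨q.comap fR, Ideal.comap_isPrime fR q⟩ hns
      apply hcols
      rw [← Matrix.det_submatrix_equiv_self eρ, ← RingHom.map_zero res]
      have h3 : fL (aeval vals (Matrix.det (Matrix.of fun l j => pderiv (cols (eρ j)) (G l)))) ∈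
          IsLocalRing.maximalIdeal L := by
        rw [IsLocalization.AtPrime.to_map_mem_maximal_iff L q, ← hfR]
        exact h2
      rw [map_zero, ← (IsLocalRing.residue_eq_zero_iff _).2 h3, ← hevL]
      change _ = (res.comp evL.toRingHom) _
      rw [RingHom.map_det]
      congr 1
      ext l j
      simp [res]
    · -- prescribed differentials
      let sb := res (fL s)
      let bb := res (fL b)
      have hunit : ∀ x ∉ q, res (fL x) ≠ 0 := fun x hx h => hx
        ((IsLocalization.AtPrime.to_map_mem_maximal_iff L q x).1 ((IsLocalRing.residue_eq_zero_iff _).1 h))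
      obtain ⟨h0, hh0, hh0f⟩ := hsurj fun l => t (Sum.inl l) / (sb * bb ^ N l)
      let yd : Fin m → DualNumber K := fun j => h0 (X (Sum.inr j))
      let hv : σ → DualNumber K := fun
        | Var.x i => h0 (X (Sum.inl i))
        | Var.u j => TrivSqZeroExt.inl bb * yd j
        | Var.v => TrivSqZeroExt.inl bb
        | Var.sg => TrivSqZeroExt.inl sb
        | Var.al j => TrivSqZeroExt.inr (t (Sum.inr j) / sb)
        | Var.z l i => TrivSqZeroExt.inl (res (fL (z l i)))
        | Var.w _ _ => 0
      let h : MvPolynomial σ k →+* DualNumber K := eval₂Hom (h0.comp C) hv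
      have hfst : ∀ g, TrivSqZeroExt.fst (h g) = res (evL g) := by
        refine fun g => RingHom.congr_fun (show (TrivSqZeroExt.fstHom K K K).toRingHom.comp h =
          res.comp evL.toRingHom from MvPolynomial.ringHom_ext (fun z => ?_) fun i => ?_) g
        · change TrivSqZeroExt.fst (h (C z)) = res (evL (C z))
          simp only [h, eval₂Hom_C, RingHom.comp_apply, hh0]
          congr 1
          rw [← MvPolynomial.algebraMap_eq, ← MvPolynomial.algebraMap_eq, AlgHom.commutes, AlgHom.commutes]
        · change TrivSqZeroExt.fst (h (X i)) = res (evL (X i))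
          simp only [h, eval₂Hom_X', hevL, aeval_X]
          cases i with
          | x i => simp [hv, vals, hh0, res, fL, L]
          | u j =>
            simp only [hv, vals, yd, TrivSqZeroExt.fst_mul, TrivSqZeroExt.fst_inl, hh0, aeval_X, Sum.elim_inr]
            rw [← map_mul, hy]
          | v => simp [hv, vals, bb]
          | sg => simp [hv, vals, sb]
          | al j =>
            simp only [hv, vals, TrivSqZeroExt.fst_inr]
            exact ((IsLocalRing.residue_eq_zero_iff _).2
              ((IsLocalization.AtPrime.to_map_mem_maximal_iff L q _).2 (halq j))).symm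
          | z l i => simp [hv, vals]
          | w l j => simp [hv, vals]
      refine ⟨h, hfst, fun l => ?_⟩
      have hsq : ∀ i, h (X (Var.x i)) ^ e = 0 := fun i => by
        have h2 : h (X (Var.x i)) ^ 2 = 0 := by
          have hf0 : TrivSqZeroExt.fst (h (X (Var.x i))) = 0 := by
            rw [hfst, hevL, aeval_X]
            exact (IsLocalRing.residue_eq_zero_iff _).2
              ((IsLocalization.AtPrime.to_map_mem_maximal_iff L q _).2 (hpq i))
          rw [pow_two]
          ext
          · simp [hf0]
          · simp [hf0]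
        rw [← Nat.add_sub_cancel' he, pow_add, h2, zero_mul]
      simp only [G, map_sub, map_mul, map_sum, map_pow, hsq, mul_zero, Finset.sum_const_zero, sub_zero]
      rw [show ∑ j, h (X (Var.al j)) * h (X (Var.w l j)) = 0 from Finset.sum_eq_zero fun j _ => by simp [h, hv],
        sub_zero, show h (X Var.sg) = TrivSqZeroExt.inl sb by simp [h, hv]]
      rcases l with l | j
      · simp only [Base, Sum.elim_inl]
        rw [hF l _ h yd (fun j => by simp [h, hv])]
        have e1 : eval₂Hom (h.comp C) (Sum.elim (fun i => h (X (Var.x i))) yd) (f l) = h0 (f l) :=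
          RingHom.congr_fun (show eval₂Hom (h.comp C) (Sum.elim (fun i => h (X (Var.x i))) yd) = h0 from
            MvPolynomial.ringHom_ext (fun z => by simp [h]) fun i => by rcases i with i | j <;> simp [h, hv, yd]) (f l)
        rw [e1, show h (X Var.v) = TrivSqZeroExt.inl bb by simp [h, hv], TrivSqZeroExt.inl_pow]
        simp only [← mul_assoc, ← TrivSqZeroExt.inl_mul, TrivSqZeroExt.snd_mul, TrivSqZeroExt.fst_inl,
          TrivSqZeroExt.snd_inl, hh0f, smul_eq_mul, smul_zero, add_zero, MulOpposite.op_mul, mul_zero, zero_mul]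
        exact mul_div_cancel₀ _ (mul_ne_zero (hunit s hs) (pow_ne_zero _ (hunit b hb)))
      · simp only [Base, Sum.elim_inr]
        rw [show h (X (Var.al j)) = TrivSqZeroExt.inr (t (Sum.inr j) / sb) by simp [h, hv]]
        simp only [TrivSqZeroExt.snd_mul, TrivSqZeroExt.fst_inl, TrivSqZeroExt.snd_inl, TrivSqZeroExt.snd_inr,
          TrivSqZeroExt.fst_inr, smul_eq_mul, smul_zero, add_zero]
        exact mul_div_cancel₀ _ (hunit s hs)
  · -- vanishing of the model equations
    intro T _ _ h hV hS hW hx yv hyv l
    let H : MvPolynomial σ k →+* T := h.comp π.toRingHom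
    have hH : ∀ g, H g = h (π g) := fun g => rfl
    have hrow : ∀ l, h (π (X Var.sg)) * H (Base l) = ∑ j, H (X (Var.al j)) * H (X (Var.w l j)) := fun l => by
      have := congrArg h (hGπ l)
      simp only [G, map_sub, map_mul, map_sum, map_pow, map_zero, hx, mul_zero, Finset.sum_const_zero, sub_zero,
        sub_eq_zero] at this
      exact this
    have hA : ∀ j, H (X (Var.al j)) = 0 := by
      let M : Matrix (Fin r) (Fin r) T := Matrix.of fun j' j =>
        (if j' = j then h (π (X Var.sg)) else 0) - H (X (Var.w (Sum.inr j') j))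
      have hM0 : M.mulVec (fun j => H (X (Var.al j))) = 0 := by
        funext j'
        have := hrow (Sum.inr j')
        simp only [Base, Sum.elim_inr] at this
        simp only [M, Matrix.mulVec, dotProduct, Matrix.of_apply, sub_mul, ite_mul, zero_mul,
          Finset.sum_sub_distrib, Finset.sum_ite_eq, Finset.mem_univ, if_true, Pi.zero_apply, this]
        rw [sub_eq_zero]
        exact Finset.sum_congr rfl fun j _ => mul_comm _ _
      have hdet : IsUnit M.det := by
        refine isUnit_of_map_unit (IsLocalRing.residue T) _ ?_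
        have hdiag : (IsLocalRing.residue T).mapMatrix M =
            Matrix.diagonal fun _ : Fin r => IsLocalRing.residue T (h (π (X Var.sg))) := by
          ext j' j
          simp only [M, RingHom.mapMatrix_apply, Matrix.map_apply, Matrix.of_apply, map_sub,
            Matrix.diagonal_apply]
          rw [(IsLocalRing.residue_eq_zero_iff _).2 (show H (X (Var.w (Sum.inr j') j)) ∈ _ from hW (Sum.inr j', j)),
            sub_zero]
          split <;> simp
        rw [RingHom.map_det, hdiag, Matrix.det_diagonal, Finset.prod_const]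
        exact ((hS.map (IsLocalRing.residue T))).pow _
      intro j
      have := congrArg (fun w => M.adjugate.mulVec w j) hM0
      simp only [Matrix.mulVec_mulVec, Matrix.adjugate_mul, Matrix.smul_mulVec, Matrix.one_mulVec,
        Matrix.mulVec_zero, Pi.smul_apply, Pi.zero_apply, smul_eq_mul] at this
      exact hdet.mul_right_eq_zero.1 this
    have hFl : H (F l) = 0 := by
      have := hrow (Sum.inl l)
      simp only [Base, Sum.elim_inl, hA, zero_mul, Finset.sum_const_zero] at this
      exact hS.mul_right_eq_zero.1 this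
    rw [hF l T H yv hyv] at hFl
    have := (hV.pow (N l)).mul_right_eq_zero.1 hFl
    refine Eq.trans ?_ this
    refine RingHom.congr_fun (congrArg (fun z => eval₂Hom z _) (RingHom.ext fun z => ?_)) (f l)
    change h (algebraMap k R z) = h (π (C z))
    rw [← MvPolynomial.algebraMap_eq, AlgHom.commutes]

end Groth.Agent.Popescu
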