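import Mathlib
import Groth.Agent.Popescu.Deriv
import Groth.Agent.S6854
import Groth.Agent.RegLoc.QuasiRegular
import Groth.Agent.Popescu.Scale

/-!
A complete intersection model of a finite piece of an Artinian quotient of an adically formally smooth regular
local algebra in characteristic `p`.
-/

set_option autoImplicit false
set_option linter.style.haveILetI false

universe u

namespace Groth.Agent.Popescu

open IsLocalRing MvPolynomial

theorem indep_of_rsop {L : Type u} [CommRing L] [IsRegularLocalRing L] {d : ℕ} (π : Fin d → L)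
    (hspan : Ideal.span (Set.range π) = maximalIdeal L) (hdim : ringKrullDim L = d) (c : Fin d → L)
    (h : ∑ i, c i * π i ∈ maximalIdeal L ^ 2) (i : Fin d) : c i ∈ maximalIdeal L := by
  classical
  have hG : (∑ j, MvPolynomial.C (c j) * X j : MvPolynomial (Fin d) L).IsHomogeneous 1 :=
    IsHomogeneous.sum _ _ _ fun j _ => (isHomogeneous_X L j).C_mul _
  have := Groth.Agent.RegLoc.coeff_mem_of_eval_mem hspan hdim hG (by simpa using h) (Finsupp.single i 1)
  simpa [coeff_sum, coeff_C_mul, coeff_X', Finsupp.single_eq_single_iff] using this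

theorem isSMulRegular_mod_pows {S : Type u} [CommRing S] [IsRegularLocalRing S] {d : ℕ} (x : Fin (d + 1) → S)
    (hm : ∀ i, x i ∈ maximalIdeal S)
    (hind : ∀ c : Fin (d + 1) → S, ∑ i, c i * x i ∈ maximalIdeal S ^ 2 → ∀ i, c i ∈ maximalIdeal S)
    (n : Fin (d + 1)) (ε : Fin d → ℕ) (hε : ∀ i, 1 ≤ ε i) :
    IsSMulRegular (S ⧸ Ideal.span (Set.range fun i => x (n.succAbove i) ^ ε i)) (x n) := by
  let x' : Fin (d + 1) → S := Fin.snoc (fun i => x (n.succAbove i)) (x n)
  have hind' : ∀ c : Fin (d + 1) → S, ∑ i, c i * x' i ∈ maximalIdeal S ^ 2 → ∀ i, c i ∈ maximalIdeal S := by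
    intro c hc
    let c₀ : Fin (d + 1) → S := n.insertNth (c (Fin.last d)) (fun i => c i.castSucc)
    have h1 := hind c₀ (by
      rw [Fin.sum_univ_succAbove _ n]
      rw [Fin.sum_univ_castSucc] at hc
      simp only [c₀, x', Fin.insertNth_apply_same, Fin.insertNth_apply_succAbove, Fin.snoc_last,
        Fin.snoc_castSucc] at hc ⊢
      rwa [add_comm])
    intro i
    refine Fin.lastCases ?_ (fun i => ?_) i
    · simpa [c₀] using h1 n
    · simpa [c₀] using h1 (n.succAbove i)
  have hreg := isWeaklyRegular_of_indep (d + 1) S x' (fun i => by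
    refine Fin.lastCases ?_ (fun i => ?_) i <;> simp [x', hm]) hind'
  let l : List (S × ℕ) := (List.ofFn fun i => (x (n.succAbove i), ε i)) ++ [(x n, 1)]
  have hfst : l.map Prod.fst = List.ofFn x' := by
    rw [List.ofFn_succ']
    simp [l, x', List.map_ofFn, List.concat_eq_append, Function.comp_def]
  have h' := Groth.Agent.RegPow.isWeaklyRegular_pow l S (fun q hq => by
    simp only [l, List.mem_append, List.mem_ofFn, List.mem_singleton] at hq
    rcases hq with ⟨i, rfl⟩ | rfl
    · exact hε i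
    · exact le_rfl) (hfst ▸ hreg)
  simp only [l, List.map_append, List.map_cons, List.map_nil, List.map_ofFn, Function.comp_def, pow_one] at h'
  have h2 := ((RingTheory.Sequence.isWeaklyRegular_append_iff _ _ _).1 h').2
  have h1 := ((RingTheory.Sequence.isWeaklyRegular_cons_iff _ _ _).1 h2).1
  rw [smul_eq_mul, Ideal.mul_top] at h1
  have e : Ideal.ofList (List.ofFn fun i => x (n.succAbove i) ^ ε i) =
      Ideal.span (Set.range fun i => x (n.succAbove i) ^ ε i) :=
    congrArg Ideal.span (Set.ext fun z => List.mem_ofFn)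
  rw [e] at h1
  exact h1

theorem prod_pow_notMem {S : Type u} [CommRing S] [IsRegularLocalRing S] {d : ℕ} (x : Fin d → S)
    (hm : ∀ i, x i ∈ maximalIdeal S)
    (hind : ∀ c : Fin d → S, ∑ i, c i * x i ∈ maximalIdeal S ^ 2 → ∀ i, c i ∈ maximalIdeal S)
    (e : ℕ) (he : 1 ≤ e) : ∏ j, x j ^ (e - 1) ∉ Ideal.span (Set.range fun i => x i ^ e) := by
  classical
  suffices h : ∀ s : Finset (Fin d), ∏ j ∈ s, x j ^ (e - 1) ∉
      Ideal.span (Set.range fun i => x i ^ (if i ∈ s then e else 1)) by simpa using h Finset.univ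
  intro s
  induction s using Finset.induction_on with
  | empty =>
    intro h
    have hle : Ideal.span (Set.range fun i => x i ^ (if i ∈ (∅ : Finset (Fin d)) then e else 1)) ≤ maximalIdeal S :=
      Ideal.span_le.2 (by rintro _ ⟨i, rfl⟩; simpa using hm i)
    exact (maximalIdeal.isMaximal S).ne_top ((Ideal.eq_top_iff_one _).2 (hle (by simpa using h)))
  | @insert n s hn ih =>
    intro h
    obtain ⟨d, rfl⟩ : ∃ d', d = d' + 1 := ⟨d - 1, by have := n.2; omega⟩
    apply ih
    let J' : Ideal S := Ideal.span (Set.range fun i => x (n.succAbove i) ^ (if n.succAbove i ∈ s then e else 1))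
    have hJ' : J' ≤ Ideal.span (Set.range fun i => x i ^ (if i ∈ s then e else 1)) :=
      Ideal.span_le.2 (by rintro _ ⟨i, rfl⟩; exact Ideal.subset_span ⟨n.succAbove i, rfl⟩)
    have hsplit : Ideal.span (Set.range fun i => x i ^ (if i ∈ insert n s then e else 1)) ≤
        J' ⊔ Ideal.span {x n ^ e} := Ideal.span_le.2 (by
      rintro _ ⟨i, rfl⟩
      rcases Fin.eq_self_or_eq_succAbove n i with rfl | ⟨i, rfl⟩
      · exact Submodule.mem_sup_right (Ideal.subset_span (by simp))
      · refine Submodule.mem_sup_left (Ideal.subset_span ⟨i, ?_⟩)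
        simp [Finset.mem_insert, Fin.succAbove_ne])
    obtain ⟨z, hz, w, hw, hzw⟩ := Submodule.mem_sup.1 (hsplit h)
    obtain ⟨a, rfl⟩ := Ideal.mem_span_singleton'.1 hw
    rw [Finset.prod_insert hn] at hzw
    have hkey : x n ^ (e - 1) * ((∏ j ∈ s, x j ^ (e - 1)) - a * x n) ∈ J' := by
      have : x n ^ (e - 1) * ((∏ j ∈ s, x j ^ (e - 1)) - a * x n) = z := by
        rw [mul_sub, ← hzw, show x n ^ e = x n ^ (e - 1) * x n by rw [← pow_succ, Nat.sub_add_cancel he]]
        ring
      rw [this]; exact hz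
    have hreg := (isSMulRegular_mod_pows x hm hind n (fun i => if n.succAbove i ∈ s then e else 1)
      (fun i => by split <;> omega)).pow (e - 1)
    have h0 : (∏ j ∈ s, x j ^ (e - 1)) - a * x n ∈ J' := by
      rw [← Ideal.Quotient.eq_zero_iff_mem]
      refine hreg ?_
      change x n ^ (e - 1) • (Ideal.Quotient.mk J' _ : S ⧸ J') = x n ^ (e - 1) • 0
      rw [smul_zero, Algebra.smul_def, Ideal.Quotient.algebraMap_eq, ← map_mul]
      exact Ideal.Quotient.eq_zero_iff_mem.2 hkey
    have := Ideal.add_mem _ (hJ' h0) (Ideal.mul_mem_left _ a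
      (Ideal.subset_span ⟨n, rfl⟩ : x n ^ (if n ∈ s then e else 1) ∈ Ideal.span (Set.range fun i => x i ^ (if i ∈ s then e else 1))))
    simpa [hn] using this

theorem exists_indep_gens {R : Type u} [CommRing R] [IsLocalRing R] [IsNoetherianRing R] {γ : Type u}
    (g : γ → maximalIdeal R) {d : ℕ} (x : Fin d → maximalIdeal R)
    (hm : maximalIdeal R ≤ Ideal.span (Set.range fun i => (g i : R)) ⊔ Ideal.span (Set.range fun i => (x i : R))) :
    ∃ (c : ℕ) (sel : Fin c → γ),
      LinearIndependent (ResidueField R) (fun l => (maximalIdeal R).toCotangent (g (sel l))) ∧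
      maximalIdeal R ≤ Ideal.span (Set.range fun l => (g (sel l) : R)) ⊔ Ideal.span (Set.range fun i => (x i : R)) := by
  classical
  let cls : maximalIdeal R →ₗ[R] CotangentSpace R := (maximalIdeal R).toCotangent
  let W : Submodule (ResidueField R) (CotangentSpace R) := Submodule.span _ (Set.range fun i => cls (x i))
  obtain ⟨κ, sel, hsel, hselspan, hselind⟩ :=
    exists_linearIndependent' (ResidueField R) (fun i : γ => W.mkQ (cls (g i)))
  haveI : Finite κ := hselind.finite
  haveI := Fintype.ofFinite κ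
  let ι := (Fintype.equivFin κ).symm
  refine ⟨Fintype.card κ, sel ∘ ι, LinearIndependent.of_comp W.mkQ (hselind.comp ι ι.injective), ?_⟩
  refine Submodule.le_of_le_smul_of_le_jacobson_bot (IsNoetherian.noetherian (maximalIdeal R))
    (IsLocalRing.maximalIdeal_le_jacobson _) ?_
  rw [smul_eq_mul]
  refine hm.trans (sup_le (Ideal.span_le.2 ?_) (le_sup_right.trans le_sup_left))
  rintro _ ⟨j, rfl⟩
  have hc : W.mkQ (cls (g j)) ∈ Submodule.span (ResidueField R)
      (Set.range fun l => W.mkQ (cls (g (sel (ι l))))) := by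
    have h := ι.surjective.range_comp (fun i => W.mkQ (cls (g (sel i))))
    rw [show (Set.range fun l => W.mkQ (cls (g (sel (ι l))))) = Set.range ((fun i : γ => W.mkQ (cls (g i))) ∘ sel) from h,
      hselspan]
    exact Submodule.subset_span ⟨_, rfl⟩
  obtain ⟨b, hb⟩ := Submodule.mem_span_range_iff_exists_fun _ |>.1 hc
  choose b' hb' using fun l => IsLocalRing.residue_surjective (b l)
  have hcls : ∀ (r : R) (z : maximalIdeal R), cls (r • z) = residue R r • cls z := fun r z => by
    rw [map_smul, ← ResidueField.algebraMap_eq, IsScalarTower.algebraMap_smul]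
  have h2 : cls (g j - ∑ l, b' l • g (sel (ι l))) ∈ W := by
    rw [← Submodule.Quotient.mk_eq_zero, ← Submodule.mkQ_apply, map_sub, map_sum,
      show W.mkQ (cls (g j) - ∑ l, cls (b' l • g (sel (ι l)))) =
        W.mkQ (cls (g j)) - W.mkQ (∑ l, cls (b' l • g (sel (ι l)))) from map_sub _ _ _, sub_eq_zero,
      map_sum, ← hb]
    exact Finset.sum_congr rfl fun l _ => by rw [hcls, hb', LinearMap.map_smul]
  obtain ⟨b2, hb2⟩ := Submodule.mem_span_range_iff_exists_fun _ |>.1 h2
  choose b2' hb2' using fun i => IsLocalRing.residue_surjective (b2 i)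
  have h3 : cls (g j - ∑ l, b' l • g (sel (ι l))) = cls (∑ i, b2' i • x i) := by
    rw [← hb2, map_sum]
    exact Finset.sum_congr rfl fun i _ => by rw [hcls, hb2']
  have h4 := (Ideal.toCotangent_eq _).1 h3
  rw [pow_two] at h4
  simp only [Submodule.coe_sub, Submodule.coe_sum, Submodule.coe_smul, smul_eq_mul] at h4
  show (g j : R) ∈ _
  rw [show (g j : R) = ((g j : R) - ∑ l, b' l * (g (sel (ι l)) : R) - ∑ i, b2' i * (x i : R)) +
      (∑ l, b' l * (g (sel (ι l)) : R) + ∑ i, b2' i * (x i : R)) by ring]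
  exact Ideal.add_mem _ (Ideal.mem_sup_right h4) (Ideal.mem_sup_left (Ideal.add_mem _
    (Ideal.mem_sup_left (Ideal.sum_mem _ fun l _ => Ideal.mul_mem_left _ _ (Ideal.subset_span ⟨l, rfl⟩)))
    (Ideal.mem_sup_right (Ideal.sum_mem _ fun i _ => Ideal.mul_mem_left _ _ (Ideal.subset_span ⟨i, rfl⟩)))))

theorem mem_of_map_mem {R L : Type u} [CommRing R] [IsLocalRing R] [IsNoetherianRing R] [CommRing L]
    [IsRegularLocalRing L] (F' : R →+* L) {d : ℕ} (x : Fin d → R) (hx : ∀ i, x i ∈ maximalIdeal R)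
    (π : Fin d → L) (hxπ : ∀ i, F' (x i) = π i) (hπ : ∀ i, π i ∈ maximalIdeal L)
    (hind : ∀ c : Fin d → L, ∑ i, c i * π i ∈ maximalIdeal L ^ 2 → ∀ i, c i ∈ maximalIdeal L)
    (e : ℕ) (he : 1 ≤ e) (If : Ideal R) (hIf : If.map F' ≤ Ideal.span (Set.range fun i => π i ^ e))
    (hm : maximalIdeal R ≤ If ⊔ Ideal.span (Set.range x)) (z : R)
    (hz : F' z ∈ Ideal.span (Set.range fun i => π i ^ e)) : z ∈ If ⊔ Ideal.span (Set.range fun i => x i ^ e) := by
  classical
  set IT := If ⊔ Ideal.span (Set.range fun i => x i ^ e) with hITdef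
  have hIfIT : If ≤ IT := hITdef ▸ le_sup_left
  have hIT : IT.map F' ≤ Ideal.span (Set.range fun i => π i ^ e) := by
    rw [Ideal.map_sup, Ideal.map_span, ← Set.range_comp]
    refine sup_le hIf (Ideal.span_mono ?_)
    rintro _ ⟨i, rfl⟩
    exact ⟨i, by simp [hxπ]⟩
  by_contra hzIT
  obtain ⟨M, hM⟩ : ∃ M, maximalIdeal R ^ M ≤ IT := by
    refine Ideal.exists_pow_le_of_le_radical_of_fg (hm.trans (sup_le (le_sup_left.trans Ideal.le_radical) ?_))
      (IsNoetherian.noetherian _)
    rw [Ideal.span_le]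
    rintro _ ⟨i, rfl⟩
    exact ⟨e, Ideal.mem_sup_right (Ideal.subset_span ⟨i, rfl⟩)⟩
  have hex : ∃ n, z ∉ maximalIdeal R ^ n ⊔ IT := ⟨M, fun h => hzIT (sup_le hM le_rfl h)⟩
  obtain ⟨n, hn, hn1⟩ : ∃ n, z ∈ maximalIdeal R ^ n ⊔ IT ∧ z ∉ maximalIdeal R ^ (n + 1) ⊔ IT := by
    have h0 : Nat.find hex ≠ 0 := fun h => by
      have := Nat.find_spec hex
      rw [h, pow_zero, Ideal.one_eq_top, top_sup_eq] at this
      exact this trivial
    refine ⟨Nat.find hex - 1, ?_, by rw [Nat.sub_add_cancel (Nat.one_le_iff_ne_zero.2 h0)]; exact Nat.find_spec hex⟩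
    by_contra h
    exact Nat.find_min hex (Nat.sub_one_lt h0) h
  have hpow : ∀ j, maximalIdeal R ^ j ≤ Ideal.span (Set.range x) ^ j ⊔ IT := by
    intro j
    induction j with
    | zero => rw [pow_zero, pow_zero]; exact le_sup_left
    | succ j ih =>
      rw [pow_succ]
      refine (Ideal.mul_mono ih hm).trans ?_
      rw [Ideal.sup_mul, Ideal.mul_sup]
      refine sup_le (sup_le (Ideal.mul_le_right.trans (hIfIT.trans le_sup_right)) ?_) (Ideal.mul_le_left.trans le_sup_right)
      rw [← pow_succ]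
      exact le_sup_left
  obtain ⟨z1, hz1, r, hr, hzr⟩ := Submodule.mem_sup.1 (sup_le (hpow n) le_sup_right hn)
  obtain ⟨G, hG, rfl⟩ := Groth.Agent.RegLoc.exists_homogeneous_eval x n hz1
  obtain ⟨α, hα, hαe⟩ : ∃ α, IsUnit (G.coeff α) ∧ ∀ i, α i < e := by
    by_contra hc
    push Not at hc
    apply hn1
    rw [← hzr, eval_eq']
    refine Ideal.add_mem _ (Ideal.sum_mem _ fun α hα => ?_) (Ideal.mem_sup_right hr)
    by_cases hu : IsUnit (G.coeff α)
    · obtain ⟨i, hi⟩ := hc α hu
      refine Ideal.mem_sup_right (Ideal.mul_mem_left _ _ ?_)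
      rw [← Finset.mul_prod_erase Finset.univ _ (Finset.mem_univ i), ← Nat.add_sub_cancel' hi, pow_add, mul_assoc]
      exact Ideal.mul_mem_right _ _ (Ideal.mem_sup_right (Ideal.subset_span ⟨i, rfl⟩))
    · refine Ideal.mem_sup_left ?_
      rw [pow_succ']
      refine Ideal.mul_mem_mul ((IsLocalRing.mem_maximalIdeal _).2 hu) ?_
      have hdeg : ∑ i, α i = n := by
        have h := hG (mem_support_iff.1 hα)
        simpa [Finsupp.weight_apply, Finsupp.sum_fintype] using h
      rw [← hdeg, ← Finset.prod_pow_eq_pow_sum]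
      exact Ideal.prod_mem_prod fun i _ => Ideal.pow_mem_pow (hx i) _
  let w : R := ∏ i, x i ^ (e - 1 - α i)
  have hzw : z * w - G.coeff α * ∏ i, x i ^ (e - 1) ∈ IT := by
    rw [← hzr, eval_eq', add_mul, Finset.sum_mul, add_sub_right_comm]
    refine Ideal.add_mem _ ?_ (Ideal.mul_mem_right _ _ hr)
    have hαs : α ∈ G.support := mem_support_iff.2 hα.ne_zero
    rw [← Finset.sum_erase_add _ _ hαs,
      show G.coeff α * (∏ i, x i ^ α i) * w = G.coeff α * ∏ i, x i ^ (e - 1) by
        rw [mul_assoc, ← Finset.prod_mul_distrib]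
        exact congrArg _ (Finset.prod_congr rfl fun i _ => by
          rw [← pow_add]
          congr 1
          have := hαe i
          omega),
      add_sub_cancel_right]
    refine Ideal.sum_mem _ fun β hβ => ?_
    obtain ⟨hne, hβs⟩ := Finset.mem_erase.1 hβ
    obtain ⟨i, hi⟩ : ∃ i, α i < β i := by
      by_contra hc
      push Not at hc
      apply hne
      have h1 := hG (mem_support_iff.1 hβs)
      have h2 := hG (mem_support_iff.1 hαs)
      simp only [Finsupp.weight_apply, Finsupp.sum_fintype, zero_smul, implies_true, Pi.one_apply,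
        smul_eq_mul, mul_one] at h1 h2
      exact Finsupp.ext fun i =>
        (Finset.sum_eq_sum_iff_of_le fun i _ => hc i).1 (h1.trans h2.symm) i (Finset.mem_univ i)
    rw [mul_assoc, ← Finset.prod_mul_distrib]
    refine Ideal.mul_mem_left _ _ ?_
    rw [← Finset.mul_prod_erase Finset.univ _ (Finset.mem_univ i), ← pow_add,
      show β i + (e - 1 - α i) = e + (β i + (e - 1 - α i) - e) by omega, pow_add, mul_assoc]
    exact Ideal.mul_mem_right _ _ (Ideal.mem_sup_right (Ideal.subset_span ⟨i, rfl⟩))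
  have h0 := hIT (Ideal.mem_map_of_mem F' hzw)
  rw [map_sub, map_mul, map_mul] at h0
  have h1 : F' (G.coeff α) * F' (∏ i, x i ^ (e - 1)) ∈ Ideal.span (Set.range fun i => π i ^ e) := by
    have := Ideal.sub_mem _ (Ideal.mul_mem_right (F' w) _ hz) h0
    rwa [sub_sub_cancel] at this
  rw [Ideal.unit_mul_mem_iff_mem _ (hα.map F')] at h1
  refine prod_pow_notMem π hπ hind e he ?_
  simpa [hxπ] using h1

set_option maxHeartbeats 2000000 in
/-- The model: polynomial variables over `k` and a regular sequence `f` cutting out a finite piece of `L/(π^e)`. -/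
theorem exists_model {k L : Type u} [Field k] (p : ℕ) [Fact p.Prime] [CharP k p] [CommRing L] [IsRegularLocalRing L]
    [Algebra k L] (hL : CAlgX.IsAdicFormallySmooth k L (maximalIdeal L)) {d : ℕ} (π : Fin d → L)
    (hspan : Ideal.span (Set.range π) = maximalIdeal L) (hdim : ringKrullDim L = d) (e : ℕ) (he : 2 ≤ e)
    (E : Finset L) :
    ∃ (m c : ℕ) (y : Fin m → L) (f : Fin c → MvPolynomial (Fin d ⊕ Fin m) k),
      (∀ l, aeval (Sum.elim π y) (f l) ∈ Ideal.span (Set.range fun i => π i ^ e)) ∧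
      (∀ a : Fin c → ResidueField L, ∃ h : MvPolynomial (Fin d ⊕ Fin m) k →+* DualNumber (ResidueField L),
        (∀ q, TrivSqZeroExt.fst (h q) = residue L (aeval (Sum.elim π y) q)) ∧
          ∀ l, TrivSqZeroExt.snd (h (f l)) = a l) ∧
      (∀ z ∈ E, ∃ num den : MvPolynomial (Fin d ⊕ Fin m) k, IsUnit (aeval (Sum.elim π y) den) ∧
        aeval (Sum.elim π y) den * z - aeval (Sum.elim π y) num ∈ Ideal.span (Set.range fun i => π i ^ e)) ∧
      ∀ g, aeval (Sum.elim π y) g ∈ Ideal.span (Set.range fun i => π i ^ e) →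
        ∃ u, IsUnit (aeval (Sum.elim π y) u) ∧ u * g ∈ Ideal.span (Set.range f) ⊔
          Ideal.span (Set.range fun i => (X (Sum.inl i) : MvPolynomial (Fin d ⊕ Fin m) k) ^ e) := by
  classical
  let K := ResidueField L
  have hπm : ∀ i, π i ∈ maximalIdeal L := fun i => hspan ▸ Ideal.subset_span ⟨i, rfl⟩
  let Je : Ideal L := Ideal.span (Set.range fun i => π i ^ e)
  have hJm : Je ≤ maximalIdeal L :=
    Ideal.span_le.2 (by rintro _ ⟨i, rfl⟩; exact Ideal.pow_mem_of_mem _ (hπm i) e (by omega))
  let L' := L ⧸ Je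
  haveI : Nontrivial L' := Ideal.Quotient.nontrivial_iff.2 (ne_top_of_le_ne_top (maximalIdeal.isMaximal L).ne_top hJm)
  haveI : IsLocalRing L' := IsLocalRing.of_surjective' _ Ideal.Quotient.mk_surjective
  haveI hloc : IsLocalHom (Ideal.Quotient.mk Je) := IsLocalHom.of_surjective _ Ideal.Quotient.mk_surjective
  have hmL' : maximalIdeal L' = (maximalIdeal L).map (Ideal.Quotient.mk Je) := by
    rw [← IsLocalRing.maximalIdeal_comap (Ideal.Quotient.mk Je),
      Ideal.map_comap_of_surjective _ Ideal.Quotient.mk_surjective]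
  haveI : IsArtinianRing L' := by
    obtain ⟨N, hN⟩ : ∃ N, maximalIdeal L ^ N ≤ Je := by
      refine Ideal.exists_pow_le_of_le_radical_of_fg ?_ (IsNoetherian.noetherian _)
      rw [← hspan, Ideal.span_le]
      rintro _ ⟨i, rfl⟩
      exact ⟨e, Ideal.subset_span ⟨i, rfl⟩⟩
    refine (isArtinianRing_iff_isNilpotent_maximalIdeal _).2 ⟨N, ?_⟩
    rw [Ideal.zero_eq_bot, hmL', ← Ideal.map_pow, eq_bot_iff, ← Ideal.map_quotient_self Je]
    exact Ideal.map_mono hN
  -- finiteness of H₁
  let F := ULift.{u} (ZMod p)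
  haveI : PerfectField F := inferInstance
  letI : Algebra F k := ((ZMod.castHom (dvd_refl p) k).comp ULift.ringEquiv.toRingHom).toAlgebra
  letI : Algebra F L := ((algebraMap k L).comp (algebraMap F k)).toAlgebra
  haveI : IsScalarTower F k L := IsScalarTower.of_algebraMap_eq fun _ => rfl
  letI : Algebra F (ResidueField L') := ((algebraMap k (ResidueField L')).comp (algebraMap F k)).toAlgebra
  haveI : IsScalarTower F k (ResidueField L') := IsScalarTower.of_algebraMap_eq fun _ => rfl
  haveI : IsScalarTower F L (ResidueField L') := IsScalarTower.of_algebraMap_eq fun x =>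
    (IsScalarTower.algebraMap_apply k L (ResidueField L') (algebraMap F k x))
  have hH : Module.Finite (ResidueField L') (Algebra.H1Cotangent k (ResidueField L')) :=
    finite_h1Cotangent hL (fun z => by
      obtain ⟨w, rfl⟩ := Ideal.Quotient.mk_surjective z
      obtain ⟨v, rfl⟩ := Ideal.Quotient.mk_surjective w
      exact ⟨v, rfl⟩) (fun x hx => (residue_eq_zero_iff (Ideal.Quotient.mk Je x)).2
        (hmL' ▸ Ideal.mem_map_of_mem _ hx)) F
  obtain ⟨A, hAloc, hEA, hAart, hAflat, hAess, hAm⟩ := Groth.Agent.S6854.result p hH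
    ((Finset.univ.image fun i => Ideal.Quotient.mk Je (π i)) ∪ E.image (Ideal.Quotient.mk Je))
  haveI := hAloc
  haveI := hAflat
  haveI := hAess
  have hAπ : ∀ i, Ideal.Quotient.mk Je (π i) ∈ A := fun i =>
    hEA (Finset.mem_coe.2 (Finset.mem_union_left _ (Finset.mem_image.2 ⟨i, Finset.mem_univ _, rfl⟩)))
  have hAE : ∀ z ∈ E, Ideal.Quotient.mk Je z ∈ A := fun z hz =>
    hEA (Finset.mem_coe.2 (Finset.mem_union_right _ (Finset.mem_image_of_mem _ hz)))
  haveI : IsLocalHom (algebraMap A L') := ((IsLocalRing.local_hom_TFAE (algebraMap A L')).out 0 2).mpr hAm.le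
  haveI : Module.FaithfullyFlat A L' := Module.FaithfullyFlat.of_flat_of_isLocalHom
  let πA : Fin d → A := fun i => ⟨_, hAπ i⟩
  have hmA : maximalIdeal A = Ideal.span (Set.range πA) := by
    have h1 : (Ideal.span (Set.range πA)).map (algebraMap A L') = (maximalIdeal A).map (algebraMap A L') := by
      rw [hAm, hmL', ← hspan, Ideal.map_span, Ideal.map_span, ← Set.range_comp, ← Set.range_comp]
      rfl
    rw [← Ideal.comap_map_eq_self_of_faithfullyFlat (B := L') (maximalIdeal A), ← h1,
      Ideal.comap_map_eq_self_of_faithfullyFlat]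
  -- the variables
  let gen := Algebra.EssFiniteType.finset k A
  choose y hy using fun j : Fin gen.card => Ideal.Quotient.mk_surjective ((gen.equivFin.symm j).1 : L')
  let ev : MvPolynomial (Fin d ⊕ Fin gen.card) k →ₐ[k] L := aeval (Sum.elim π y)
  let ev' : MvPolynomial (Fin d ⊕ Fin gen.card) k →ₐ[k] L' := (Ideal.Quotient.mkₐ k Je).comp ev
  have hev'0 : ∀ {g}, ev' g = 0 ↔ ev g ∈ Je := fun {g} => Ideal.Quotient.eq_zero_iff_mem
  have hev'X : ∀ i, ev' (X (Sum.inl i)) = Ideal.Quotient.mk Je (π i) := fun i => by simp [ev', ev]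
  have hev'A : ∀ g, ev' g ∈ A := fun g => by
    induction g using MvPolynomial.induction_on with
    | C r => rw [← algebraMap_eq, AlgHom.commutes]; exact A.algebraMap_mem r
    | add a b ha hb => rw [map_add]; exact add_mem ha hb
    | mul_X a i ha =>
      rw [map_mul]
      refine mul_mem ha ?_
      rcases i with i | j
      · rw [hev'X]; exact hAπ i
      · have : ev' (X (Sum.inr j)) = ((gen.equivFin.symm j).1 : L') := by simp [ev', ev, hy]
        rw [this]
        exact (gen.equivFin.symm j).1.2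
  have hfrac : ∀ a : A, ∃ num den, IsUnit (ev den) ∧ (a : L') * ev' den = ev' num := by
    have hadj : ∀ b ∈ Algebra.adjoin k (gen : Set A), (b : L') ∈ ev'.range := fun b hb => by
      induction hb using Algebra.adjoin_induction with
      | mem b hb =>
        refine ⟨X (Sum.inr (gen.equivFin ⟨b, hb⟩)), ?_⟩
        simp [ev', ev, hy]
      | algebraMap r => exact ⟨algebraMap k _ r, ev'.commutes r⟩
      | add a b _ _ ha hb => exact add_mem ha hb
      | mul a b _ _ ha hb => exact mul_mem ha hb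
    intro a
    obtain ⟨t, ht, htu, hat⟩ := (Algebra.essFiniteType_cond_iff k A gen).1 (Algebra.EssFiniteType.isLocalization k A) a
    obtain ⟨num, hnum⟩ := hadj _ hat
    obtain ⟨den, hden⟩ := hadj _ ht
    refine ⟨num, den, IsUnit.of_map (Ideal.Quotient.mk Je) _ ?_, ?_⟩
    · change IsUnit (ev' den)
      rw [show ev' den = (t : L') from hden]
      exact htu.map A.val
    · rw [show ev' den = (t : L') from hden, show ev' num = ((a * t : A) : L') from hnum]
      rfl
  -- the prime
  let P : Ideal (MvPolynomial (Fin d ⊕ Fin gen.card) k) := (maximalIdeal L).comap ev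
  haveI : P.IsPrime := Ideal.comap_isPrime ev (maximalIdeal L)
  let Rp := Localization.AtPrime P
  let loc := algebraMap (MvPolynomial (Fin d ⊕ Fin gen.card) k) Rp
  let F' : Rp →+* L := IsLocalization.lift (M := P.primeCompl) (g := ev.toRingHom) fun z => by
    by_contra h
    exact z.2 ((IsLocalRing.mem_maximalIdeal (R := L) _).2 h)
  have hF' : ∀ q, F' (loc q) = ev q := fun q => IsLocalization.lift_eq _ q
  haveI : IsLocalHom F' := ((IsLocalRing.local_hom_TFAE F').out 0 2).mpr (by
    rw [← Localization.AtPrime.map_eq_maximalIdeal, Ideal.map_map, Ideal.map_le_iff_le_comap]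
    intro x hx
    change F' (loc x) ∈ maximalIdeal L
    rw [hF']
    exact hx)
  let J0 : Ideal (MvPolynomial (Fin d ⊕ Fin gen.card) k) := RingHom.ker ev'.toRingHom
  have hJ0P : J0 ≤ P := fun g hg => hJm (hev'0.1 hg)
  let x' : Fin d → Rp := fun i => loc (X (Sum.inl i))
  have hXP : ∀ i, (X (Sum.inl i) : MvPolynomial (Fin d ⊕ Fin gen.card) k) ∈ P := fun i => by
    change ev (X (Sum.inl i)) ∈ maximalIdeal L
    simpa [ev] using hπm i
  have hm1 : maximalIdeal Rp ≤ J0.map loc ⊔ Ideal.span (Set.range x') := by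
    rw [← Localization.AtPrime.map_eq_maximalIdeal, Ideal.map_le_iff_le_comap]
    intro g hg
    have hgA : (⟨ev' g, hev'A g⟩ : A) ∈ maximalIdeal A := by
      rw [IsLocalRing.mem_maximalIdeal]
      intro hu
      have hu' : IsUnit (ev' g) := hu.map A.val
      exact (IsLocalRing.mem_maximalIdeal _).1 hg (IsUnit.of_map (Ideal.Quotient.mk Je) (ev g) hu')
    rw [hmA, Ideal.mem_span_range_iff_exists_fun] at hgA
    obtain ⟨a, ha⟩ := hgA
    choose num den hden hnd using fun i => hfrac (a i)
    let D := ∏ i, den i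
    let N : Fin d → MvPolynomial (Fin d ⊕ Fin gen.card) k := fun i => num i * ∏ j ∈ Finset.univ.erase i, den j
    have hJ : D * g - ∑ i, N i * X (Sum.inl i) ∈ J0 := by
      rw [RingHom.mem_ker]
      change ev' _ = 0
      have ha' : ev' g = ∑ i, (a i : L') * Ideal.Quotient.mk Je (π i) := by
        have := congrArg A.val ha
        simp only [map_sum, map_mul] at this
        exact this.symm
      simp only [map_sub, map_mul, map_sum, ha', hev'X, D, N, sub_eq_zero]
      rw [Finset.mul_sum]
      refine Finset.sum_congr rfl fun i _ => ?_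
      rw [← hnd, ← Finset.mul_prod_erase Finset.univ den (Finset.mem_univ i), map_mul]
      ring
    have hDu : IsUnit (loc D) := IsLocalization.map_units Rp (⟨D, fun h => by
      have : IsUnit (ev D) := by simp only [D, map_prod, IsUnit.prod_iff]; exact fun i _ => hden i
      exact (IsLocalRing.mem_maximalIdeal _).1 h this⟩ : P.primeCompl)
    rw [Ideal.mem_comap, ← Ideal.unit_mul_mem_iff_mem _ hDu, ← map_mul,
      show D * g = (D * g - ∑ i, N i * X (Sum.inl i)) + ∑ i, N i * X (Sum.inl i) by ring, map_add, map_sum]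
    refine Ideal.add_mem _ (Ideal.mem_sup_left (Ideal.mem_map_of_mem _ hJ)) (Ideal.mem_sup_right ?_)
    exact Ideal.sum_mem _ fun i _ => by rw [map_mul]; exact Ideal.mul_mem_left _ _ (Ideal.subset_span ⟨i, rfl⟩)
  have hlocm : ∀ {g}, g ∈ P → loc g ∈ maximalIdeal Rp := fun {g} hg =>
    (IsLocalization.AtPrime.to_map_mem_maximal_iff Rp P g).2 hg
  let gm : J0 → maximalIdeal Rp := fun g => ⟨loc g.1, hlocm (hJ0P g.2)⟩
  let xm : Fin d → maximalIdeal Rp := fun i => ⟨x' i, hlocm (hXP i)⟩
  have hJ0le : J0.map loc ≤ Ideal.span (Set.range fun i : J0 => (gm i : Rp)) :=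
    Ideal.map_le_iff_le_comap.2 fun g hg => Ideal.subset_span ⟨⟨g, hg⟩, rfl⟩
  obtain ⟨c, sel, hind, hm2⟩ := exists_indep_gens gm xm (hm1.trans (sup_le_sup_right hJ0le _))
  let f : Fin c → MvPolynomial (Fin d ⊕ Fin gen.card) k := fun l => (sel l).1
  have hfJ : ∀ l, ev (f l) ∈ Je := fun l => hev'0.1 (sel l).2
  have hkerφ : ∀ q, ev q ∈ Je → loc q ∈ Ideal.span (Set.range fun l => loc (f l)) ⊔
      Ideal.span (Set.range fun i => x' i ^ e) := fun q hq => by
    refine mem_of_map_mem F' x' (fun i => hlocm (hXP i)) π (fun i => by simp [x', hF', ev]) hπm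
      (indep_of_rsop π hspan hdim) e (by omega) _ ?_ hm2 (loc q) (by rw [hF']; exact hq)
    rw [Ideal.map_le_iff_le_comap, Ideal.span_le]
    rintro _ ⟨l, rfl⟩
    change F' (loc (f l)) ∈ Je
    rw [hF']
    exact hfJ l
  have hLoc : ∀ q, residue L (F' q) = ResidueField.map F' (residue Rp q) := fun q => rfl
  refine ⟨gen.card, c, y, f, hfJ, fun a => ?_, fun z hz => ?_, fun g hg => ?_⟩
  · letI : Algebra F Rp := (loc.comp ((algebraMap k _).comp (algebraMap F k))).toAlgebra
    obtain ⟨h, hh, hha⟩ := exists_dual_hom F (ResidueField.map F') (fun l => gm (sel l)) hind a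
    refine ⟨h.comp loc, fun q => ?_, hha⟩
    rw [RingHom.comp_apply, hh, ← hLoc, hF']
  · obtain ⟨num, den, hden, hnd⟩ := hfrac ⟨_, hAE z hz⟩
    refine ⟨num, den, hden, Ideal.Quotient.eq.1 ?_⟩
    rw [map_mul, mul_comm]
    exact hnd
  · have h1 : loc g ∈ (Ideal.span (Set.range f) ⊔
        Ideal.span (Set.range fun i => (X (Sum.inl i) : MvPolynomial (Fin d ⊕ Fin gen.card) k) ^ e)).map loc := by
      have h2 := hkerφ g hg
      rw [Ideal.map_sup, Ideal.map_span, Ideal.map_span, ← Set.range_comp, ← Set.range_comp]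
      simpa only [x', Function.comp_def, map_pow] using h2
    obtain ⟨u, hu, hug⟩ := (IsLocalization.algebraMap_mem_map_algebraMap_iff P.primeCompl _ _ _).1 h1
    exact ⟨u, by by_contra h; exact hu ((IsLocalRing.mem_maximalIdeal _).2 h), hug⟩

end Groth.Agent.Popescu
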