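import Mathlib
import Groth.Agent.Popescu.Model
import Groth.Agent.Popescu.Envelope
import Groth.Agent.Desing.RegularField
import Groth.Agent.S6822
import Groth.Agent.S2036

/-!
Resolution at a minimal prime of the singular locus, for geometrically regular algebras in characteristic `p`.
-/

set_option autoImplicit false
set_option linter.style.haveILetI false

universe u

namespace Groth.Agent.Popescu

open MvPolynomial TensorProduct

theorem one_tmul_mem_singularIdeal {R A R' : Type u} [CommRing R] [CommRing A] [Algebra R A]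
    [Algebra.FinitePresentation R A] [CommRing R'] [Algebra R R'] {a : A}
    (ha : a ∈ Smoothing.singularIdeal R A) : (1 : R') ⊗ₜ[R] a ∈ Smoothing.singularIdeal R' (R' ⊗[R] A) := by
  rw [Groth.Agent.S2026.result.1] at ha ⊢
  obtain ⟨n, hn⟩ := ha
  refine ⟨n, ?_⟩
  let i : A →+* R' ⊗[R] A := (Algebra.TensorProduct.includeRight (R := R) (A := R') (B := A)).toRingHom
  have h1 := Ideal.mem_map_of_mem i hn
  rw [Ideal.map_span] at h1
  have h2 := Ideal.span_mono (t := {b | Smoothing.IsStrictlyStandard R' (R' ⊗[R] A) b}) (by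
    rintro _ ⟨x, hx, rfl⟩
    exact (Groth.Agent.S6829.result x).2 hx) h1
  rw [map_pow] at h2
  exact h2

theorem mul_mem_singRad {k R B Λ : Type u} [CommRing k] [CommRing R] [CommRing B] [CommRing Λ] [Algebra k R]
    [Algebra R B] [Algebra k B] [IsScalarTower k R B] [Algebra k Λ] [Algebra R Λ] [IsScalarTower k R Λ]
    (fR : R →ₐ[k] Λ) (hfR : ∀ r, fR r = algebraMap R Λ r) (h : B →ₐ[R] Λ) {x y : Λ}
    (hx : x ∈ Smoothing.singRad R h) (hy : y ∈ Smoothing.singRad k fR) :
    x * y ∈ Smoothing.singRad k (h.restrictScalars k) := by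
  have h1 : x * y ∈ ((Smoothing.singularIdeal R B).map h * (Smoothing.singularIdeal k R).map fR).radical := by
    rw [Ideal.radical_mul]
    exact ⟨Ideal.mul_mem_right _ _ hx, Ideal.mul_mem_left _ _ hy⟩
  refine Ideal.radical_mono ?_ h1
  rw [Ideal.map, Ideal.map, Ideal.span_mul_span', Ideal.span_le]
  rintro _ ⟨_, ⟨c, hc, rfl⟩, _, ⟨r, hr, rfl⟩, rfl⟩
  have := Ideal.mem_map_of_mem (h.restrictScalars k) (mul_mem_singularIdeal hc hr)
  rw [map_mul, AlgHom.restrictScalars_apply, AlgHom.restrictScalars_apply, AlgHom.commutes, ← hfR] at this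
  exact this

theorem lift_mk'_mul {R S T : Type u} [CommRing R] [CommRing S] [CommRing T] [Algebra R S] {M : Submonoid R}
    [IsLocalization M S] {g : R →+* T} (hg : ∀ y : M, IsUnit (g y)) (x : R) (y : M) :
    g y * IsLocalization.lift hg (IsLocalization.mk' S x y) = g x := by
  rw [← IsLocalization.lift_eq hg (S := S) (y : R), ← map_mul, IsLocalization.mk'_spec', IsLocalization.lift_eq]

/-- Maps into a quotient of a localised polynomial ring extend to algebras with fractional generators. -/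
theorem exists_point {R0 C P0 T L L'' : Type u} [CommRing R0] [CommRing C] [Algebra R0 C] [CommRing P0] [CommRing T]
    [Algebra R0 T] [CommRing L] [IsLocalRing L] [CommRing L''] (ev : P0 →+* L) (hP : P0 →+* T) (j : R0 →+* P0)
    (hunit : ∀ g, IsUnit (ev g) → IsUnit (hP g)) (Je : Ideal L) (hkill : ∀ G, ev G ∈ Je → hP G = 0)
    (hjT : ∀ z, hP (j z) = algebraMap R0 T z) (ψ : C →+* L) (hjL : ∀ z, ev (j z) = ψ (algebraMap R0 C z)) {N : ℕ}
    (η : MvPolynomial (Fin N) R0 →ₐ[R0] C) (hη : Function.Surjective η)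
    (hgen : ∀ i, ∃ num den, IsUnit (ev den) ∧ ev den * ψ (η (X i)) - ev num ∈ Je)
    (h'' : T →+* L'') (Lmap : L →+* L'') (hcomp : ∀ g, h'' (hP g) = Lmap (ev g)) (hJe : ∀ z ∈ Je, Lmap z = 0) :
    ∃ γ : C →ₐ[R0] T, ∀ z, h'' (γ z) = Lmap (ψ z) := by
  let P : Ideal P0 := (IsLocalRing.maximalIdeal L).comap ev
  haveI : P.IsPrime := Ideal.comap_isPrime ev _
  have hPu : ∀ g : P.primeCompl, IsUnit (ev g) := fun g => by
    by_contra h
    exact g.2 ((IsLocalRing.mem_maximalIdeal (R := L) _).2 h)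
  let Lp : Localization.AtPrime P →+* L := IsLocalization.lift (M := P.primeCompl) (g := ev) hPu
  let hPl : Localization.AtPrime P →+* T := IsLocalization.lift (M := P.primeCompl) (g := hP) fun g => hunit _ (hPu g)
  choose num den hden hnd using hgen
  let den' : Fin N → P.primeCompl := fun i => ⟨den i, fun h => (IsLocalRing.mem_maximalIdeal _).1 h (hden i)⟩
  let dinv : Fin N → Localization.AtPrime P := fun i => IsLocalization.mk' _ (num i) (den' i)
  let γP : MvPolynomial (Fin N) R0 →+* Localization.AtPrime P := eval₂Hom ((algebraMap P0 _).comp j) dinv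
  let γ0 : MvPolynomial (Fin N) R0 →ₐ[R0] T :=
    { hPl.comp γP with
      commutes' := fun z => by
        show hPl (γP (MvPolynomial.C z)) = algebraMap R0 T z
        simp only [γP, eval₂Hom_C, RingHom.comp_apply, hPl, IsLocalization.lift_eq, hjT] }
  have hLγ : ∀ g, Ideal.Quotient.mk Je (Lp (γP g)) = Ideal.Quotient.mk Je (ψ (η g)) := by
    refine fun g => RingHom.congr_fun (show (Ideal.Quotient.mk Je).comp (Lp.comp γP) =
      (Ideal.Quotient.mk Je).comp (ψ.comp η.toRingHom) from
      MvPolynomial.ringHom_ext (fun z => ?_) fun i => ?_) g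
    · change Ideal.Quotient.mk Je (Lp (γP (MvPolynomial.C z))) = Ideal.Quotient.mk Je (ψ (η (MvPolynomial.C z)))
      rw [show η (MvPolynomial.C z) = algebraMap R0 C z from η.commutes z, ← hjL]
      simp only [γP, eval₂Hom_C, RingHom.comp_apply, Lp, IsLocalization.lift_eq]
    · change Ideal.Quotient.mk Je (Lp (γP (X i))) = Ideal.Quotient.mk Je (ψ (η (X i)))
      simp only [γP, eval₂Hom_X', dinv]
      refine (IsUnit.map (Ideal.Quotient.mk Je) (hden i)).mul_left_cancel ?_
      rw [← map_mul, ← map_mul]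
      have h3 : ev (den i) * Lp (IsLocalization.mk' _ (num i) (den' i)) = ev (num i) :=
        lift_mk'_mul (M := P.primeCompl) hPu (num i) (den' i)
      rw [h3]
      exact (Ideal.Quotient.eq.2 (hnd i)).symm
  have hker0 : RingHom.ker η.toRingHom ≤ RingHom.ker γ0.toRingHom := by
    intro g hg
    change hPl (γP g) = 0
    obtain ⟨G, D, hGD⟩ := IsLocalization.exists_mk'_eq P.primeCompl (γP g)
    have h1 : ev G ∈ Je := by
      have h2 := hLγ g
      rw [show η g = 0 from hg, map_zero, map_zero, Ideal.Quotient.eq_zero_iff_mem] at h2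
      have h3 : Lp (γP g) * ev D = ev G := by
        rw [← hGD, mul_comm]
        exact lift_mk'_mul (M := P.primeCompl) hPu G D
      rw [← h3]
      exact Ideal.mul_mem_right _ _ h2
    rw [← hGD]
    simp only [hPl, IsLocalization.lift_mk', hkill G h1, zero_mul]
  refine ⟨AlgHom.liftOfSurjective η hη γ0 hker0, fun z => ?_⟩
  obtain ⟨g, rfl⟩ := hη z
  rw [AlgHom.liftOfSurjective_apply]
  change h'' (hPl (γP g)) = _
  have hLp : h''.comp hPl = Lmap.comp Lp := IsLocalization.ringHom_ext P.primeCompl (RingHom.ext fun g => by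
    simp only [RingHom.comp_apply, hPl, Lp, IsLocalization.lift_eq]
    exact hcomp g)
  rw [show h'' (hPl (γP g)) = Lmap (Lp (γP g)) from RingHom.congr_fun hLp _, ← sub_eq_zero, ← map_sub]
  exact hJe _ (Ideal.Quotient.eq.1 (hLγ g))

set_option maxHeartbeats 4000000 in
/-- Geometrically regular algebras over fields of characteristic `p` admit resolutions. -/
theorem resolvable_geomRegular {k A Λ : Type u} [Field k] (p : ℕ) [Fact p.Prime] [CharP k p] [CommRing A]
    [Algebra k A] [Algebra.FinitePresentation k A] [CommRing Λ] [Algebra k Λ] [IsNoetherianRing Λ]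
    (hreg : CAlg.IsGeometricallyRegular k Λ) (φ : A →ₐ[k] Λ) (𝔮 : Ideal Λ) [𝔮.IsPrime]
    (hmin : 𝔮 ∈ (Smoothing.singRad k φ).minimalPrimes) : Smoothing.Resolvable k φ 𝔮 := by
  classical
  haveI : IsRegularRing Λ := isRegularRing_of_geomRegular k Λ hreg
  let L := Localization.AtPrime 𝔮
  let fL := algebraMap Λ L
  haveI : IsRegularLocalRing L := IsRegularRing.isRegularLocalRing_localization 𝔮
  have hL : CAlgX.IsAdicFormallySmooth k L (IsLocalRing.maximalIdeal L) :=
    (Groth.Agent.S2036.result p).1 (geomRegular_localization 𝔮.primeCompl L hreg)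
  haveI : IsNoetherianRing A := Algebra.FiniteType.isNoetherianRing k A
  obtain ⟨r, a, ha⟩ := Submodule.fg_iff_exists_fin_generating_family.mp
    (IsNoetherian.noetherian (Smoothing.singularIdeal k A))
  have haS : ∀ j, a j ∈ Smoothing.singularIdeal k A := fun j => ha ▸ Submodule.subset_span ⟨j, rfl⟩
  let I : Ideal Λ := (Smoothing.singularIdeal k A).map φ
  have hIspan : I = Ideal.span (Set.range fun j => φ (a j)) := by
    change Ideal.map φ _ = _
    rw [← ha]
    change Ideal.map φ (Ideal.span (Set.range a)) = _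
    rw [Ideal.map_span, ← Set.range_comp]
    rfl
  have hIq : I ≤ 𝔮 := Ideal.le_radical.trans hmin.1.2
  have hqm : 𝔮.map fL = IsLocalRing.maximalIdeal L := Localization.AtPrime.map_eq_maximalIdeal
  obtain ⟨n, hn, hpow⟩ : ∃ n, 0 < n ∧ (𝔮 ^ n).map fL ≤ I.map fL := by
    have hle : IsLocalRing.maximalIdeal L ≤ (I.map fL).radical := by
      rw [Ideal.radical_eq_sInf]
      refine le_sInf fun P ⟨hP, hPp⟩ => ?_
      haveI := hPp
      have hdis := ((IsLocalization.isPrime_iff_isPrime_disjoint 𝔮.primeCompl L P).mp hPp).2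
      have hPq : P.comap fL ≤ 𝔮 := fun x hx => by
        by_contra hxq
        exact Set.disjoint_left.mp hdis hxq hx
      have hIP : Smoothing.singRad k φ ≤ P.comap fL := by
        refine (Ideal.IsPrime.radical_le_iff (Ideal.comap_isPrime fL P)).mpr ?_
        exact Ideal.map_le_iff_le_comap.mp hP
      have := hmin.2 ⟨Ideal.comap_isPrime fL P, hIP⟩ hPq
      rw [← hqm, Ideal.map_le_iff_le_comap]
      exact this
    obtain ⟨n, hn⟩ := Ideal.exists_radical_pow_le_of_fg (I.map fL) (IsNoetherian.noetherian _)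
    refine ⟨n + 1, Nat.succ_pos n, ?_⟩
    rw [Ideal.map_pow, hqm]
    exact ((Ideal.pow_le_pow_right (Nat.le_succ n)).trans (Ideal.pow_right_mono hle n)).trans hn
  obtain ⟨d, hd⟩ := Groth.Agent.SerreReg.exists_dim_nat L
  obtain ⟨C, _, _, _, _, α, E, hE, hCfp, hstd, haC, huniv⟩ := Groth.Agent.Desing.exists_standard_cover a haS n d
  haveI := hCfp
  obtain ⟨pp, hpspan, hpI, -⟩ := Groth.Agent.Desing.exists_params I 𝔮 hIq n (8 * E) d hn (by omega) hpow hd
  let R0 := MvPolynomial (Fin d) k
  letI : Algebra R0 Λ := (aeval pp).toRingHom.toAlgebra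
  haveI : IsScalarTower k R0 Λ := IsScalarTower.of_algebraMap_eq fun x => ((aeval pp).commutes x).symm
  have hXp : ∀ i, algebraMap R0 Λ (X i) = pp i := fun i => by
    change (aeval pp).toRingHom (X i) = _
    simp
  choose z₀ hz₀ using fun i => Ideal.mem_span_range_iff_exists_fun.mp (hIspan ▸ hpI i)
  obtain ⟨φC, hφC⟩ := huniv Λ φ z₀ (fun i => by rw [hXp]; exact (hz₀ i).symm)
  let π : Fin d → L := fun i => fL (pp i)
  have hπspan : Ideal.span (Set.range π) = IsLocalRing.maximalIdeal L := hpspan.trans hqm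
  have hπm : ∀ i, π i ∈ IsLocalRing.maximalIdeal L := fun i => hπspan ▸ Ideal.subset_span ⟨i, rfl⟩
  have hpq : ∀ i, pp i ∈ 𝔮 := fun i => (IsLocalization.AtPrime.to_map_mem_maximal_iff L 𝔮 _).mp (hπm i)
  have hind := indep_of_rsop π hπspan hd
  let e := 8 * E
  let Je : Ideal L := Ideal.span (Set.range fun i => π i ^ e)
  -- a finite piece
  obtain ⟨Ng, η, hη⟩ := Algebra.FiniteType.iff_quotient_mvPolynomial''.1
    (inferInstance : Algebra.FiniteType R0 C)
  let cgen : Fin Ng → L := fun i => fL (φC (η (X i)))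
  obtain ⟨m, c, y, f, hfJ, hsurj, hfrac, hker⟩ := exists_model p hL π hπspan hd e (by omega)
    (Finset.univ.image cgen)
  choose num den hden hnd using fun i => hfrac (cgen i) (Finset.mem_image_of_mem _ (Finset.mem_univ i))
  obtain ⟨b, hb⟩ := IsLocalization.exist_integer_multiples_of_finite 𝔮.primeCompl y
  choose ay hay using hb
  obtain ⟨M, hM⟩ : ∃ M, IsLocalRing.maximalIdeal L ^ M ≤ Je := by
    refine Ideal.exists_pow_le_of_le_radical_of_fg ?_ (IsNoetherian.noetherian _)
    rw [← hπspan, Ideal.span_le]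
    rintro _ ⟨i, rfl⟩
    exact ⟨e, Ideal.subset_span ⟨i, rfl⟩⟩
  let al : Fin r → Λ := fun j => φ (a j) ^ (M + 1)
  have haq : ∀ j, φ (a j) ∈ 𝔮 := fun j => hIq (Ideal.mem_map_of_mem φ (haS j))
  obtain ⟨R, _, _, _, fR, x, U, V, S, Aal, W, hfx, hfU, hfV, hfS, hfW, hfA, hAs, hsm, hvan⟩ :=
    exists_envelope 𝔮 hL pp hpq e (by omega) ay b b.2 y (fun j => by
      rw [hay j]; exact (Algebra.smul_def _ _).symm) f hfJ hsurj al
      (fun j => Ideal.pow_mem_of_mem _ (haq j) _ (Nat.succ_pos M)) (fun j => by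
        rw [map_pow]
        exact hM (Ideal.pow_le_pow_right (Nat.le_succ M)
          (Ideal.pow_mem_pow ((IsLocalization.AtPrime.to_map_mem_maximal_iff L 𝔮 _).2 (haq j)) _)))
  haveI := hsm
  obtain ⟨R', _, _, _, _, _, f', t, hf', ht, hcond⟩ := exists_scaling fR 𝔮 x (fun i => by rw [hfx]; exact hpq i)
    (fun c hc => hind c (by simpa [π, hfx, fL] using hc)) E hE d le_rfl
  haveI : Algebra.FinitePresentation k R' := Algebra.FinitePresentation.trans k R R'
  haveI : IsNoetherianRing R' := Algebra.FiniteType.isNoetherianRing k R'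
  -- `R0`-structures
  let xR : R0 →ₐ[k] R' := aeval fun i => algebraMap R R' (x i)
  letI : Algebra R0 R' := xR.toRingHom.toAlgebra
  haveI : IsScalarTower k R0 R' := IsScalarTower.of_algebraMap_eq fun z => (xR.commutes z).symm
  letI : Algebra R' Λ := f'.toRingHom.toAlgebra
  haveI : IsScalarTower k R' Λ := IsScalarTower.of_algebraMap_eq fun z => (f'.commutes z).symm
  haveI : IsScalarTower R0 R' Λ := IsScalarTower.of_algebraMap_eq fun z => by
    change (aeval pp) z = f' (xR z)
    rw [← AlgHom.comp_apply]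
    refine AlgHom.congr_fun (MvPolynomial.algHom_ext fun i => ?_) z
    simp [xR, hf', hfx]
  have hxR : ∀ i, algebraMap R0 R' (X i) = algebraMap R R' (x i) := fun i => by
    change xR (X i) = _
    exact aeval_X _ i
  have hRΛ : ∀ z, algebraMap R' Λ z = f' z := fun z => rfl
  let π' : Fin d → R' := fun i => t i * algebraMap R R' (x i) ^ E
  let AR := R' ⊗[R0] C
  let φR : AR →ₐ[R'] Λ := Algebra.TensorProduct.lift (Algebra.ofId R' Λ) φC fun _ _ => Commute.all _ _
  have hφRt : ∀ (u : R') (v : C), φR (u ⊗ₜ v) = f' u * φC v := fun u v => Algebra.TensorProduct.lift_tmul _ _ _ u v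
  have hφR1 : ∀ v : C, φR (1 ⊗ₜ v) = φC v := fun v => by rw [hφRt, map_one, one_mul]
  have hπ'q : ∀ i, algebraMap R' Λ (π' i) ∈ 𝔮 := fun i => by
    simp only [π', hRΛ, map_mul, map_pow, hf', hfx]
    exact Ideal.mul_mem_left _ _ (Ideal.pow_mem_of_mem _ (hpq i) E hE)
  have hstd' : ∀ i, Smoothing.IsStrictlyStandard R' AR (algebraMap R' AR (π' i)) := fun i => by
    have h1 := isStrictlyStandard_mul ((Groth.Agent.S6829.result (R' := R') (algebraMap R0 C (X i ^ E))).2 (hstd i))
      (algebraMap R' AR (t i))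
    convert h1 using 1
    simp only [π', map_mul]
    congr 1
    rw [← Algebra.TensorProduct.includeRight_apply, AlgHom.commutes, IsScalarTower.algebraMap_apply R0 R' AR,
      map_pow, map_pow, hxR, ← map_pow]
  -- the reduced problem
  let K : Ideal R' := Ideal.span (Set.range fun i => π' i ^ 8)
  let Λ' := Λ ⧸ K.map (algebraMap R' Λ)
  let RK := R' ⧸ K
  have hKq : K.map (algebraMap R' Λ) ≤ 𝔮 := by
    rw [Ideal.map_le_iff_le_comap, Ideal.span_le]
    rintro _ ⟨i, rfl⟩
    change algebraMap R' Λ (π' i ^ 8) ∈ 𝔮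
    rw [map_pow]
    exact Ideal.pow_mem_of_mem _ (hπ'q i) 8 (by omega)
  let q' : Ideal Λ' := 𝔮.map (Ideal.Quotient.mk (K.map (algebraMap R' Λ)))
  haveI hq'prime : q'.IsPrime := Ideal.map_isPrime_of_surjective Ideal.Quotient.mk_surjective (by rwa [Ideal.mk_ker])
  have hq'mem : ∀ z, Ideal.Quotient.mk (K.map (algebraMap R' Λ)) z ∈ q' ↔ z ∈ 𝔮 := fun z => by
    refine ⟨fun h => ?_, Ideal.mem_map_of_mem _⟩
    have h2 : z ∈ q'.comap (Ideal.Quotient.mk (K.map (algebraMap R' Λ))) := h
    rwa [Ideal.comap_map_of_surjective' _ Ideal.Quotient.mk_surjective, Ideal.mk_ker, sup_eq_left.mpr hKq] at h2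
  let p' : Ideal RK := q'.comap (algebraMap RK Λ')
  let Rpp := Localization.AtPrime p'
  let L'' := Localization.AtPrime q'
  let h'' : Rpp →+* L'' := Localization.localRingHom p' q' (algebraMap RK Λ') rfl
  have hh'' : ∀ z : R', h'' (algebraMap RK Rpp (Ideal.Quotient.mk K z)) =
      algebraMap Λ' L'' (Ideal.Quotient.mk _ (f' z)) := fun z =>
    Localization.localRingHom_to_map p' q' (algebraMap RK Λ') rfl (Ideal.Quotient.mk K z)
  let Lmap : L →+* L'' := IsLocalization.lift (M := 𝔮.primeCompl)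
    (g := (algebraMap Λ' L'').comp (Ideal.Quotient.mk _)) fun z =>
      IsLocalization.map_units L'' (⟨Ideal.Quotient.mk _ (z : Λ), fun h => z.2 ((hq'mem _).1 h)⟩ : q'.primeCompl)
  have hLmap : ∀ z, Lmap (fL z) = algebraMap Λ' L'' (Ideal.Quotient.mk _ z) := fun z => IsLocalization.lift_eq _ z
  let ι : R →+* Rpp := ((algebraMap RK Rpp).comp (Ideal.Quotient.mk K)).comp (algebraMap R R')
  have hι : ∀ z, h'' (ι z) = Lmap (fL (fR z)) := fun z => by
    rw [hLmap, ← hf']
    exact hh'' _
  have hpx : ∀ i, ι (x i) ^ e = 0 := fun i => by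
    have htu : IsUnit (algebraMap RK Rpp (Ideal.Quotient.mk K (t i))) :=
      IsLocalization.map_units Rpp (⟨Ideal.Quotient.mk K (t i), fun h => ht i ((hq'mem _).1 h)⟩ : p'.primeCompl)
    have h0 : algebraMap RK Rpp (Ideal.Quotient.mk K (π' i ^ 8)) = 0 := by
      rw [Ideal.Quotient.eq_zero_iff_mem.2 (Ideal.subset_span ⟨i, rfl⟩ : π' i ^ 8 ∈ K), map_zero]
    simp only [π', mul_pow, map_mul, map_pow, ← pow_mul, Nat.mul_comm E 8] at h0
    exact ((htu.pow 8).mul_right_eq_zero).1 h0
  have hJe : ∀ z ∈ Je, Lmap z = 0 := by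
    intro z hz
    refine (Ideal.span_le (I := RingHom.ker Lmap)).2 ?_ hz
    rintro _ ⟨i, rfl⟩
    change Lmap (π i ^ e) = 0
    rw [map_pow, show π i = fL (fR (x i)) by rw [hfx], ← hι, ← map_pow, hpx, map_zero]
  have hunitR : ∀ z, fR z ∉ 𝔮 → IsUnit (ι z) := fun z hz =>
    IsLocalization.map_units Rpp (⟨Ideal.Quotient.mk K (algebraMap R R' z), fun h => hz (by
      have h2 := (hq'mem (f' (algebraMap R R' z))).1 h
      rwa [hf'] at h2)⟩ : p'.primeCompl)
  have hVu : IsUnit (ι V) := hunitR V (hfV ▸ b.2)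
  obtain ⟨Vi, hVi⟩ := hVu.exists_right_inv
  let yv : Fin m → Rpp := fun j => Vi * ι (U j)
  have hyv : ∀ j, ι V * yv j = ι (U j) := fun j => by simp only [yv, ← mul_assoc, hVi, one_mul]
  have hWm : ∀ z, ι (W z) ∈ IsLocalRing.maximalIdeal Rpp := fun z => by
    rw [IsLocalRing.mem_maximalIdeal]
    intro hu
    have := hu.map h''
    rw [hι, hfW, map_zero, map_zero] at this
    exact not_isUnit_zero this
  let hP : MvPolynomial (Fin d ⊕ Fin m) k →+* Rpp :=
    eval₂Hom (ι.comp (algebraMap k R)) (Sum.elim (fun i => ι (x i)) yv)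
  let ev : MvPolynomial (Fin d ⊕ Fin m) k →ₐ[k] L := aeval (Sum.elim π y)
  have hhP : ∀ g, h'' (hP g) = Lmap (ev g) := by
    refine fun g => RingHom.congr_fun (show h''.comp hP = Lmap.comp ev.toRingHom from
      MvPolynomial.ringHom_ext (fun z => ?_) fun i => ?_) g
    · change h'' (hP (MvPolynomial.C z)) = Lmap (ev (MvPolynomial.C z))
      simp only [hP, ev, eval₂Hom_C, aeval_C, RingHom.comp_apply, hι, AlgHom.commutes]
      congr 1
    · change h'' (hP (X i)) = Lmap (ev (X i))
      rcases i with i | j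
      · simp [hP, ev, hι, hfx, π]
      · simp only [hP, ev, eval₂Hom_X', aeval_X, Sum.elim_inr]
        have hVL : IsUnit (h'' (ι V)) := hVu.map h''
        refine hVL.mul_left_cancel ?_
        rw [← map_mul, hyv, hι, hι, hfV, hfU, ← map_mul, hay j, Algebra.smul_def]
  have hPf : ∀ l, hP (f l) = 0 := fun l =>
    hvan Rpp ι hVu (hunitR S hfS) hWm hpx yv hyv l
  have hPx : ∀ i, hP (X (Sum.inl i) ^ e) = 0 := fun i => by simp [hP, hpx]
  have hPunit : ∀ g, IsUnit (ev g) → IsUnit (hP g) := fun g hg => by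
    refine isUnit_of_map_unit h'' _ ?_
    rw [hhP]
    exact hg.map Lmap
  obtain ⟨γ, hhγ⟩ := exists_point (R0 := R0) (C := C) (T := Rpp) (L := L) ev.toRingHom hP
    (rename Sum.inl : R0 →ₐ[k] MvPolynomial (Fin d ⊕ Fin m) k).toRingHom hPunit Je
    (fun G hG => by
      obtain ⟨u, hu, hmem⟩ := hker G hG
      have h4 : hP (u * G) = 0 := by
        refine (sup_le (Ideal.span_le.2 ?_) (Ideal.span_le.2 ?_) : _ ≤ RingHom.ker hP) hmem
        · rintro _ ⟨l, rfl⟩; exact hPf l
        · rintro _ ⟨i, rfl⟩; exact hPx i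
      rw [map_mul] at h4
      exact (hPunit u hu).mul_right_eq_zero.1 h4)
    (fun z => RingHom.congr_fun (show hP.comp (rename Sum.inl : R0 →ₐ[k] MvPolynomial (Fin d ⊕ Fin m) k).toRingHom =
        algebraMap R0 Rpp from MvPolynomial.ringHom_ext (fun z => by
          simp only [RingHom.comp_apply, AlgHom.toRingHom_eq_coe, RingHom.coe_coe, rename_C, hP, eval₂Hom_C]
          rw [IsScalarTower.algebraMap_apply R0 RK Rpp]
          change _ = algebraMap RK Rpp (Ideal.Quotient.mk K (xR (MvPolynomial.C z)))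
          rw [← MvPolynomial.algebraMap_eq, AlgHom.commutes, IsScalarTower.algebraMap_apply k R R']
          rfl) fun i => by
          simp only [RingHom.comp_apply, AlgHom.toRingHom_eq_coe, RingHom.coe_coe, rename_X, hP, eval₂Hom_X']
          rw [IsScalarTower.algebraMap_apply R0 RK Rpp]
          change _ = algebraMap RK Rpp (Ideal.Quotient.mk K (algebraMap R0 R' (X i)))
          rw [hxR]
          rfl) z)
    (fL.comp φC.toRingHom) (fun z => by
      change ev (rename Sum.inl z) = fL (φC (algebraMap R0 C z))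
      rw [φC.commutes]
      change ev (rename Sum.inl z) = (IsScalarTower.toAlgHom k Λ L) (aeval pp z)
      rw [← AlgHom.comp_apply, ← AlgHom.comp_apply]
      refine AlgHom.congr_fun (MvPolynomial.algHom_ext fun i => ?_) z
      simp [ev, π, fL])
    η hη (fun i => ⟨num i, den i, hden i, hnd i⟩)
    h'' Lmap hhP hJe
  -- over `RK`
  let gR : AR →ₐ[R'] Rpp := Algebra.TensorProduct.lift (Algebra.ofId R' Rpp) γ fun _ _ => Commute.all _ _
  haveI : Algebra.FinitePresentation R' (AR ⧸ K.map (algebraMap R' AR)) :=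
    Algebra.FinitePresentation.quotient (Ideal.FG.map (IsNoetherian.noetherian K) _)
  haveI : Algebra.FinitePresentation RK (AR ⧸ K.map (algebraMap R' AR)) :=
    Algebra.FinitePresentation.of_restrict_scalars_finitePresentation R' RK _
  let φK : (AR ⧸ K.map (algebraMap R' AR)) →ₐ[RK] Λ' :=
    { Ideal.quotientMap (K.map (algebraMap R' Λ)) φR.toRingHom
        (Ideal.map_le_iff_le_comap.mpr fun z hz => by
          rw [Ideal.mem_comap, Ideal.mem_comap]
          change φR (algebraMap _ AR z) ∈ _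
          rw [φR.commutes]
          exact Ideal.mem_map_of_mem _ hz) with
      commutes' := fun z => by
        obtain ⟨z, rfl⟩ := Ideal.Quotient.mk_surjective z
        change Ideal.Quotient.mk _ (φR (algebraMap _ AR z)) = Ideal.Quotient.mk _ (algebraMap _ Λ z)
        rw [φR.commutes] }
  let gK : (AR ⧸ K.map (algebraMap R' AR)) →ₐ[RK] Rpp :=
    { Ideal.Quotient.lift _ gR.toRingHom (fun z hz => by
        refine (Ideal.map_le_iff_le_comap.2 (fun w hw => ?_) : K.map (algebraMap R' AR) ≤ RingHom.ker gR) hz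
        rw [Ideal.mem_comap, RingHom.mem_ker, AlgHom.commutes, IsScalarTower.algebraMap_apply R' RK Rpp]
        change algebraMap RK Rpp (Ideal.Quotient.mk K w) = 0
        rw [Ideal.Quotient.eq_zero_iff_mem.2 hw, map_zero]) with
      commutes' := fun z => by
        obtain ⟨z, rfl⟩ := Ideal.Quotient.mk_surjective z
        change gR (algebraMap _ AR z) = algebraMap RK Rpp (Ideal.Quotient.mk K z)
        rw [gR.commutes, IsScalarTower.algebraMap_apply R' RK Rpp]
        rfl }
  let hK : Rpp →ₐ[RK] L'' :=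
    { h'' with
      commutes' := fun z => by
        change h'' (algebraMap RK Rpp z) = _
        rw [Localization.localRingHom_to_map]
        rfl }
  haveI : Algebra.Smooth Rpp Rpp := inferInstance
  haveI : IsScalarTower RK Rpp Rpp := IsScalarTower.right
  obtain ⟨C₂, _, _, hC₂, α₂, β₂, hβα₂, hsing₂⟩ := Groth.Agent.Desing.exists_spread (Rₚ := Rpp) (Λq := L'') φK q' gK hK
    (fun z => by
      obtain ⟨z, rfl⟩ := Ideal.Quotient.mk_surjective z
      change h'' (gR z) = algebraMap Λ' L'' (Ideal.Quotient.mk _ (φR z))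
      induction z using TensorProduct.induction_on with
      | zero => simp
      | add u v hu hv => simp only [map_add, hu, hv]
      | tmul u v =>
        have hgRt : gR (u ⊗ₜ v) = algebraMap R' Rpp u * γ v := Algebra.TensorProduct.lift_tmul _ _ _ u v
        rw [hgRt, hφRt, map_mul, map_mul, map_mul, hhγ]
        simp only [RingHom.comp_apply, AlgHom.toRingHom_eq_coe, RingHom.coe_coe, hLmap]
        congr 1
        rw [IsScalarTower.algebraMap_apply R' RK Rpp]
        exact hh'' u)
  haveI := hC₂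
  have hres : Smoothing.Resolvable RK φK q' := by
    refine Groth.Agent.Desing.resolvable_of_factor φK q' α₂ β₂ hβα₂ hsing₂ fun z hz => ?_
    obtain ⟨z, rfl⟩ := Ideal.Quotient.mk_surjective z
    have h1 : fL z ∈ IsLocalRing.maximalIdeal L :=
      (IsLocalization.AtPrime.to_map_mem_maximal_iff L 𝔮 z).2 ((hq'mem z).1 hz)
    have h2 : algebraMap Λ' L'' (Ideal.Quotient.mk _ z ^ M) = 0 := by
      rw [← map_pow, ← hLmap, map_pow]
      exact hJe _ (hM (Ideal.pow_mem_pow h1 M))
    obtain ⟨s, hs⟩ := (IsLocalization.map_eq_zero_iff q'.primeCompl L'' _).mp h2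
    exact ⟨M, s, s.2, hs⟩
  obtain ⟨B, _, _, hBfp, g, h, hgh, hle, hnle⟩ : Smoothing.Resolvable R' φR 𝔮 :=
    Groth.Agent.S6822.general φR 𝔮 π' hπ'q (fun i z hz => by
        obtain ⟨z, rfl⟩ := Ideal.Quotient.mk_surjective z
        rw [← map_pow, ← map_mul, Ideal.Quotient.eq_zero_iff_mem] at hz
        rw [← map_mul, Ideal.Quotient.eq_zero_iff_mem]
        exact (hcond i i.2).1 z hz)
      (fun i z hz => by
        obtain ⟨z, rfl⟩ := Ideal.Quotient.mk_surjective z
        rw [← map_pow, ← map_mul, Ideal.Quotient.eq_zero_iff_mem] at hz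
        rw [← map_mul, Ideal.Quotient.eq_zero_iff_mem]
        simp only [π', hRΛ, map_mul, map_pow, hf', hfx] at hz ⊢
        have := (hcond i i.2).2 z
        simp only [prefixIdeal, hfx] at this
        exact this hz)
      hstd' K rfl φK (fun _ => rfl) hres
  haveI := hBfp
  letI : Algebra k B := ((algebraMap R' B).comp (algebraMap k R')).toAlgebra
  haveI : IsScalarTower k R' B := IsScalarTower.of_algebraMap_eq fun _ => rfl
  let gA : A →ₐ[k] B := (g.restrictScalars k).comp
    (((Algebra.TensorProduct.includeRight : C →ₐ[R0] AR).restrictScalars k).comp α)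
  have hsingR' : ∀ {z}, z ∈ Smoothing.singularIdeal k R → algebraMap R R' z ∈ Smoothing.singularIdeal k R' := by
    intro z hz
    have h1 : (1 : R') ∈ Smoothing.singularIdeal R R' := by
      rw [Smoothing.singularIdeal, PrimeSpectrum.mem_vanishingIdeal]
      intro Q hQ
      exact absurd (by rw [Algebra.smoothLocus_eq_univ]; trivial) hQ
    simpa using mul_mem_singularIdeal h1 hz
  have hfR' : ∀ z, f' z = algebraMap R' Λ z := fun _ => rfl
  have hqn : ∃ y ∈ Smoothing.singRad k f', y ∉ 𝔮 := by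
    have : ¬ Smoothing.singularIdeal k R ≤ 𝔮.comap fR := fun hc => by
      let P : PrimeSpectrum R := ⟨𝔮.comap fR, Ideal.comap_isPrime fR 𝔮⟩
      have h1 : P ∈ closure (Algebra.smoothLocus k R)ᶜ := by
        rw [← PrimeSpectrum.zeroLocus_vanishingIdeal_eq_closure, PrimeSpectrum.mem_zeroLocus]
        exact hc
      rw [(Algebra.isOpen_smoothLocus (R := k) (A := R)).isClosed_compl.closure_eq] at h1
      exact h1 hsm
    obtain ⟨z, hz, hzq⟩ := SetLike.not_le_iff_exists.1 this
    refine ⟨fR z, Ideal.le_radical ?_, hzq⟩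
    rw [← hf']
    exact Ideal.mem_map_of_mem f' (hsingR' hz)
  refine ⟨B, inferInstance, inferInstance, Algebra.FinitePresentation.trans k R' B, gA, h.restrictScalars k,
    AlgHom.ext fun z => ?_, ?_, ?_⟩
  · change h (g (1 ⊗ₜ α z)) = φ z
    rw [show h (g (1 ⊗ₜ α z)) = φR (1 ⊗ₜ α z) from AlgHom.congr_fun hgh _]
    rw [hφR1, hφC]
  · refine (Ideal.IsRadical.radical_le_iff (Ideal.radical_isRadical _)).mpr ?_
    change I ≤ _
    rw [hIspan, Ideal.span_le]
    rintro _ ⟨j, rfl⟩
    have h1 : φ (a j) ∈ Smoothing.singRad R' h := by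
      have h2 := hle (Ideal.le_radical (Ideal.mem_map_of_mem φR (one_tmul_mem_singularIdeal (R' := R') (haC j))))
      rw [hφR1, hφC] at h2
      exact h2
    have h2 : φ (a j) ∈ Smoothing.singRad k f' := by
      refine (Ideal.radical_isRadical _) ⟨M + 1, Ideal.le_radical ?_⟩
      rw [show φ (a j) ^ (M + 1) = f' (algebraMap R R' (Aal j)) by rw [hf', hfA]]
      exact Ideal.mem_map_of_mem f' (hsingR' (hAs j))
    have h3 := mul_mem_singRad f' hfR' h h1 h2
    exact (Ideal.radical_isRadical _) ⟨2, by rw [pow_two]; exact h3⟩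
  · intro hc
    obtain ⟨x₁, hx₁, hx₁q⟩ := SetLike.not_le_iff_exists.1 hnle
    obtain ⟨y₁, hy₁, hy₁q⟩ := hqn
    exact ((Ideal.IsPrime.mem_or_mem ‹𝔮.IsPrime› (hc (mul_mem_singRad f' hfR' h hx₁ hy₁))).elim hx₁q hy₁q)

end Groth.Agent.Popescu
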