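import Mathlib
import Groth.Agent.Popescu.Resolve
import Groth.Agent.S6823
import Groth.Agent.S2022
import Groth.Agent.S2029
import Groth.Agent.S19959
import Groth.Agent.IndSmoothLift.Basic
import Groth.Agent.GeomProp.SmoothRegular

/-!
Popescu's theorem: regular maps of Noetherian rings are ind-smooth.
-/

set_option autoImplicit false
set_option linter.style.haveILetI false

universe u

namespace Groth.Agent.Popescu

open TensorProduct

theorem singularIdeal_eq_top (R B : Type u) [CommRing R] [CommRing B] [Algebra R B] [Algebra.Smooth R B] :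
    Smoothing.singularIdeal R B = ⊤ := by
  rw [Ideal.eq_top_iff_one, Smoothing.singularIdeal, PrimeSpectrum.mem_vanishingIdeal]
  intro Q hQ
  exact absurd (by rw [Algebra.smoothLocus_eq_univ]; trivial) hQ

theorem exists_smooth_of_singRad_eq_top {R A B Λ : Type u} [CommRing R] [CommRing A] [Algebra R A] [CommRing B]
    [Algebra R B] [Algebra.FinitePresentation R B] [CommRing Λ] [Algebra R Λ] {φ : A →ₐ[R] Λ}
    (g : A →ₐ[R] B) (h : B →ₐ[R] Λ) (hgh : h.comp g = φ) (htop : Smoothing.singRad R h = ⊤) :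
    ∃ (B : Type u) (_ : CommRing B) (_ : Algebra R B), Algebra.Smooth R B ∧
      ∃ (g : A →ₐ[R] B) (h : B →ₐ[R] Λ), h.comp g = φ := by
  obtain ⟨B', _, _, hB', i, h', hi⟩ := exists_smooth_of_map_eq_top h (Ideal.radical_eq_top.1 htop)
  exact ⟨B', inferInstance, inferInstance, hB', i.comp g, h', by rw [← AlgHom.comp_assoc, hi, hgh]⟩

/-- Popescu's theorem over a field. -/
theorem indSmooth_field {k Λ : Type u} [Field k] [CommRing Λ] [Algebra k Λ] [IsNoetherianRing Λ]
    (hreg : CAlg.IsGeometricallyRegular k Λ) : Smoothing.IndSmooth k Λ := by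
  intro A _ _ hA φ
  haveI := hA
  let S : Set (Ideal Λ) := {J | ∃ (B : Type u) (_ : CommRing B) (_ : Algebra k B), Algebra.FinitePresentation k B ∧
    ∃ (g : A →ₐ[k] B) (h : B →ₐ[k] Λ), h.comp g = φ ∧ Smoothing.singRad k h = J}
  obtain ⟨J, ⟨B, _, _, hB, g, h, hgh, rfl⟩, hmax⟩ := set_has_maximal_iff_noetherian.2 ‹IsNoetherianRing Λ› S
    ⟨_, A, inferInstance, inferInstance, hA, AlgHom.id k A, φ, AlgHom.comp_id φ, rfl⟩
  haveI := hB
  by_cases htop : Smoothing.singRad k h = ⊤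
  · exact exists_smooth_of_singRad_eq_top g h hgh htop
  obtain ⟨P, hP⟩ := Ideal.nonempty_minimalPrimes htop
  haveI := hP.1.1
  haveI := isRegularRing_of_geomRegular k Λ hreg
  have hres : Smoothing.Resolvable k h P := by
    obtain ⟨p, hp⟩ := CharP.exists k
    rcases CharP.char_is_prime_or_zero k p with hprime | rfl
    · haveI := Fact.mk hprime
      exact resolvable_geomRegular p hreg h P hP
    · haveI := CharP.charP_to_charZero k
      haveI : IsRegularLocalRing (Localization.AtPrime P) := IsRegularRing.isRegularLocalRing_localization P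
      haveI := Groth.Agent.GeomProp.geomReduced_of_perfectField k P.ResidueField
      exact Groth.Agent.S6823.result h P hP
  obtain ⟨B', _, _, hB', g', h', hgh', hle, hnle⟩ := hres
  refine absurd ?_ (hmax (Smoothing.singRad k h')
    ⟨B', inferInstance, inferInstance, hB', g'.comp g, h', by rw [← AlgHom.comp_assoc, hgh', hgh], rfl⟩)
  exact lt_of_le_of_ne hle fun e => hnle (e ▸ hP.1.2)

theorem flat_quotient {R Λ : Type u} [CommRing R] [CommRing Λ] [Algebra R Λ] [Module.Flat R Λ] (I : Ideal R) :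
    Module.Flat (R ⧸ I) (Λ ⧸ I.map (algebraMap R Λ)) := by
  let e : ((R ⧸ I) ⊗[R] Λ) ≃ₗ[R] Λ ⧸ I.map (algebraMap R Λ) :=
    (TensorProduct.comm R _ _).trans ((Ideal.qoutMapEquivTensorQout Λ (I := I)).symm.restrictScalars R)
  exact Module.Flat.of_linearEquiv (LinearEquiv.extendScalarsOfSurjective
    (show Function.Surjective (algebraMap R (R ⧸ I)) from Ideal.Quotient.mk_surjective) e).symm

theorem mul_eq_zero_of_sq {R Λ : Type u} [CommRing R] [CommRing Λ] [Algebra R Λ] [Module.Flat R Λ] (s : R)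
    (hs : ∀ r : R, s ^ 2 * r = 0 → s * r = 0) (x : Λ) (hx : s ^ 2 • x = 0) : s • x = 0 := by
  let μ : R → (R →ₗ[R] R) := fun a => LinearMap.lsmul R R a
  let j := (LinearMap.ker (μ (s ^ 2))).subtype
  have hex : Function.Exact j (μ (s ^ 2)) := fun y => ⟨fun h => ⟨⟨y, h⟩, rfl⟩, fun ⟨z, hz⟩ => hz ▸ z.2⟩
  obtain ⟨w, hw⟩ := (Module.Flat.lTensor_exact Λ hex (x ⊗ₜ 1)).1 (by
    simp only [μ, LinearMap.lTensor_tmul, LinearMap.lsmul_apply, smul_eq_mul, mul_one]
    rw [← mul_one (s ^ 2), ← smul_eq_mul, TensorProduct.tmul_smul, TensorProduct.smul_tmul', hx, zero_tmul])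
  have h0 : (μ s).comp j = 0 := LinearMap.ext fun z => hs z.1 z.2
  have h1 : LinearMap.lTensor Λ (μ s) (x ⊗ₜ 1) = 0 := by
    rw [← hw, ← LinearMap.comp_apply, ← LinearMap.lTensor_comp, h0, LinearMap.lTensor_zero, LinearMap.zero_apply]
  have h2 := congrArg (TensorProduct.rid R Λ) h1
  simpa [μ] using h2

theorem isLocalization_residueField {R : Type u} [CommRing R] [IsNoetherianRing R] (I : Ideal R)
    (hI : I.IsRadical) (P : Ideal R) [P.IsPrime] (hP : P ∈ I.minimalPrimes) [Algebra (R ⧸ I) P.ResidueField]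
    [IsScalarTower R (R ⧸ I) P.ResidueField] :
    IsLocalization (P.primeCompl.map (Ideal.Quotient.mk I).toMonoidHom) P.ResidueField := by
  have halg : ∀ r, algebraMap (R ⧸ I) P.ResidueField (Ideal.Quotient.mk I r) = algebraMap R P.ResidueField r :=
    fun r => (IsScalarTower.algebraMap_apply R (R ⧸ I) P.ResidueField r).symm
  refine (isLocalization_iff _ _).2 ⟨?_, ?_, ?_⟩
  · rintro ⟨_, s, hs, rfl⟩
    change IsUnit (algebraMap (R ⧸ I) P.ResidueField (Ideal.Quotient.mk I s))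
    rw [halg, isUnit_iff_ne_zero, ne_eq, Ideal.algebraMap_residueField_eq_zero]
    exact hs
  · intro z
    obtain ⟨z, rfl⟩ := IsLocalRing.residue_surjective z
    obtain ⟨a, s, rfl⟩ := IsLocalization.exists_mk'_eq P.primeCompl z
    refine ⟨(Ideal.Quotient.mk I a, ⟨_, s, s.2, rfl⟩), ?_⟩
    change IsLocalRing.residue _ (IsLocalization.mk' _ a s) * algebraMap (R ⧸ I) P.ResidueField (Ideal.Quotient.mk I s) =
      algebraMap (R ⧸ I) P.ResidueField (Ideal.Quotient.mk I a)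
    rw [halg, halg, IsScalarTower.algebraMap_apply R (Localization.AtPrime P) P.ResidueField,
      IsScalarTower.algebraMap_apply R (Localization.AtPrime P) P.ResidueField,
      IsLocalRing.ResidueField.algebraMap_eq, ← map_mul, IsLocalization.mk'_spec]
  · intro x y hxy
    obtain ⟨x, rfl⟩ := Ideal.Quotient.mk_surjective x
    obtain ⟨y, rfl⟩ := Ideal.Quotient.mk_surjective y
    rw [halg, halg, ← sub_eq_zero, ← map_sub, Ideal.algebraMap_residueField_eq_zero] at hxy
    let RP := Localization.AtPrime P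
    have hle : IsLocalRing.maximalIdeal RP ≤ (I.map (algebraMap R RP)).radical := by
      rw [Ideal.radical_eq_sInf]
      refine le_sInf fun Q ⟨hQ, hQp⟩ => ?_
      haveI := hQp
      have hdis := ((IsLocalization.isPrime_iff_isPrime_disjoint P.primeCompl RP Q).mp hQp).2
      have hPq : Q.comap (algebraMap R RP) ≤ P := fun z hz => by
        by_contra hzq
        exact Set.disjoint_left.mp hdis hzq hz
      have := hP.2 ⟨Ideal.comap_isPrime (algebraMap R RP) Q, Ideal.map_le_iff_le_comap.1 hQ⟩ hPq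
      rw [← Localization.AtPrime.map_eq_maximalIdeal, Ideal.map_le_iff_le_comap]
      exact this
    obtain ⟨n, hn⟩ := hle ((IsLocalization.AtPrime.to_map_mem_maximal_iff RP P _).2 hxy)
    rw [← map_pow] at hn
    obtain ⟨u, hu, hux⟩ := (IsLocalization.algebraMap_mem_map_algebraMap_iff P.primeCompl RP _ _).1 hn
    have h1 : u * (x - y) ∈ I := hI ⟨n + 1, by
      generalize x - y = w at hux ⊢
      rw [show (u * w) ^ (n + 1) = u ^ n * w * (u * w ^ n) by ring]
      exact I.mul_mem_left _ hux⟩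
    refine ⟨⟨_, u, hu, rfl⟩, ?_⟩
    change Ideal.Quotient.mk I u * Ideal.Quotient.mk I x = Ideal.Quotient.mk I u * Ideal.Quotient.mk I y
    rw [← map_mul, ← map_mul, Ideal.Quotient.eq, ← mul_sub]
    exact h1

theorem indSmooth_quotient {R Λ : Type u} [CommRing R] [CommRing Λ] [Algebra R Λ] (I : Ideal R) (Kb : Ideal (R ⧸ I))
    (h : Smoothing.IndSmooth (R ⧸ Kb.comap (Ideal.Quotient.mk I)) (Λ ⧸ (Kb.comap (Ideal.Quotient.mk I)).map (algebraMap R Λ))) :
    Smoothing.IndSmooth ((R ⧸ I) ⧸ Kb) ((Λ ⧸ I.map (algebraMap R Λ)) ⧸ Kb.map (algebraMap (R ⧸ I) (Λ ⧸ I.map (algebraMap R Λ)))) := by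
  let J := Kb.comap (Ideal.Quotient.mk I)
  have hIJ : I ≤ J := fun x hx => by
    change Ideal.Quotient.mk I x ∈ Kb
    rw [Ideal.Quotient.eq_zero_iff_mem.2 hx]
    exact Kb.zero_mem
  letI algRJ : Algebra (R ⧸ J) ((R ⧸ I) ⧸ Kb) :=
    (Ideal.Quotient.lift J ((Ideal.Quotient.mk Kb).comp (Ideal.Quotient.mk I)) fun x hx =>
      Ideal.Quotient.eq_zero_iff_mem.2 hx).toAlgebra
  let Λ2 := (Λ ⧸ I.map (algebraMap R Λ)) ⧸ Kb.map (algebraMap (R ⧸ I) (Λ ⧸ I.map (algebraMap R Λ)))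
  letI algJΛ : Algebra (R ⧸ J) Λ2 :=
    ((algebraMap ((R ⧸ I) ⧸ Kb) Λ2).comp (algebraMap (R ⧸ J) ((R ⧸ I) ⧸ Kb))).toAlgebra
  haveI : IsScalarTower (R ⧸ J) ((R ⧸ I) ⧸ Kb) Λ2 := IsScalarTower.of_algebraMap_eq fun _ => rfl
  have hb : Function.Bijective (algebraMap (R ⧸ J) ((R ⧸ I) ⧸ Kb)) := by
    refine ⟨(injective_iff_map_eq_zero _).2 fun z hz => ?_, fun z => ?_⟩
    · obtain ⟨z, rfl⟩ := Ideal.Quotient.mk_surjective z
      exact Ideal.Quotient.eq_zero_iff_mem.2 (Ideal.Quotient.eq_zero_iff_mem.1 hz : Ideal.Quotient.mk I z ∈ Kb)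
    · obtain ⟨z, rfl⟩ := Ideal.Quotient.mk_surjective z
      obtain ⟨z, rfl⟩ := Ideal.Quotient.mk_surjective z
      exact ⟨Ideal.Quotient.mk J z, rfl⟩
  have hK : Kb.map (algebraMap (R ⧸ I) (Λ ⧸ I.map (algebraMap R Λ))) =
      (J.map (algebraMap R Λ)).map (Ideal.Quotient.mk (I.map (algebraMap R Λ))) := by
    conv_lhs => rw [← Ideal.map_comap_of_surjective _ Ideal.Quotient.mk_surjective Kb]
    rw [Ideal.map_map, Ideal.map_map]
    rfl
  let e0 : (Λ ⧸ J.map (algebraMap R Λ)) ≃+* Λ2 :=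
    ((Ideal.quotEquivOfEq hK).trans (DoubleQuot.quotQuotEquivQuotOfLE (Ideal.map_mono hIJ))).symm
  have he0 : ∀ x, e0 (Ideal.Quotient.mk _ x) = Ideal.Quotient.mk _ (Ideal.Quotient.mk _ x) := fun x => by
    rw [RingEquiv.symm_apply_eq]
    rfl
  let e : (Λ ⧸ J.map (algebraMap R Λ)) ≃ₐ[R ⧸ J] Λ2 := AlgEquiv.ofRingEquiv (f := e0) fun x => by
    obtain ⟨x, rfl⟩ := Ideal.Quotient.mk_surjective x
    change e0 (Ideal.Quotient.mk _ (algebraMap R Λ x)) = _
    rw [he0]
    rfl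
  exact Groth.Agent.IndSmoothLift.indSmooth_of_bijective hb e h

theorem geomRegular_base_change {R Λ : Type u} [CommRing R] [CommRing Λ] [Algebra R Λ]
    (hreg : CAlg.IsRegularHom R Λ) (I : Ideal R) (P : Ideal R) [P.IsPrime]
    [Algebra (R ⧸ I) P.ResidueField] [IsScalarTower R (R ⧸ I) P.ResidueField] :
    IsNoetherianRing (P.ResidueField ⊗[R ⧸ I] (Λ ⧸ I.map (algebraMap R Λ))) ∧
      CAlg.IsGeometricallyRegular P.ResidueField (P.ResidueField ⊗[R ⧸ I] (Λ ⧸ I.map (algebraMap R Λ))) := by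
  let κ := P.ResidueField
  let Λ1 := Λ ⧸ I.map (algebraMap R Λ)
  let toT : κ ⊗[R] Λ →ₐ[κ] κ ⊗[R ⧸ I] Λ1 :=
    Algebra.TensorProduct.lift (Algebra.ofId κ _)
      ((((Algebra.TensorProduct.includeRight : Λ1 →ₐ[R ⧸ I] κ ⊗[R ⧸ I] Λ1)).restrictScalars R).comp
        (Ideal.Quotient.mkₐ R _)) fun _ _ => Commute.all _ _
  let inR : Λ →ₐ[R] κ ⊗[R] Λ := Algebra.TensorProduct.includeRight
  have hkill : ∀ x ∈ I.map (algebraMap R Λ), inR x = 0 := fun x hx => by
    refine (Ideal.map_le_iff_le_comap.2 (fun r hr => ?_) : I.map (algebraMap R Λ) ≤ RingHom.ker inR) hx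
    change inR (algebraMap R Λ r) = 0
    rw [AlgHom.commutes, IsScalarTower.algebraMap_apply R κ (κ ⊗[R] Λ), IsScalarTower.algebraMap_apply R (R ⧸ I) κ,
      Ideal.Quotient.algebraMap_eq, Ideal.Quotient.eq_zero_iff_mem.2 hr, map_zero, map_zero]
  let g1 : Λ1 →ₐ[R ⧸ I] κ ⊗[R] Λ :=
    { Ideal.Quotient.lift _ inR.toRingHom hkill with
      commutes' := fun r => by
        obtain ⟨r, rfl⟩ := Ideal.Quotient.mk_surjective r
        change inR (algebraMap R Λ r) = algebraMap (R ⧸ I) (κ ⊗[R] Λ) (algebraMap R (R ⧸ I) r)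
        rw [AlgHom.commutes, ← IsScalarTower.algebraMap_apply] }
  let inv : κ ⊗[R ⧸ I] Λ1 →ₐ[κ] κ ⊗[R] Λ :=
    Algebra.TensorProduct.lift (Algebra.ofId κ _) g1 fun _ _ => Commute.all _ _
  have htoT : ∀ (a : κ) (x : Λ), toT (a ⊗ₜ x) = a ⊗ₜ Ideal.Quotient.mk _ x := fun a x => by
    refine (Algebra.TensorProduct.lift_tmul _ _ _ a x).trans ?_
    change (a ⊗ₜ[R ⧸ I] (1 : Λ1)) * ((1 : κ) ⊗ₜ[R ⧸ I] Ideal.Quotient.mk _ x) = _
    rw [Algebra.TensorProduct.tmul_mul_tmul, mul_one, one_mul]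
  have hinv : ∀ (a : κ) (x : Λ), inv (a ⊗ₜ Ideal.Quotient.mk _ x) = a ⊗ₜ x := fun a x => by
    refine (Algebra.TensorProduct.lift_tmul _ _ _ a _).trans ?_
    change (a ⊗ₜ[R] (1 : Λ)) * ((1 : κ) ⊗ₜ[R] x) = _
    rw [Algebra.TensorProduct.tmul_mul_tmul, mul_one, one_mul]
  let e : κ ⊗[R] Λ ≃ₐ[κ] κ ⊗[R ⧸ I] Λ1 := AlgEquiv.ofAlgHom toT inv
    (Algebra.TensorProduct.ext (by ext) (AlgHom.ext fun x => by
      obtain ⟨x, rfl⟩ := Ideal.Quotient.mk_surjective x
      change toT (inv ((1 : κ) ⊗ₜ Ideal.Quotient.mk _ x)) = (1 : κ) ⊗ₜ Ideal.Quotient.mk _ x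
      rw [hinv, htoT]))
    (Algebra.TensorProduct.ext (by ext) (AlgHom.ext fun x => by
      change inv (toT ((1 : κ) ⊗ₜ x)) = (1 : κ) ⊗ₜ x
      rw [htoT, hinv]))
  obtain ⟨hnoe, hgr⟩ := hreg.2 P
  haveI : IsNoetherianRing (κ ⊗[R] Λ) := hnoe
  exact ⟨isNoetherianRing_of_ringEquiv _ e.toRingEquiv, geomRegular_of_algEquiv e hgr⟩

/-- Popescu's theorem for the quotients of a regular map. -/
theorem indSmooth_quotient_of_regular {R Λ : Type u} [CommRing R] [IsNoetherianRing R] [CommRing Λ]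
    [IsNoetherianRing Λ] [Algebra R Λ] (hreg : CAlg.IsRegularHom R Λ) (I : Ideal R) :
    Smoothing.IndSmooth (R ⧸ I) (Λ ⧸ I.map (algebraMap R Λ)) := by
  haveI := hreg.1
  induction I using (wellFounded_gt (α := Ideal R)).induction with
  | _ I ih =>
  haveI := flat_quotient (Λ := Λ) I
  let R1 := R ⧸ I
  let Λ1 := Λ ⧸ I.map (algebraMap R Λ)
  by_cases hrad : I.IsRadical
  swap
  · let N : Ideal R1 := nilradical R1
    have hN : IsNilpotent N := IsNoetherianRing.isNilpotent_nilradical R1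
    refine Groth.Agent.S2022.result N hN (indSmooth_quotient I N (ih _ ?_))
    have hJ : N.comap (Ideal.Quotient.mk I) = I.radical := by
      rw [show N = (⊥ : Ideal R1).radical from rfl, Ideal.comap_radical, ← RingHom.ker_eq_comap_bot, Ideal.mk_ker]
    rw [hJ]
    exact lt_of_le_of_ne Ideal.le_radical fun e => hrad (e ▸ Ideal.radical_isRadical I)
  by_cases htop : I = ⊤
  · haveI : Subsingleton R1 := Ideal.Quotient.subsingleton_iff.2 htop
    intro A _ _ hA f
    haveI : Subsingleton A := Module.subsingleton R1 A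
    haveI : Subsingleton Λ1 := Module.subsingleton R1 Λ1
    refine ⟨R1, inferInstance, inferInstance, inferInstance,
      { toFun := fun _ => 0
        map_one' := Subsingleton.elim _ _
        map_zero' := rfl
        map_add' := fun _ _ => Subsingleton.elim _ _
        map_mul' := fun _ _ => Subsingleton.elim _ _
        commutes' := fun _ => Subsingleton.elim _ _ }, Algebra.ofId R1 Λ1, AlgHom.ext fun _ => Subsingleton.elim _ _⟩
  haveI : IsReduced R1 := (Ideal.isRadical_iff_quotient_reduced I).1 hrad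
  obtain ⟨P, hP⟩ := Ideal.nonempty_minimalPrimes htop
  haveI := hP.1.1
  let κ := P.ResidueField
  letI : Algebra R1 κ := (Ideal.Quotient.lift I (algebraMap R κ) fun x hx =>
    (Ideal.algebraMap_residueField_eq_zero).2 (hP.1.2 hx)).toAlgebra
  haveI : IsScalarTower R R1 κ := IsScalarTower.of_algebraMap_eq fun _ => rfl
  haveI := isLocalization_residueField I hrad P hP
  obtain ⟨hnoe, hgr⟩ := geomRegular_base_change hreg I P
  haveI := hnoe
  intro A _ _ hA φ
  haveI := hA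
  obtain ⟨B'', _, _, hB'', g'', h'', hgh''⟩ :=
    indSmooth_field hgr (κ ⊗[R1] A) inferInstance (Algebra.TensorProduct.map (AlgHom.id κ κ) φ)
  haveI := hB''
  obtain ⟨B0, _, _, α, β, hβα, s, hs, hstd⟩ :=
    Groth.Agent.S2029.result φ (P.primeCompl.map (Ideal.Quotient.mk I).toMonoidHom) g'' h'' hgh''
  haveI : Algebra.FinitePresentation R1 B0 := by
    obtain ⟨Pr, -, -⟩ := hstd
    exact Algebra.FinitePresentation.of_surjective Pr.surj (by rw [Pr.ker_eq]; exact Submodule.fg_span (Set.finite_range _))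
  have hRs : ∀ r : R1, s ^ 2 * r = 0 → s * r = 0 := fun r hr =>
    IsReduced.eq_zero _ ⟨2, by rw [mul_pow, show s ^ 2 * r ^ 2 = (s ^ 2 * r) * r by ring, hr, zero_mul]⟩
  obtain ⟨s₀, hs₀, rfl⟩ := hs
  let s : R1 := (Ideal.Quotient.mk I).toMonoidHom s₀
  let K : Ideal R1 := Ideal.span {s ^ 8}
  have hlt : I < K.comap (Ideal.Quotient.mk I) := by
    refine lt_of_le_of_ne (fun x hx => ?_) fun e => ?_
    · change Ideal.Quotient.mk I x ∈ K
      rw [Ideal.Quotient.eq_zero_iff_mem.2 hx]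
      exact K.zero_mem
    · have h1 : s₀ ^ 8 ∈ I := by
        rw [e]
        exact Ideal.subset_span (map_pow (Ideal.Quotient.mk I) s₀ 8)
      exact hs₀ (Ideal.IsPrime.mem_of_pow_mem inferInstance 8 (hP.1.2 h1))
  have hKm : K.map (algebraMap R1 Λ1) = Ideal.span {algebraMap R1 Λ1 (s ^ 8)} := by
    rw [Ideal.map_span, Set.image_singleton]
  let eK : (Λ1 ⧸ K.map (algebraMap R1 Λ1)) ≃ₐ[R1] Λ1 ⧸ Ideal.span {algebraMap R1 Λ1 (s ^ 8)} :=
    Ideal.quotientEquivAlgOfEq R1 hKm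
  haveI : Algebra.FinitePresentation R1 (B0 ⧸ K.map (algebraMap R1 B0)) :=
    Algebra.FinitePresentation.quotient (Ideal.FG.map (IsNoetherian.noetherian K) _)
  haveI : Algebra.FinitePresentation (R1 ⧸ K) (B0 ⧸ K.map (algebraMap R1 B0)) :=
    Algebra.FinitePresentation.of_restrict_scalars_finitePresentation R1 (R1 ⧸ K) _
  let fK : (B0 ⧸ K.map (algebraMap R1 B0)) →ₐ[R1 ⧸ K] Λ1 ⧸ K.map (algebraMap R1 Λ1) :=
    { Ideal.quotientMap (K.map (algebraMap R1 Λ1)) β.toRingHom
        (Ideal.map_le_iff_le_comap.mpr fun z hz => by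
          rw [Ideal.mem_comap, Ideal.mem_comap]
          change β (algebraMap _ B0 z) ∈ _
          rw [β.commutes]
          exact Ideal.mem_map_of_mem _ hz) with
      commutes' := fun z => by
        obtain ⟨z, rfl⟩ := Ideal.Quotient.mk_surjective z
        change Ideal.Quotient.mk _ (β (algebraMap _ B0 z)) = Ideal.Quotient.mk _ (algebraMap _ Λ1 z)
        rw [β.commutes] }
  obtain ⟨Bb, _, _, hBb, gb, kb, hgkb⟩ := indSmooth_quotient I K (ih _ hlt) _ inferInstance fK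
  haveI := hBb
  letI : Algebra R1 Bb := ((algebraMap (R1 ⧸ K) Bb).comp (Ideal.Quotient.mk K)).toAlgebra
  haveI : IsScalarTower R1 (R1 ⧸ K) Bb := ⟨fun x y z => by
    obtain ⟨y, rfl⟩ := Ideal.Quotient.mk_surjective y
    rw [Algebra.smul_def, Algebra.smul_def, Algebra.smul_def]
    change algebraMap _ Bb (Ideal.Quotient.mk _ (x * y)) * z =
      algebraMap (R1 ⧸ K) Bb (Ideal.Quotient.mk _ x) * (algebraMap _ Bb (Ideal.Quotient.mk _ y) * z)
    rw [map_mul, map_mul, mul_assoc]⟩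
  obtain ⟨B, _, _, hB, α', β', hβ', hsm, hsub⟩ := Groth.Agent.S19959.result s hRs
    (mul_eq_zero_of_sq (Λ := Λ1) s hRs) β (isStrictlyStandard_of_elementary hstd)
    ((gb.restrictScalars R1).comp (Ideal.Quotient.mkₐ R1 (K.map (algebraMap R1 B0))))
    (eK.toAlgHom.comp (kb.restrictScalars R1)) (fun b => by
      change eK (kb (gb (Ideal.Quotient.mk _ b))) = _
      rw [show kb (gb (Ideal.Quotient.mk _ b)) = fK (Ideal.Quotient.mk _ b) from AlgHom.congr_fun hgkb _]
      rfl)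
  haveI := hB
  have htop' : Smoothing.singRad R1 β' = ⊤ := by
    rw [singularIdeal_eq_top (R1 ⧸ K) Bb, Ideal.map_top, top_le_iff] at hsub
    let J := ((Smoothing.singularIdeal R1 B).map β').radical
    have hsB : algebraMap R1 B s ∈ Smoothing.singularIdeal R1 B := by
      rw [Smoothing.singularIdeal, PrimeSpectrum.mem_vanishingIdeal]
      intro Q hQ
      by_contra hmem
      exact hQ (hsm Q.asIdeal hmem)
    have hsJ : algebraMap R1 Λ1 (s ^ 8) ∈ J := by
      rw [map_pow, ← β'.commutes s]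
      exact Ideal.pow_mem_of_mem _ (Ideal.le_radical (Ideal.mem_map_of_mem _ hsB)) 8 (by norm_num)
    change J = ⊤
    have h1 : (1 : Λ1 ⧸ Ideal.span {algebraMap R1 Λ1 (s ^ 8)}) ∈ J.map (Ideal.Quotient.mk _) := hsub ▸ Submodule.mem_top
    obtain ⟨x, hx, hx1⟩ := (Ideal.mem_map_iff_of_surjective _ Ideal.Quotient.mk_surjective).1 h1
    rw [← map_one (Ideal.Quotient.mk (Ideal.span {algebraMap R1 Λ1 (s ^ 8)})), Ideal.Quotient.eq] at hx1
    obtain ⟨c, hc⟩ := Ideal.mem_span_singleton'.1 hx1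
    refine (Ideal.eq_top_iff_one _).2 ?_
    rw [show (1 : Λ1) = x - c * algebraMap R1 Λ1 (s ^ 8) by rw [hc]; ring]
    exact J.sub_mem hx (J.mul_mem_left _ hsJ)
  exact exists_smooth_of_singRad_eq_top (α'.comp α) β' (by rw [← AlgHom.comp_assoc, hβ', hβα]) htop'

/-- Popescu's theorem. -/
theorem indSmooth_of_isRegularHom {R Λ : Type u} [CommRing R] [IsNoetherianRing R] [CommRing Λ]
    [IsNoetherianRing Λ] [Algebra R Λ] (hreg : CAlg.IsRegularHom R Λ) : Smoothing.IndSmooth R Λ := by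
  have h := indSmooth_quotient_of_regular hreg (⊥ : Ideal R)
  intro A _ _ hA φ
  haveI := hA
  let Rb := R ⧸ (⊥ : Ideal R)
  let Λb := Λ ⧸ (⊥ : Ideal R).map (algebraMap R Λ)
  let Ab := A ⧸ (⊥ : Ideal R).map (algebraMap R A)
  haveI : Algebra.FinitePresentation R Ab := Algebra.FinitePresentation.quotient (Ideal.FG.map Submodule.fg_bot _)
  haveI : Algebra.FinitePresentation Rb Ab := Algebra.FinitePresentation.of_restrict_scalars_finitePresentation R Rb _
  let f : Ab →ₐ[Rb] Λb :=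
    { Ideal.quotientMap _ φ.toRingHom (by simp) with
      commutes' := fun z => by
        obtain ⟨z, rfl⟩ := Ideal.Quotient.mk_surjective z
        change Ideal.Quotient.mk _ (φ (algebraMap R A z)) = Ideal.Quotient.mk _ (algebraMap R Λ z)
        rw [φ.commutes] }
  obtain ⟨B, _, _, hB, g, k, hgk⟩ := h Ab inferInstance f
  haveI := hB
  letI : Algebra R B := ((algebraMap Rb B).comp (Ideal.Quotient.mk ⊥)).toAlgebra
  haveI : IsScalarTower R Rb B := IsScalarTower.of_algebraMap_eq fun _ => rfl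
  let e : R ≃ₐ[R] Rb := (AlgEquiv.quotientBot R R).symm
  haveI : Algebra.Smooth R Rb := Algebra.Smooth.of_equiv e
  haveI : Algebra.Smooth R B := Algebra.Smooth.comp R Rb B
  let eΛ : Λb ≃ₐ[R] Λ := (Ideal.quotientEquivAlgOfEq R Ideal.map_bot).trans (AlgEquiv.quotientBot R Λ)
  refine ⟨B, inferInstance, inferInstance, inferInstance,
    (g.restrictScalars R).comp (Ideal.Quotient.mkₐ R _), eΛ.toAlgHom.comp (k.restrictScalars R),
    AlgHom.ext fun a => ?_⟩
  change eΛ (k (g (Ideal.Quotient.mk _ a))) = φ a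
  rw [show k (g (Ideal.Quotient.mk _ a)) = f (Ideal.Quotient.mk _ a) from AlgHom.congr_fun hgk _]
  rfl

end Groth.Agent.Popescu
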