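import Mathlib
import Groth.Agent.Popescu.Main
import Groth.Agent.Hensel.PairEnvelopeStage
import Groth.Agent.Hensel.PairNbhd
import Groth.Agent.Hensel.Ops
import Groth.Agent.S0536
import Groth.Agent.S0600
import Groth.Agent.FormalStalk.Completion
import Groth.Agent.GRingCpl.Stability

/-!
Approximation in étale neighbourhoods of closed subsets.
-/

set_option autoImplicit false
set_option linter.style.haveILetI false
set_option backward.isDefEq.respectTransparency false

universe u

open TensorProduct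

namespace Groth.Agent.Popescu

open Groth.Agent.Hensel

/-- Finitely many relations holding in the henselization hold in an étale neighbourhood. -/
theorem exists_nhd_kill {A : Type u} [CommRing A] {I : Ideal A} (A' : Type u) [CommRing A'] [Algebra A A']
    [Algebra.Etale A A'] (φ : A' →ₐ[A] PairEnv A I) (s : Finset A') (hs : ∀ x ∈ s, φ x = 0) :
    ∃ (E : Type u) (_ : CommRing E) (_ : Algebra A E) (_ : Algebra.Etale A E) (φ' : E →ₐ[A] PairEnv A I)
      (ψ : A' →ₐ[A] E), φ'.comp ψ = φ ∧ ∀ x ∈ s, ψ x = 0 := by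
  classical
  induction s using Finset.induction with
  | empty => exact ⟨A', inferInstance, inferInstance, inferInstance, φ, AlgHom.id A A', AlgHom.comp_id φ, by simp⟩
  | insert x s _ ih =>
    obtain ⟨E, _, _, _, φ₁, ψ₁, h₁, hs₁⟩ := ih fun y hy => hs y (Finset.mem_insert_of_mem hy)
    obtain ⟨E', _, _, hE', φ₂, ψ₂, h₂, hx₂⟩ := exists_pairStage_eq_zero φ₁ (s := ψ₁ x) (by
      rw [← AlgHom.comp_apply, h₁]; exact hs x (Finset.mem_insert_self x s))
    refine ⟨E', inferInstance, inferInstance, hE', φ₂, ψ₂.comp ψ₁, by rw [← AlgHom.comp_assoc, h₂, h₁], ?_⟩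
    intro y hy
    rcases Finset.mem_insert.1 hy with rfl | hy
    · exact hx₂
    · rw [AlgHom.comp_apply, hs₁ y hy, map_zero]

/-- Points of finitely presented algebras in the henselization come from étale neighbourhoods. -/
theorem exists_nhd_factor {A : Type u} [CommRing A] {I : Ideal A} (D : Type u) [CommRing D] [Algebra A D]
    [hD : Algebra.FinitePresentation A D] (f : D →ₐ[A] PairEnv A I) :
    ∃ (A' : Type u) (_ : CommRing A') (_ : Algebra A A') (_ : Algebra.Etale A A'),
      Function.Bijective (Ideal.quotientMap (I.map (algebraMap A A')) (algebraMap A A') Ideal.le_comap_map) ∧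
        ∃ (η : D →ₐ[A] A') (φ : A' →ₐ[A] PairEnv A I), φ.comp η = f := by
  classical
  obtain ⟨n, π, hπ, hker⟩ := hD.out
  obtain ⟨A₁, _, _, _, -, φ₁, hφ₁⟩ := exists_nhd_finite (isPairHenselization_pairEnv A I)
    (Finset.univ.image fun i => f (π (MvPolynomial.X i)))
  choose b hb using fun i => hφ₁ (Finset.mem_coe.2 (Finset.mem_image.2 ⟨i, Finset.mem_univ i, rfl⟩) :
    f (π (MvPolynomial.X i)) ∈ _)
  have hev : φ₁.comp (MvPolynomial.aeval b) = f.comp π := MvPolynomial.algHom_ext fun i => by simp [hb]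
  obtain ⟨s, hs⟩ := hker
  obtain ⟨E, _, _, _, φ₂, ψ, h₂, hψ⟩ := exists_nhd_kill A₁ φ₁ (s.image (MvPolynomial.aeval b)) fun x hx => by
    obtain ⟨q, hq, rfl⟩ := Finset.mem_image.1 hx
    rw [← AlgHom.comp_apply, hev, AlgHom.comp_apply,
      show π q = 0 from RingHom.mem_ker.1 (show q ∈ RingHom.ker π.toRingHom from hs ▸ Ideal.subset_span hq),
      map_zero]
  obtain ⟨A', _, _, hA', hbij, η, φ', hη⟩ := exists_nhd_of_point φ₂
  refine ⟨A', inferInstance, inferInstance, hA', hbij,
    η.comp (AlgHom.liftOfSurjective π hπ (ψ.comp (MvPolynomial.aeval b)) ?_), φ', ?_⟩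
  · rw [← hs, Ideal.span_le]
    intro q hq
    exact hψ _ (Finset.mem_image_of_mem _ hq)
  · ext x
    obtain ⟨q, rfl⟩ := hπ x
    simp only [AlgHom.comp_apply, AlgHom.liftOfSurjective_apply]
    rw [← AlgHom.comp_apply φ' η, hη, ← AlgHom.comp_apply φ₂ ψ, h₂, ← AlgHom.comp_apply, hev, AlgHom.comp_apply]

theorem exists_sub_mem_pow_of_surjective {C C' : Type u} [CommRing C] [CommRing C'] [Algebra C C'] (K : Ideal C)
    (h : ∀ x : C', ∃ c, x - algebraMap C C' c ∈ K.map (algebraMap C C')) (n : ℕ) (x : C') :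
    ∃ c, x - algebraMap C C' c ∈ (K ^ n).map (algebraMap C C') := by
  induction n generalizing x with
  | zero => exact ⟨0, by simp [Ideal.map_top]⟩
  | succ n ih =>
    obtain ⟨c, hc⟩ := ih x
    suffices hd : ∀ y ∈ (K ^ n).map (algebraMap C C'),
        ∃ d, y - algebraMap C C' d ∈ (K ^ (n + 1)).map (algebraMap C C') by
      obtain ⟨d, hd⟩ := hd _ hc
      exact ⟨c + d, by rw [map_add, sub_add_eq_sub_sub]; exact hd⟩
    intro y hy
    refine Submodule.span_induction (hx := hy) ?_ ⟨0, by simp⟩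
      (fun y z _ _ ⟨d, hd⟩ ⟨e, he⟩ => ⟨d + e, by rw [map_add, add_sub_add_comm]; exact Ideal.add_mem _ hd he⟩)
      fun r y hy ⟨d, hd⟩ => ?_
    · rintro _ ⟨a, ha, rfl⟩
      exact ⟨a, by simp⟩
    · obtain ⟨r', hr'⟩ := h r
      refine ⟨r' * d, ?_⟩
      have h1 : r * y - algebraMap C C' (r' * d) =
          (r - algebraMap C C' r') * y + algebraMap C C' r' * (y - algebraMap C C' d) := by
        rw [map_mul]; ring
      rw [smul_eq_mul, h1]
      refine Ideal.add_mem _ ?_ (Ideal.mul_mem_left _ _ hd)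
      have hy' : y ∈ (K ^ n).map (algebraMap C C') := hy
      rw [pow_succ', Ideal.map_mul]
      exact Ideal.mul_mem_mul hr' hy'

/-- Approximation of maps of completions of finite type algebras over a G-ring. -/
theorem approx_completion_map {A : Type u} [CommRing A] (hA : CAlg.IsGRing A) (I : Ideal A) (B C : Type u)
    [CommRing B] [Algebra A B] [Algebra.FiniteType A B] [CommRing C] [Algebra A C] [Algebra.FiniteType A C]
    (K : Ideal C) (hKdef : K = I.map (algebraMap A C)) (φ₀ : B →ₐ[A] AdicCompletion K C) (N : ℕ) (hN : 1 ≤ N) :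
    ∃ (C' : Type u) (_ : CommRing C') (_ : Algebra C C') (_ : Algebra A C') (_ : IsScalarTower A C C')
      (_ : Algebra.Etale C C') (ψ : B →ₐ[A] C'),
      ((∀ c' : C', ∃ c : C, algebraMap C C' c - c' ∈ I.map (algebraMap A C')) ∧
        ∀ c : C, algebraMap C C' c ∈ I.map (algebraMap A C') → c ∈ K) ∧
      ∀ b : B, ∃ c : C, ψ b - algebraMap C C' c ∈ (I.map (algebraMap A C')) ^ N ∧
        AdicCompletion.evalₐ K N (φ₀ b) = Ideal.Quotient.mk (K ^ N) c := by
  classical
  haveI := hA.1
  haveI : IsNoetherianRing C := Algebra.FiniteType.isNoetherianRing A C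
  haveI : IsNoetherianRing (AdicCompletion K C) := FormalStalk.isNoetherianRing K
  haveI : Algebra.FinitePresentation A B := Algebra.FinitePresentation.of_finiteType.1 inferInstance
  let φC : C ⊗[A] B →ₐ[C] AdicCompletion K C :=
    Algebra.TensorProduct.lift (Algebra.ofId C _) φ₀ fun _ _ => Commute.all _ _
  obtain ⟨S, _, _, hS, g, h, hgh⟩ := indSmooth_of_isRegularHom
    (Groth.Agent.S0600.result C (GRingCpl.isGRing_of_finiteType hA) K) (C ⊗[A] B) inferInstance φC
  haveI := hS
  have hB0 := isPairHenselization_pairEnv C K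
  set J : Ideal (PairEnv C K) := (K ^ N).map (algebraMap C (PairEnv C K)) with hJ
  haveI : HenselianRing (PairEnv C K) (K.map (algebraMap C (PairEnv C K))) := hB0.1
  haveI : HenselianRing (PairEnv C K) J :=
    henselianRing_mono (Ideal.map_mono (Ideal.pow_le_self (by omega)))
  let q : C ⧸ K ^ N →ₐ[C] PairEnv C K ⧸ J :=
    Ideal.quotientMapₐ J (Algebra.ofId C _) Ideal.le_comap_map
  obtain ⟨τ, hτ⟩ := Groth.Agent.S0536.result C S (PairEnv C K) J
    (q.comp ((AdicCompletion.evalₐ K N).comp h))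
  obtain ⟨C', iC', iA', hC', hbij, η, φ', hη⟩ := exists_nhd_factor (C ⊗[A] B) (τ.comp g)
  letI : Algebra A C' := ((algebraMap C C').comp (algebraMap A C)).toAlgebra
  haveI : IsScalarTower A C C' := IsScalarTower.of_algebraMap_eq' rfl
  have hmap : I.map (algebraMap A C') = K.map (algebraMap C C') := by
    rw [hKdef, Ideal.map_map]; rfl
  have hsurj : ∀ x : C', ∃ c, x - algebraMap C C' c ∈ K.map (algebraMap C C') := fun x => by
    obtain ⟨y, hy⟩ := hbij.2 (Ideal.Quotient.mk _ x)
    obtain ⟨c, rfl⟩ := Ideal.Quotient.mk_surjective y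
    rw [Ideal.quotientMap_mk, eq_comm, Ideal.Quotient.eq] at hy
    exact ⟨c, hy⟩
  refine ⟨C', iC', iA', inferInstance, inferInstance, hC',
    (η.restrictScalars A).comp Algebra.TensorProduct.includeRight, ⟨fun c' => ?_, fun c hc => ?_⟩, fun b => ?_⟩
  · obtain ⟨c, hc⟩ := hsurj c'
    exact ⟨c, by rw [hmap, ← neg_sub]; exact neg_mem hc⟩
  · refine Ideal.Quotient.eq_zero_iff_mem.1 (hbij.1 ?_)
    rw [Ideal.quotientMap_mk, map_zero, Ideal.Quotient.eq_zero_iff_mem]
    exact hmap ▸ hc
  · obtain ⟨c, hc⟩ := exists_sub_mem_pow_of_surjective K hsurj N (η (1 ⊗ₜ b))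
    refine ⟨c, ?_, ?_⟩
    · rw [hmap, ← Ideal.map_pow]
      exact hc
    · obtain ⟨c₀, hc₀⟩ := Ideal.Quotient.mk_surjective (AdicCompletion.evalₐ K N (φ₀ b))
      rw [← hc₀, Ideal.Quotient.eq]
      refine pairHenselization_mem_pow hB0 ?_
      have h1 : φ' (η (1 ⊗ₜ b)) - algebraMap C _ c ∈ J := by
        have := Ideal.mem_map_of_mem φ'.toRingHom hc
        rw [Ideal.map_map, show φ'.toRingHom.comp (algebraMap C C') = algebraMap C (PairEnv C K) from
          RingHom.ext φ'.commutes, map_sub] at this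
        rw [← φ'.commutes c]
        exact this
      have h2 : φ' (η (1 ⊗ₜ b)) - algebraMap C _ c₀ ∈ J := by
        rw [← Ideal.Quotient.eq, show φ' (η (1 ⊗ₜ b)) = τ (g (1 ⊗ₜ b)) from AlgHom.congr_fun hη _]
        refine (AlgHom.congr_fun hτ _).trans ?_
        have h3 : h (g (1 ⊗ₜ b)) = φ₀ b := by
          rw [← AlgHom.comp_apply, hgh]
          simp [φC]
        change q (AdicCompletion.evalₐ K N (h (g (1 ⊗ₜ b)))) = _
        rw [h3, ← hc₀]
        rfl
      rw [map_sub, ← sub_sub_sub_cancel_left _ _ (φ' (η (1 ⊗ₜ b)))]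
      exact sub_mem h1 h2

end Groth.Agent.Popescu
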