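import Mathlib
import Groth.Agent.ApxAffine.EtaleSection
import Groth.Agent.Popescu.Main
import Groth.Agent.Hensel.Ops
import Groth.Agent.Hensel.Smooth
import Groth.Agent.S0536
import Groth.Agent.S0600
import Groth.Agent.FormalStalk.Completion
import Groth.Agent.FlatDepth.Regular
import Groth.Agent.FlatDepth.CompDescent
import Groth.Agent.GRingCpl.Stability

/-!
Approximation in étale neighbourhoods of points of G-rings.
-/

set_option autoImplicit false
set_option linter.style.haveILetI false
set_option backward.isDefEq.respectTransparency false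

universe u

open TensorProduct

namespace Groth.Agent.Popescu

/-- Points of smooth algebras with values in `Q` extend to étale algebras, when finitely many elements
of `Q` lift to some étale algebra over the base. -/
theorem exists_etale_section_of_lifts {P Q D : Type u} [CommRing P] [CommRing Q] [CommRing D] [Algebra P Q]
    [Algebra P D] [Algebra.FinitePresentation P D]
    (hQ : ∀ (n : ℕ) (f : Fin n → Q), ∃ (P' : Type u) (_ : CommRing P') (_ : Algebra P P') (_ : Algebra.Etale P P')
      (χ : P' →ₐ[P] Q) (p : Fin n → P'), ∀ i, χ (p i) = f i)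
    (σ : D →ₐ[P] Q) (q : Ideal D)
    [q.IsPrime] [Algebra.IsSmoothAt P q] (hq : ∀ g, g ∉ q → IsUnit (σ g)) :
    ∃ (E : Type u) (_ : CommRing E) (_ : Algebra P E) (_ : Algebra.Etale P E) (u : D →ₐ[P] E) (ψ : E →ₐ[P] Q),
      ψ.comp u = σ := by
  classical
  obtain ⟨g, hgq, hstd⟩ := Algebra.IsSmoothAt.exists_notMem_isStandardSmooth P q
  let Dg := Localization.Away g
  let σg : Dg →ₐ[P] Q := IsLocalization.liftAlgHom (M := Submonoid.powers g) (f := σ) fun y => by
    obtain ⟨i, hi⟩ := y.2
    rw [← hi, map_pow]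
    exact (hq g hgq).pow i
  have hstd' : (algebraMap P Dg).IsStandardSmooth := RingHom.isStandardSmooth_algebraMap.2 hstd
  obtain ⟨n, w, hw, hwet⟩ := hstd'.exists_etale_mvPolynomial
  obtain ⟨P', _, _, _, χ, p, hp⟩ := hQ n fun i => σg (w (MvPolynomial.X i))
  letI : Algebra (MvPolynomial (Fin n) P) Dg := w.toAlgebra
  haveI : Algebra.Etale (MvPolynomial (Fin n) P) Dg := RingHom.etale_algebraMap.1 hwet
  letI : Algebra P' Q := χ.toRingHom.toAlgebra
  haveI : IsScalarTower P P' Q := IsScalarTower.of_algebraMap_eq fun r => (χ.commutes r).symm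
  let ev : MvPolynomial (Fin n) P →ₐ[P] P' := MvPolynomial.aeval p
  letI : Algebra (MvPolynomial (Fin n) P) P' := ev.toRingHom.toAlgebra
  haveI : IsScalarTower P (MvPolynomial (Fin n) P) P' :=
    IsScalarTower.of_algebraMap_eq fun r => (ev.commutes r).symm
  letI : Algebra (MvPolynomial (Fin n) P) Q := ((algebraMap P' Q).comp ev.toRingHom).toAlgebra
  haveI : IsScalarTower (MvPolynomial (Fin n) P) P' Q := IsScalarTower.of_algebraMap_eq' rfl
  let E := P' ⊗[MvPolynomial (Fin n) P] Dg
  haveI : Algebra.Etale P' E := inferInstance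
  haveI : Algebra.Etale P E := Algebra.Etale.comp P P' E
  have hcomp : σg.toRingHom.comp w = (algebraMap P' Q).comp ev.toRingHom := by
    refine MvPolynomial.ringHom_ext (fun r => ?_) fun i => ?_
    · have h1 : w (MvPolynomial.C r) = algebraMap P Dg r := RingHom.congr_fun hw r
      show σg (w (MvPolynomial.C r)) = χ (ev (MvPolynomial.C r))
      rw [h1, AlgHom.commutes, show ev (MvPolynomial.C r) = algebraMap P P' r from
        MvPolynomial.aeval_C _ r, AlgHom.commutes]
    · show σg (w (MvPolynomial.X i)) = χ (ev (MvPolynomial.X i))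
      rw [show ev (MvPolynomial.X i) = p i from MvPolynomial.aeval_X _ i, hp]
  let σW : Dg →ₐ[MvPolynomial (Fin n) P] Q :=
    { σg.toRingHom with commutes' := fun x => RingHom.congr_fun hcomp x }
  let ψ : E →ₐ[P'] Q := Algebra.TensorProduct.lift (Algebra.ofId P' Q) σW fun _ _ => Commute.all _ _
  have hlin : ∀ r : P, (Algebra.TensorProduct.includeRight : Dg →ₐ[MvPolynomial (Fin n) P] E) (algebraMap P Dg r) =
      algebraMap P E r := by
    intro r
    have h1 : algebraMap P Dg r = algebraMap (MvPolynomial (Fin n) P) Dg (MvPolynomial.C r) :=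
      (RingHom.congr_fun hw r).symm
    rw [h1, AlgHom.commutes, IsScalarTower.algebraMap_apply P P' E, Algebra.TensorProduct.algebraMap_apply,
      Algebra.TensorProduct.algebraMap_apply]
    congr 1
    exact ev.commutes r
  let u₁ : Dg →ₐ[P] E :=
    { (Algebra.TensorProduct.includeRight : Dg →ₐ[MvPolynomial (Fin n) P] E).toRingHom with commutes' := hlin }
  refine ⟨E, inferInstance, inferInstance, inferInstance, u₁.comp (IsScalarTower.toAlgHom P D Dg),
    ψ.restrictScalars P, ?_⟩
  ext x
  show ψ (1 ⊗ₜ algebraMap D Dg x) = σ x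
  rw [Algebra.TensorProduct.lift_tmul, map_one, one_mul]
  exact IsLocalization.lift_eq _ x

/-- A point in a regular algebra `Λ` of a finitely presented algebra extends, modulo the kernel of
`e : Λ → Q` with `Q` local, to a `Q`-point of an étale algebra. -/
theorem exists_etale_point {R Λ Q : Type u} [CommRing R] [CommRing Λ] [CommRing Q] [Algebra R Λ] [Algebra R Q]
    [IsNoetherianRing R] [IsNoetherianRing Λ] [IsLocalRing Q] (hreg : CAlg.IsRegularHom R Λ) (e : Λ →ₐ[R] Q)
    (hQ : ∀ (n : ℕ) (f : Fin n → Q), ∃ (P' : Type u) (_ : CommRing P') (_ : Algebra R P') (_ : Algebra.Etale R P')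
      (χ : P' →ₐ[R] Q) (p : Fin n → P'), ∀ i, χ (p i) = f i)
    (C : Type u) [CommRing C] [Algebra R C] (hC : Algebra.FinitePresentation R C) (φ : C →ₐ[R] Λ) :
    ∃ (E : Type u) (_ : CommRing E) (_ : Algebra R E) (_ : Algebra.Etale R E) (w : C →ₐ[R] E)
      (ψ : E →ₐ[R] Q), ψ.comp w = e.comp φ := by
  obtain ⟨B, _, _, hB, g, h, hgh⟩ := indSmooth_of_isRegularHom hreg C hC φ
  haveI := hB
  let σ : B →ₐ[R] Q := e.comp h
  let q : Ideal B := (IsLocalRing.maximalIdeal Q).comap σ.toRingHom
  haveI : q.IsPrime := Ideal.IsPrime.comap _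
  haveI : Algebra.IsSmoothAt R q := inferInstance
  obtain ⟨E, _, _, _, v, ψ, hv⟩ := exists_etale_section_of_lifts hQ σ q fun g hg =>
    IsLocalRing.notMem_maximalIdeal.1 hg
  exact ⟨E, inferInstance, inferInstance, inferInstance, v.comp g, ψ, by
    rw [← AlgHom.comp_assoc, hv, AlgHom.comp_assoc, hgh]⟩

/-- Elements of a quotient of the base lift to the base. -/
theorem lifts_of_surjective {R Q : Type u} [CommRing R] [CommRing Q] [Algebra R Q]
    (h : Function.Surjective (algebraMap R Q)) (n : ℕ) (f : Fin n → Q) :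
    ∃ (P' : Type u) (_ : CommRing P') (_ : Algebra R P') (_ : Algebra.Etale R P')
      (χ : P' →ₐ[R] Q) (p : Fin n → P'), ∀ i, χ (p i) = f i :=
  ⟨R, inferInstance, inferInstance, inferInstance, Algebra.ofId R Q, fun i => (h (f i)).choose,
    fun i => (h (f i)).choose_spec⟩

theorem isLocalRing_quotient_pow {A : Type u} [CommRing A] [IsLocalRing A] (N : ℕ) :
    IsLocalRing (A ⧸ IsLocalRing.maximalIdeal A ^ (N + 1)) := by
  haveI : Nontrivial (A ⧸ IsLocalRing.maximalIdeal A ^ (N + 1)) :=
    Ideal.Quotient.nontrivial_iff.2 (ne_top_of_le_ne_top (IsLocalRing.maximalIdeal.isMaximal A).ne_top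
      (Ideal.pow_le_self (Nat.succ_ne_zero N)))
  exact IsLocalRing.of_surjective' (Ideal.Quotient.mk _) Ideal.Quotient.mk_surjective

theorem henselianRing_completion {A : Type u} [CommRing A] (I : Ideal A) (hI : I.FG) :
    HenselianRing (AdicCompletion I A) (I.map (algebraMap A (AdicCompletion I A))) := by
  haveI : IsAdicComplete I (AdicCompletion I A) := AdicCompletion.isAdicComplete hI
  haveI : IsAdicComplete (I.map (algebraMap A (AdicCompletion I A))) (AdicCompletion I A) :=
    (IsAdicComplete.map_algebraMap_iff _ _).2 inferInstance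
  infer_instance

/-- Points of étale algebras modulo a power of the ideal lift to the completion. -/
theorem exists_lift_completion {R A : Type u} [CommRing R] [CommRing A] [Algebra R A] (I : Ideal A) (hI : I.FG)
    (N : ℕ) (E : Type u) [CommRing E] [Algebra R E] [Algebra.Smooth R E] (ψ : E →ₐ[R] A ⧸ I ^ (N + 1)) :
    ∃ τ : E →ₐ[R] AdicCompletion I A, ∀ x, AdicCompletion.evalₐ I (N + 1) (τ x) = ψ x := by
  let K : Ideal (AdicCompletion I A) := RingHom.ker (AdicCompletion.evalₐ I (N + 1)).toRingHom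
  have hK : K = (I.map (algebraMap A (AdicCompletion I A))) ^ (N + 1) := FormalStalk.ker_evalₐ I hI _
  haveI := henselianRing_completion I hI
  haveI : HenselianRing (AdicCompletion I A) K :=
    Hensel.henselianRing_mono (hK.trans_le (Ideal.pow_le_self (Nat.succ_ne_zero N)))
  let eA : (AdicCompletion I A ⧸ K) ≃ₐ[A] A ⧸ I ^ (N + 1) :=
    Ideal.quotientKerAlgEquivOfSurjective (AdicCompletion.surjective_evalₐ I (N + 1))
  let eR := eA.restrictScalars R
  obtain ⟨τ, hτ⟩ := Groth.Agent.S0536.result R E (AdicCompletion I A) K (eR.symm.toAlgHom.comp ψ)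
  refine ⟨τ, fun x => ?_⟩
  have h1 : Ideal.Quotient.mk K (τ x) = eR.symm (ψ x) := AlgHom.congr_fun hτ x
  have h2 : eR (Ideal.Quotient.mk K (τ x)) = AdicCompletion.evalₐ I (N + 1) (τ x) := rfl
  rw [← h2, h1, AlgEquiv.apply_symm_apply]

theorem mem_map_of_evalₐ_eq_zero {A : Type u} [CommRing A] (I : Ideal A) (hI : I.FG) (n : ℕ)
    {x : AdicCompletion I A} (hx : AdicCompletion.evalₐ I n x = 0) :
    x ∈ (I ^ n).map (algebraMap A (AdicCompletion I A)) := by
  rw [Ideal.map_pow, ← FormalStalk.ker_evalₐ I hI n, RingHom.mem_ker]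
  exact hx

theorem sub_mem_of_evalₐ_eq {A : Type u} [CommRing A] (I : Ideal A) (hI : I.FG) {k n : ℕ} (hkn : k ≤ n)
    {x y : AdicCompletion I A} (hxy : AdicCompletion.evalₐ I n x = AdicCompletion.evalₐ I n y) :
    x - y ∈ (I ^ k).map (algebraMap A (AdicCompletion I A)) :=
  Ideal.map_mono (Ideal.pow_le_pow_right hkn)
    (mem_map_of_evalₐ_eq_zero I hI n (by rw [map_sub, hxy, sub_self]))

/-- The completion map of a G-ring at a prime is regular on the whole ring. -/
theorem isRegularHom_completion_atPrime {R : Type u} [CommRing R] [IsNoetherianRing R] (p : Ideal R)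
    [p.IsPrime] (A : Type u) [CommRing A] [Algebra R A] [IsLocalization.AtPrime A p] [IsLocalRing A]
    (hG : CAlg.IsGRing A) :
    CAlg.IsRegularHom R (AdicCompletion (IsLocalRing.maximalIdeal A) A) := by
  haveI := hG.1
  haveI := FormalStalk.isNoetherianRing (IsLocalRing.maximalIdeal A)
  exact FlatDepth.isRegularHom_comp (B := A)
    (GRingCpl.isRegularHom_of_isLocalization p.primeCompl)
    (Groth.Agent.S0600.result _ hG _) fun q _ =>
      FlatDepth.isNoetherianRing_tensor_essFinite R _ q.ResidueField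

/-- Polynomial systems with solutions in an algebra give points of a finitely presented algebra. -/
theorem exists_system_point {R Λ : Type u} [CommRing R] [CommRing Λ] [Algebra R Λ] {n m : ℕ}
    (F : Fin m → MvPolynomial (Fin n) R) (a : Fin n → Λ) (ha : ∀ j, MvPolynomial.aeval a (F j) = 0) :
    ∃ (C : Type u) (_ : CommRing C) (_ : Algebra R C) (_ : Algebra.FinitePresentation R C)
      (φ : C →ₐ[R] Λ) (c : Fin n → C), (∀ j, MvPolynomial.aeval c (F j) = 0) ∧ ∀ i, φ (c i) = a i := by
  let J : Ideal (MvPolynomial (Fin n) R) := Ideal.span (Set.range F)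
  have hker : ∀ q ∈ J, MvPolynomial.aeval a q = 0 := fun q hq =>
    (Ideal.span_le.2 (by rintro _ ⟨j, rfl⟩; exact ha j) : J ≤ RingHom.ker (MvPolynomial.aeval a).toRingHom) hq
  refine ⟨MvPolynomial (Fin n) R ⧸ J, inferInstance, inferInstance,
    Algebra.FinitePresentation.quotient (Submodule.fg_span (Set.finite_range F)),
    Ideal.Quotient.liftₐ J (MvPolynomial.aeval a) hker, fun i => Ideal.Quotient.mk J (MvPolynomial.X i),
    fun j => ?_, fun i => MvPolynomial.aeval_X a i⟩
  have h1 : MvPolynomial.aeval (fun i => Ideal.Quotient.mk J (MvPolynomial.X i)) = Ideal.Quotient.mkₐ R J :=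
    MvPolynomial.algHom_ext fun i => by simp
  rw [h1]
  exact Ideal.Quotient.eq_zero_iff_mem.2 (Ideal.subset_span ⟨j, rfl⟩)

set_option maxHeartbeats 1000000 in
/-- Approximation in étale neighbourhoods of the closed point of a local G-ring. -/
theorem approx_etale_nbhd {R : Type u} [CommRing R] [IsLocalRing R] (hG : CAlg.IsGRing R) {n m : ℕ}
    (F : Fin m → MvPolynomial (Fin n) R) (a : Fin n → AdicCompletion (IsLocalRing.maximalIdeal R) R)
    (ha : ∀ j, MvPolynomial.aeval a (F j) = 0) (N : ℕ) :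
    ∃ (R' : Type u) (_ : CommRing R') (_ : Algebra R R'), Algebra.Etale R R' ∧
      ∃ (ψ : R' →ₐ[R] AdicCompletion (IsLocalRing.maximalIdeal R) R) (m' : Ideal R'), m'.IsMaximal ∧
        m'.comap (algebraMap R R') = IsLocalRing.maximalIdeal R ∧
        (∀ x : R', ∃ r : R, x - algebraMap R R' r ∈ m') ∧
        (∀ x ∈ m', ψ x ∈ (IsLocalRing.maximalIdeal R).map
          (algebraMap R (AdicCompletion (IsLocalRing.maximalIdeal R) R))) ∧
        ∃ b : Fin n → R', (∀ j, MvPolynomial.aeval b (F j) = 0) ∧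
          ∀ i, a i - ψ (b i) ∈ (IsLocalRing.maximalIdeal R ^ N).map
            (algebraMap R (AdicCompletion (IsLocalRing.maximalIdeal R) R)) := by
  haveI := hG.1
  haveI := FormalStalk.isNoetherianRing (IsLocalRing.maximalIdeal R)
  haveI := isLocalRing_quotient_pow (A := R) N
  have hI : (IsLocalRing.maximalIdeal R).FG := IsNoetherian.noetherian (IsLocalRing.maximalIdeal R)
  obtain ⟨C, _, _, hC, φ, c, hc, hφc⟩ := exists_system_point F a ha
  obtain ⟨E, _, _, _, w, ψN, hw⟩ := exists_etale_point (Groth.Agent.S0600.result R hG (IsLocalRing.maximalIdeal R))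
    (AdicCompletion.evalₐ (IsLocalRing.maximalIdeal R) (N + 1)) (lifts_of_surjective Ideal.Quotient.mk_surjective) C hC φ
  obtain ⟨τ, hτ⟩ := exists_lift_completion (IsLocalRing.maximalIdeal R) hI N E ψN
  let π₁ : AdicCompletion (IsLocalRing.maximalIdeal R) R →ₐ[R] R ⧸ (IsLocalRing.maximalIdeal R) ^ 1 := AdicCompletion.evalₐ (IsLocalRing.maximalIdeal R) 1
  let r₁ : E →ₐ[R] R ⧸ (IsLocalRing.maximalIdeal R) := (Ideal.Quotient.factorₐ R (le_of_eq (pow_one (IsLocalRing.maximalIdeal R)))).comp (π₁.comp τ)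
  have hr₁ : Function.Surjective r₁ := fun y => by
    obtain ⟨r, rfl⟩ := Ideal.Quotient.mk_surjective y
    exact ⟨algebraMap R E r, r₁.commutes r⟩
  refine ⟨E, inferInstance, inferInstance, inferInstance, τ, RingHom.ker r₁.toRingHom,
    (letI := Ideal.Quotient.field (IsLocalRing.maximalIdeal R); RingHom.ker_isMaximal_of_surjective r₁.toRingHom hr₁), ?_, fun x => ?_, fun x hx => ?_, fun i => w (c i),
    fun j => ?_, fun i => ?_⟩
  · ext r
    rw [Ideal.mem_comap, RingHom.mem_ker]
    change r₁ (algebraMap R E r) = 0 ↔ r ∈ (IsLocalRing.maximalIdeal R)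
    rw [AlgHom.commutes, Ideal.Quotient.algebraMap_eq, Ideal.Quotient.eq_zero_iff_mem]
  · obtain ⟨r, hr⟩ := Ideal.Quotient.mk_surjective (r₁ x)
    refine ⟨r, ?_⟩
    rw [RingHom.mem_ker]
    change r₁ (x - algebraMap R E r) = 0
    rw [map_sub, AlgHom.commutes, Ideal.Quotient.algebraMap_eq, hr, sub_self]
  · rw [RingHom.mem_ker] at hx
    change Ideal.Quotient.factorₐ R (le_of_eq (pow_one (IsLocalRing.maximalIdeal R))) (π₁ (τ x)) = 0 at hx
    have h0 : π₁ (τ x) = 0 := by
      obtain ⟨r, hr⟩ := Ideal.Quotient.mk_surjective (π₁ (τ x))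
      rw [← hr] at hx ⊢
      change Ideal.Quotient.mk (IsLocalRing.maximalIdeal R) r = 0 at hx
      rw [Ideal.Quotient.eq_zero_iff_mem] at hx ⊢
      rwa [pow_one]
    have := mem_map_of_evalₐ_eq_zero (IsLocalRing.maximalIdeal R) hI 1 h0
    rwa [pow_one] at this
  · rw [← MvPolynomial.comp_aeval_apply, hc, map_zero]
  · refine sub_mem_of_evalₐ_eq (IsLocalRing.maximalIdeal R) hI (Nat.le_succ N) ?_
    rw [hτ, show ψN (w (c i)) = AdicCompletion.evalₐ (IsLocalRing.maximalIdeal R) (N + 1) (φ (c i)) from AlgHom.congr_fun hw _, hφc]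

set_option maxHeartbeats 1000000 in
/-- Approximation in étale neighbourhoods of a prime with G-ring local ring. -/
theorem approx_etale_nbhd_atPrime {R : Type u} [CommRing R] [IsNoetherianRing R] (p : Ideal R) [p.IsPrime]
    (A : Type u) [CommRing A] [Algebra R A] [IsLocalization.AtPrime A p] [IsLocalRing A]
    (hG : CAlg.IsGRing A) {n m : ℕ} (F : Fin m → MvPolynomial (Fin n) R)
    (a : Fin n → AdicCompletion (IsLocalRing.maximalIdeal A) A)
    (ha : ∀ j, MvPolynomial.aeval a (MvPolynomial.map (algebraMap R A) (F j)) = 0)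
    (N : ℕ) :
    ∃ (R' : Type u) (_ : CommRing R') (_ : Algebra R R'), Algebra.Etale R R' ∧
      ∃ (ψ : R' →+* AdicCompletion (IsLocalRing.maximalIdeal A) A)
        (p' : Ideal R'), p'.IsPrime ∧
        (∀ r : R, ψ (algebraMap R R' r) =
          algebraMap A _ (algebraMap R A r)) ∧
        p'.comap (algebraMap R R') = p ∧
        (∀ x : R', ∃ r s : R, s ∉ p ∧ algebraMap R R' s * x - algebraMap R R' r ∈ p') ∧
        (∀ x ∈ p', ψ x ∈ (IsLocalRing.maximalIdeal A).map
          (algebraMap A
            (AdicCompletion (IsLocalRing.maximalIdeal A) A))) ∧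
        ∃ b : Fin n → R', (∀ j, MvPolynomial.aeval b (F j) = 0) ∧
          ∀ i, a i - ψ (b i) ∈ (IsLocalRing.maximalIdeal A ^ N).map
            (algebraMap A
              (AdicCompletion (IsLocalRing.maximalIdeal A) A)) := by
  classical
  haveI := hG.1
  haveI := FormalStalk.isNoetherianRing (IsLocalRing.maximalIdeal A)
  haveI := isLocalRing_quotient_pow (A := A) N
  have hI : (IsLocalRing.maximalIdeal A).FG := IsNoetherian.noetherian (IsLocalRing.maximalIdeal A)
  have hlifts : ∀ (k : ℕ) (f : Fin k → A ⧸ (IsLocalRing.maximalIdeal A) ^ (N + 1)), ∃ (P' : Type u) (_ : CommRing P') (_ : Algebra R P')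
      (_ : Algebra.Etale R P') (χ : P' →ₐ[R] A ⧸ (IsLocalRing.maximalIdeal A) ^ (N + 1)) (q : Fin k → P'), ∀ i, χ (q i) = f i := by
    intro k f
    choose f' hf' using fun i => Ideal.Quotient.mk_surjective (f i)
    obtain ⟨s, hs⟩ := IsLocalization.exist_integer_multiples_of_finite p.primeCompl f'
    choose r hr using hs
    haveI : Algebra.Etale R (Localization.Away (s : R)) := Algebra.Etale.of_isLocalizationAway (s : R)
    let χ₀ : Localization.Away (s : R) →ₐ[R] A :=
      IsLocalization.liftAlgHom (M := Submonoid.powers (s : R)) (f := Algebra.ofId R A) fun y => by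
        obtain ⟨j, hj⟩ := y.2
        rw [← hj, map_pow]
        exact (IsLocalization.map_units A s).pow j
    refine ⟨Localization.Away (s : R), inferInstance, inferInstance, inferInstance,
      ((Ideal.Quotient.mkₐ A ((IsLocalRing.maximalIdeal A) ^ (N + 1))).restrictScalars R).comp χ₀,
      fun i => IsLocalization.mk' _ (r i) (⟨(s : R), Submonoid.mem_powers _⟩ : Submonoid.powers (s : R)),
      fun i => ?_⟩
    change Ideal.Quotient.mk ((IsLocalRing.maximalIdeal A) ^ (N + 1)) (χ₀ _) = f i
    rw [← hf']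
    congr 1
    refine (IsLocalization.map_units A s).mul_left_cancel ?_
    have h1 : algebraMap R A (s : R) =
        χ₀ (algebraMap R (Localization.Away (s : R)) (s : R)) := (χ₀.commutes _).symm
    rw [← Algebra.smul_def (s : R) (f' i), ← hr, h1, ← map_mul, ← χ₀.commutes]
    congr 1
    exact IsLocalization.mk'_spec' _ _ (⟨(s : R), Submonoid.mem_powers _⟩ : Submonoid.powers (s : R))
  obtain ⟨C, _, _, hC, φ, c, hc, hφc⟩ := exists_system_point F a fun j => by
    rw [← MvPolynomial.aeval_map_algebraMap A]; exact ha j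
  obtain ⟨E, _, _, _, w, ψN, hw⟩ := exists_etale_point (isRegularHom_completion_atPrime p A hG)
    ((AdicCompletion.evalₐ (IsLocalRing.maximalIdeal A) (N + 1)).restrictScalars R) hlifts C hC φ
  obtain ⟨τ, hτ⟩ := exists_lift_completion (IsLocalRing.maximalIdeal A) hI N E ψN
  let π₁ : AdicCompletion (IsLocalRing.maximalIdeal A) A →ₐ[R] A ⧸ (IsLocalRing.maximalIdeal A) ^ 1 := (AdicCompletion.evalₐ (IsLocalRing.maximalIdeal A) 1).restrictScalars R
  let r₁ : E →ₐ[R] A ⧸ IsLocalRing.maximalIdeal A := ((Ideal.Quotient.factorₐ A (le_of_eq (pow_one (IsLocalRing.maximalIdeal A)))).restrictScalars R).comp (π₁.comp τ)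
  haveI : (RingHom.ker r₁.toRingHom).IsPrime := RingHom.ker_isPrime r₁.toRingHom
  have halg : ∀ r : R, r₁ (algebraMap R E r) = Ideal.Quotient.mk (IsLocalRing.maximalIdeal A) (algebraMap R A r) := fun r => r₁.commutes r
  refine ⟨E, inferInstance, inferInstance, inferInstance, τ.toRingHom, RingHom.ker r₁.toRingHom, inferInstance,
    fun r => τ.commutes r, ?_, fun x => ?_, fun x hx => ?_, fun i => w (c i), fun j => ?_, fun i => ?_⟩
  · ext r
    rw [Ideal.mem_comap, RingHom.mem_ker]
    change r₁ (algebraMap R E r) = 0 ↔ r ∈ p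
    rw [halg, Ideal.Quotient.eq_zero_iff_mem]
    exact IsLocalization.AtPrime.to_map_mem_maximal_iff A p r
  · obtain ⟨z, hz⟩ := Ideal.Quotient.mk_surjective (r₁ x)
    obtain ⟨r, s, rfl⟩ := IsLocalization.exists_mk'_eq p.primeCompl z
    refine ⟨r, s, s.2, ?_⟩
    rw [RingHom.mem_ker]
    change r₁ (algebraMap R E s * x - algebraMap R E r) = 0
    rw [map_sub, map_mul, halg, halg, ← hz, ← map_mul, IsLocalization.mk'_spec', sub_self]
  · rw [RingHom.mem_ker] at hx
    change Ideal.Quotient.factorₐ A (le_of_eq (pow_one (IsLocalRing.maximalIdeal A))) (π₁ (τ x)) = 0 at hx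
    have h0 : π₁ (τ x) = 0 := by
      obtain ⟨r, hr⟩ := Ideal.Quotient.mk_surjective (π₁ (τ x))
      rw [← hr] at hx ⊢
      change Ideal.Quotient.mk (IsLocalRing.maximalIdeal A) r = 0 at hx
      rw [Ideal.Quotient.eq_zero_iff_mem] at hx ⊢
      rwa [pow_one]
    have := mem_map_of_evalₐ_eq_zero (IsLocalRing.maximalIdeal A) hI 1 h0
    rwa [pow_one] at this
  · rw [← MvPolynomial.comp_aeval_apply, hc, map_zero]
  · refine sub_mem_of_evalₐ_eq (IsLocalRing.maximalIdeal A) hI (Nat.le_succ N) ?_
    change _ = AdicCompletion.evalₐ (IsLocalRing.maximalIdeal A) (N + 1) (τ (w (c i)))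
    rw [hτ, show ψN (w (c i)) = AdicCompletion.evalₐ (IsLocalRing.maximalIdeal A) (N + 1) (φ (c i)) from AlgHom.congr_fun hw _, hφc]

end Groth.Agent.Popescu
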