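import Mathlib
import Groth.Agent.Popescu.EtaleNbhd
import Groth.Agent.Popescu.PairNbhd

/-!
Approximation of maps into the completion of a local ring by maps into étale neighbourhoods.
-/

set_option autoImplicit false
set_option linter.style.haveILetI false
set_option backward.isDefEq.respectTransparency false

universe u

open TensorProduct

namespace Groth.Agent.Popescu

/-- Finitely many elements of a quotient of a local ring lift to a localisation away from an element. -/
theorem lifts_atPrime {R : Type u} [CommRing R] (p : Ideal R) [p.IsPrime] (L Q : Type u) [CommRing L]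
    [Algebra R L] [IsLocalization.AtPrime L p] [CommRing Q] [Algebra R Q] [Algebra L Q] [IsScalarTower R L Q]
    (hQ : Function.Surjective (algebraMap L Q)) (k : ℕ) (f : Fin k → Q) :
    ∃ (P' : Type u) (_ : CommRing P') (_ : Algebra R P') (_ : Algebra.Etale R P') (χ : P' →ₐ[R] Q)
      (q : Fin k → P'), ∀ i, χ (q i) = f i := by
  classical
  choose f' hf' using fun i => hQ (f i)
  obtain ⟨s, hs⟩ := IsLocalization.exist_integer_multiples_of_finite p.primeCompl f'
  choose r hr using hs
  haveI : Algebra.Etale R (Localization.Away (s : R)) := Algebra.Etale.of_isLocalizationAway (s : R)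
  let χ₀ : Localization.Away (s : R) →ₐ[R] L :=
    IsLocalization.liftAlgHom (M := Submonoid.powers (s : R)) (f := Algebra.ofId R L) fun y => by
      obtain ⟨j, hj⟩ := y.2
      rw [← hj, map_pow]
      exact (IsLocalization.map_units L s).pow j
  refine ⟨Localization.Away (s : R), inferInstance, inferInstance, inferInstance,
    (IsScalarTower.toAlgHom R L Q).comp χ₀,
    fun i => IsLocalization.mk' _ (r i) (⟨(s : R), Submonoid.mem_powers _⟩ : Submonoid.powers (s : R)),
    fun i => ?_⟩
  change algebraMap L Q (χ₀ _) = f i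
  rw [← hf']
  congr 1
  refine (IsLocalization.map_units L s).mul_left_cancel ?_
  have h1 : algebraMap R L (s : R) =
      χ₀ (algebraMap R (Localization.Away (s : R)) (s : R)) := (χ₀.commutes _).symm
  rw [← Algebra.smul_def (s : R) (f' i), ← hr, h1, ← map_mul, ← χ₀.commutes]
  congr 1
  exact IsLocalization.mk'_spec' _ _ (⟨(s : R), Submonoid.mem_powers _⟩ : Submonoid.powers (s : R))

/-- Truncations of an unramified extension of local rings with trivial residue extension: a retraction
onto a truncation of the base has the power of the maximal ideal as kernel. -/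
theorem mem_pow_of_retraction {L M : Type u} [CommRing L] [CommRing M] [IsLocalRing L] [IsLocalRing M]
    [Algebra L M] (hmax : (IsLocalRing.maximalIdeal L).map (algebraMap L M) = IsLocalRing.maximalIdeal M)
    (hres : ∀ z : M, ∃ l : L, z - algebraMap L M l ∈ IsLocalRing.maximalIdeal M) (N : ℕ)
    (χ : M →+* L ⧸ IsLocalRing.maximalIdeal L ^ N)
    (hχ : ∀ l, χ (algebraMap L M l) = Ideal.Quotient.mk _ l) {z : M} (hz : χ z = 0) :
    z ∈ IsLocalRing.maximalIdeal M ^ N := by
  obtain ⟨l, hl⟩ := exists_sub_mem_pow_of_surjective (IsLocalRing.maximalIdeal L) (fun x => by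
    rw [hmax]; exact hres x) N z
  have h1 : χ (z - algebraMap L M l) = 0 := by
    refine (Ideal.map_le_iff_le_comap.2 fun a ha => ?_ :
      (IsLocalRing.maximalIdeal L ^ N).map (algebraMap L M) ≤ RingHom.ker χ) hl
    rw [Ideal.mem_comap, RingHom.mem_ker, hχ, Ideal.Quotient.eq_zero_iff_mem]
    exact ha
  rw [map_sub, hz, zero_sub, neg_eq_zero, hχ, Ideal.Quotient.eq_zero_iff_mem] at h1
  have h2 : z ∈ (IsLocalRing.maximalIdeal L ^ N).map (algebraMap L M) := by
    simpa using Ideal.add_mem _ hl (Ideal.mem_map_of_mem (algebraMap L M) h1)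
  rwa [Ideal.map_pow, hmax] at h2

set_option maxHeartbeats 1000000 in
/-- A map to the completion of a local G-ring is approximated by a map to an étale neighbourhood. -/
theorem approx_local {A B C L : Type u} [CommRing A] [CommRing B] [CommRing C] [CommRing L] [Algebra A B]
    [Algebra.FinitePresentation A B] [Algebra A C] [IsNoetherianRing C] (p : Ideal C) [p.IsPrime] [Algebra C L]
    [IsLocalization.AtPrime L p] [IsLocalRing L] [Algebra A L] [IsScalarTower A C L] (hG : CAlg.IsGRing L)
    (φ : B →ₐ[A] AdicCompletion (IsLocalRing.maximalIdeal L) L) (N : ℕ) :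
    ∃ (R' : Type u) (_ : CommRing R') (_ : Algebra C R') (_ : Algebra.Etale C R') (β : B →+* R')
      (p' : Ideal R') (_ : p'.IsPrime),
      (∀ a, β (algebraMap A B a) = algebraMap C R' (algebraMap A C a)) ∧
      p'.comap (algebraMap C R') = p ∧
      (∀ b, b ∈ p'.comap β ↔ ¬ IsUnit (AdicCompletion.evalₐ (IsLocalRing.maximalIdeal L) (N + 1) (φ b))) ∧
      ∀ (M : Type u) [CommRing M] [Algebra R' M] [IsLocalization.AtPrime M p'] [IsLocalRing M],
        (∀ z : M, ∃ c s : C, s ∉ p ∧ algebraMap R' M (algebraMap C R' s) * z - algebraMap R' M (algebraMap C R' c) ∈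
          IsLocalRing.maximalIdeal M) ∧
        ∃ χ : M →+* L ⧸ IsLocalRing.maximalIdeal L ^ (N + 1),
          (∀ z, χ z = 0 → z ∈ IsLocalRing.maximalIdeal M ^ (N + 1)) ∧
          (∀ c, χ (algebraMap R' M (algebraMap C R' c)) = Ideal.Quotient.mk _ (algebraMap C L c)) ∧
          ∀ b, χ (algebraMap R' M (β b)) = AdicCompletion.evalₐ (IsLocalRing.maximalIdeal L) (N + 1) (φ b) := by
  classical
  haveI := hG.1
  haveI := FormalStalk.isNoetherianRing (IsLocalRing.maximalIdeal L)
  haveI := isLocalRing_quotient_pow (A := L) N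
  let φC : C ⊗[A] B →ₐ[C] AdicCompletion (IsLocalRing.maximalIdeal L) L :=
    Algebra.TensorProduct.lift (Algebra.ofId C _) φ fun _ _ => Commute.all _ _
  obtain ⟨R', iR, iA, hR', w, ψ, hw⟩ := exists_etale_point (isRegularHom_completion_atPrime p L hG)
    ((AdicCompletion.evalₐ (IsLocalRing.maximalIdeal L) (N + 1)).restrictScalars C)
    (lifts_atPrime p L (L ⧸ IsLocalRing.maximalIdeal L ^ (N + 1)) Ideal.Quotient.mk_surjective)
    (C ⊗[A] B) inferInstance φC
  let β : B →+* R' := w.toRingHom.comp (Algebra.TensorProduct.includeRight : B →ₐ[A] C ⊗[A] B).toRingHom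
  let p' : Ideal R' := (IsLocalRing.maximalIdeal (L ⧸ IsLocalRing.maximalIdeal L ^ (N + 1))).comap ψ.toRingHom
  haveI : p'.IsPrime := Ideal.IsPrime.comap _
  have hmem : ∀ x, x ∈ p' ↔ ¬ IsUnit (ψ x) := fun x => IsLocalRing.mem_maximalIdeal _
  have halg : ∀ c, ψ (algebraMap C R' c) = Ideal.Quotient.mk _ (algebraMap C L c) := fun c => ψ.commutes c
  have hβ : ∀ b, ψ (β b) = AdicCompletion.evalₐ (IsLocalRing.maximalIdeal L) (N + 1) (φ b) := fun b => by
    refine (AlgHom.congr_fun hw _).trans ?_
    change AdicCompletion.evalₐ (IsLocalRing.maximalIdeal L) (N + 1) (φC ((1 : C) ⊗ₜ[A] b)) = _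
    simp [φC]
  have hp : p'.comap (algebraMap C R') = p := by
    ext c
    rw [Ideal.mem_comap, hmem, halg, ← IsLocalization.AtPrime.to_map_mem_maximal_iff L p c,
      IsLocalRing.mem_maximalIdeal, mem_nonunits_iff]
    refine not_congr ⟨fun h => ?_, fun h => h.map _⟩
    haveI : IsLocalHom (Ideal.Quotient.mk (IsLocalRing.maximalIdeal L ^ (N + 1))) :=
      IsLocalHom.of_surjective _ Ideal.Quotient.mk_surjective
    exact h.of_map
  refine ⟨R', iR, iA, hR', β, p', inferInstance, fun a => ?_, hp, fun b => ?_, fun M _ _ _ _ => ?_⟩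
  · change w ((1 : C) ⊗ₜ[A] algebraMap A B a) = _
    rw [← w.commutes, Algebra.TensorProduct.algebraMap_apply]
    congr 1
    rw [Algebra.algebraMap_self, RingHom.id_apply, Algebra.algebraMap_eq_smul_one,
      Algebra.algebraMap_eq_smul_one, ← TensorProduct.smul_tmul]
  · rw [Ideal.mem_comap, hmem, hβ]
  · let χ : M →+* L ⧸ IsLocalRing.maximalIdeal L ^ (N + 1) :=
      IsLocalization.lift (M := p'.primeCompl) (g := ψ.toRingHom) fun y => not_not.1 fun h => y.2 ((hmem _).2 h)
    have hχ : ∀ x, χ (algebraMap R' M x) = ψ x := fun x => IsLocalization.lift_eq _ x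
    letI : Algebra C M := ((algebraMap R' M).comp (algebraMap C R')).toAlgebra
    haveI : IsScalarTower C R' M := IsScalarTower.of_algebraMap_eq' rfl
    let ι : L →+* M := IsLocalization.lift (M := p.primeCompl) (g := algebraMap C M) fun y =>
      IsLocalization.map_units M (⟨algebraMap C R' y.1, fun h => y.2 (hp ▸ h)⟩ : p'.primeCompl)
    letI : Algebra L M := ι.toAlgebra
    have hι : ∀ c, algebraMap L M (algebraMap C L c) = algebraMap C M c := fun c => IsLocalization.lift_eq _ c
    haveI : IsScalarTower C L M := IsScalarTower.of_algebraMap_eq fun c => (hι c).symm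
    haveI : Algebra.FormallyEtale R' M := Algebra.FormallyEtale.of_isLocalization p'.primeCompl
    haveI : Algebra.FormallyUnramified C M := Algebra.FormallyUnramified.comp C R' M
    haveI : Algebra.FormallyUnramified L M := Algebra.FormallyUnramified.of_restrictScalars C L M
    haveI : Algebra.EssFiniteType R' M := Algebra.EssFiniteType.of_isLocalization M p'.primeCompl
    haveI : Algebra.EssFiniteType C M := Algebra.EssFiniteType.comp C R' M
    haveI : Algebra.EssFiniteType L M := Algebra.EssFiniteType.of_comp C L M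
    have hχι : ∀ l, χ (algebraMap L M l) = Ideal.Quotient.mk _ l := by
      intro l
      refine RingHom.congr_fun (IsLocalization.ringHom_ext p.primeCompl (RingHom.ext fun c => ?_) :
        χ.comp (algebraMap L M) = Ideal.Quotient.mk _) l
      rw [RingHom.comp_apply, RingHom.comp_apply, hι, IsScalarTower.algebraMap_apply C R' M, hχ, halg, RingHom.comp_apply]
    haveI : IsLocalHom (algebraMap L M) := ⟨fun l hl => by
      haveI : IsLocalHom (Ideal.Quotient.mk (IsLocalRing.maximalIdeal L ^ (N + 1))) :=
        IsLocalHom.of_surjective _ Ideal.Quotient.mk_surjective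
      have := hl.map χ
      rw [hχι] at this
      exact this.of_map⟩
    have hsurj : ∀ z : M, ∃ l : L, z - algebraMap L M l ∈ IsLocalRing.maximalIdeal M := by
      intro z
      obtain ⟨l, hl⟩ := Ideal.Quotient.mk_surjective (χ z)
      refine ⟨l, (IsLocalRing.mem_maximalIdeal _).2 fun h => ?_⟩
      have := h.map χ
      rw [map_sub, hχι, hl, sub_self] at this
      exact not_isUnit_zero this
    refine ⟨fun z => ?_, χ, fun z hz => mem_pow_of_retraction Algebra.FormallyUnramified.map_maximalIdeal
      hsurj (N + 1) χ hχι hz, fun c => by rw [hχ, halg], fun b => by rw [hχ, hβ]⟩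
    obtain ⟨l, hl⟩ := hsurj z
    obtain ⟨c, s, rfl⟩ := IsLocalization.exists_mk'_eq p.primeCompl l
    refine ⟨c, s, s.2, ?_⟩
    have h2 : algebraMap R' M (algebraMap C R' s) * algebraMap L M (IsLocalization.mk' L c s) =
        algebraMap R' M (algebraMap C R' c) := by
      rw [← IsScalarTower.algebraMap_apply C R' M, ← hι, ← map_mul, IsLocalization.mk'_spec', hι,
        ← IsScalarTower.algebraMap_apply C R' M]
    rw [← h2, ← mul_sub]
    exact Ideal.mul_mem_left _ _ hl

end Groth.Agent.Popescu
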