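import Mathlib
import Groth.Agent.Popescu.LocalNbhd
import Groth.Agent.GRingCpl.GRingEss

/-!
Approximation of maps into completed stalks by morphisms from elementary étale neighbourhoods.
-/

set_option autoImplicit false
set_option linter.style.haveILetI false
set_option backward.isDefEq.respectTransparency false

universe u

open CategoryTheory AlgebraicGeometry TopologicalSpace Opposite

namespace Groth.Agent.Popescu

theorem stalkMap_SpecMap_fromSpec {X : Scheme.{u}} {W : X.Opens} (hW : IsAffineOpen W) {R : CommRingCat.{u}}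
    (β : Γ(X, W) ⟶ R) (u : Spec R) (h : (Spec.map β ≫ hW.fromSpec) u ∈ W) (b : Γ(X, W)) :
    (Spec.map β ≫ hW.fromSpec).stalkMap u (X.presheaf.germ W _ h b) =
      StructureSheaf.toStalk R u (β b) := by
  have hle : (⊤ : (Spec R).Opens) ≤ (Spec.map β ≫ hW.fromSpec) ⁻¹ᵁ W := by
    intro z _
    exact (hW.range_fromSpec ▸ Set.mem_range_self (Spec.map β z) : _ ∈ (W : Set X))
  rw [Scheme.Hom.germ_stalkMap_apply]
  have h1 : (Spec.map β ≫ hW.fromSpec).appLE W ⊤ hle = β ≫ (Scheme.ΓSpecIso R).inv := by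
    rw [Scheme.Hom.comp_appLE, IsAffineOpen.fromSpec_app_self, Category.assoc, Scheme.Hom.map_appLE,
      Scheme.ΓSpecIso_inv_naturality]
    congr 1
  have h2 : (Spec R).presheaf.germ ((Spec.map β ≫ hW.fromSpec) ⁻¹ᵁ W) u h ((Spec.map β ≫ hW.fromSpec).app W b) =
      (Spec R).presheaf.germ ⊤ u trivial ((Spec.map β ≫ hW.fromSpec).appLE W ⊤ hle b) := by
    rw [Scheme.Hom.appLE]
    exact (TopCat.Presheaf.germ_res_apply (Spec R).presheaf (homOfLE hle) u trivial _).symm
  rw [h2, h1]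
  rfl

theorem stalkCongr_inv_germ {X : Scheme.{u}} {W : X.Opens} {y y' : X} (h : y' = y) (hy : y ∈ W) (b : Γ(X, W)) :
    (X.presheaf.stalkCongr (Inseparable.of_eq h)).inv.hom (X.presheaf.germ W y hy b) =
      X.presheaf.germ W y' (h ▸ hy) b :=
  TopCat.Presheaf.germ_stalkSpecializes_apply X.presheaf hy (specializes_of_eq h) b

theorem stalkCongr_hom_germ {X : Scheme.{u}} {W : X.Opens} {y y' : X} (h : y = y') (hy : y ∈ W) (b : Γ(X, W)) :
    (X.presheaf.stalkCongr (Inseparable.of_eq h)).hom.hom (X.presheaf.germ W y hy b) =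
      X.presheaf.germ W y' (h ▸ hy) b :=
  TopCat.Presheaf.germ_stalkSpecializes_apply X.presheaf hy (specializes_of_eq h.symm) b

theorem stalkMap_germ_appLE {X Y : Scheme.{u}} (f : X ⟶ Y) {V : Y.Opens} {U : X.Opens} (e : U ≤ f ⁻¹ᵁ V) (x : X)
    (hx : x ∈ U) (a : Γ(Y, V)) :
    f.stalkMap x (Y.presheaf.germ V (f x) (e hx) a) = X.presheaf.germ U x hx (f.appLE V U e a) := by
  rw [Scheme.Hom.germ_stalkMap_apply, Scheme.Hom.appLE]
  exact (TopCat.Presheaf.germ_res_apply X.presheaf (homOfLE e) x hx _).symm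

set_option maxHeartbeats 2000000 in
theorem approx_scheme {X Y S : Scheme.{u}} [IsLocallyNoetherian S] (p : X ⟶ S) (q : Y ⟶ S)
    [LocallyOfFiniteType p] [LocallyOfFiniteType q] (x : X) (y : Y) (hxy : p x = q y)
    (hG : CAlg.IsGRing ↑(S.presheaf.stalk (p x)))
    (φ : ↑(Y.presheaf.stalk y) →+*
      (AdicCompletion (IsLocalRing.maximalIdeal ↑(X.presheaf.stalk x)) ↑(X.presheaf.stalk x)))
    (hφ : φ.comp ((q.stalkMap y).hom.comp (S.presheaf.stalkCongr (Inseparable.of_eq hxy)).hom.hom) =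
      (algebraMap ↑(X.presheaf.stalk x)
        (AdicCompletion (IsLocalRing.maximalIdeal ↑(X.presheaf.stalk x)) ↑(X.presheaf.stalk x))).comp
        (p.stalkMap x).hom)
    (hloc : ∀ b ∈ IsLocalRing.maximalIdeal ↑(Y.presheaf.stalk y), φ b ∈
      (IsLocalRing.maximalIdeal ↑(X.presheaf.stalk x)).map (algebraMap ↑(X.presheaf.stalk x)
        (AdicCompletion (IsLocalRing.maximalIdeal ↑(X.presheaf.stalk x)) ↑(X.presheaf.stalk x))))
    (N : ℕ) :
    ∃ (U : Scheme.{u}) (e : U ⟶ X) (u : U) (heu : e u = x) (f : U ⟶ Y) (hfu : f u = y),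
      Etale e ∧ Function.Bijective (e.residueFieldMap u) ∧ f ≫ q = e ≫ p ∧
      ∀ (b : ↑(Y.presheaf.stalk y)) (c : ↑(X.presheaf.stalk x)),
        AdicCompletion.evalₐ (IsLocalRing.maximalIdeal ↑(X.presheaf.stalk x)) (N + 1) (φ b) =
          Ideal.Quotient.mk (IsLocalRing.maximalIdeal ↑(X.presheaf.stalk x) ^ (N + 1)) c →
        Ideal.Quotient.mk (IsLocalRing.maximalIdeal ↑(U.presheaf.stalk u) ^ (N + 1))
            ((f.stalkMap u).hom ((Y.presheaf.stalkCongr (Inseparable.of_eq hfu)).inv.hom b)) =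
          Ideal.Quotient.mk (IsLocalRing.maximalIdeal ↑(U.presheaf.stalk u) ^ (N + 1))
            ((e.stalkMap u).hom ((X.presheaf.stalkCongr (Inseparable.of_eq heu)).inv.hom c)) := by
  obtain ⟨V, hV, hxV, -⟩ := exists_isAffineOpen_mem_and_subset (U := ⊤) (x := p x) trivial
  obtain ⟨U₀, hU₀, hxU, hUV⟩ := exists_isAffineOpen_mem_and_subset (U := p ⁻¹ᵁ V) (x := x) hxV
  obtain ⟨W, hW, hyW, hWV⟩ := exists_isAffineOpen_mem_and_subset (U := q ⁻¹ᵁ V) (x := y)
    (show q y ∈ V from hxy ▸ hxV)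
  replace hUV : U₀ ≤ p ⁻¹ᵁ V := hUV
  replace hWV : W ≤ q ⁻¹ᵁ V := hWV
  haveI : IsNoetherianRing Γ(S, V) := IsLocallyNoetherian.component_noetherian ⟨V, hV⟩
  letI : Algebra Γ(S, V) Γ(X, U₀) := (p.appLE V U₀ hUV).hom.toAlgebra
  letI : Algebra Γ(S, V) Γ(Y, W) := (q.appLE V W hWV).hom.toAlgebra
  haveI : Algebra.FiniteType Γ(S, V) Γ(X, U₀) := LocallyOfFiniteType.finiteType_appLE p hV hU₀ hUV
  haveI : Algebra.FiniteType Γ(S, V) Γ(Y, W) := LocallyOfFiniteType.finiteType_appLE q hV hW hWV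
  haveI : Algebra.FinitePresentation Γ(S, V) Γ(Y, W) := Algebra.FinitePresentation.of_finiteType.1 inferInstance
  haveI : IsNoetherianRing Γ(X, U₀) := Algebra.FiniteType.isNoetherianRing Γ(S, V) _
  letI := TopCat.Presheaf.algebra_section_stalk X.presheaf (⟨x, hxU⟩ : U₀)
  haveI := hU₀.isLocalization_stalk ⟨x, hxU⟩
  letI : Algebra Γ(S, V) (X.presheaf.stalk x) :=
    ((X.presheaf.germ U₀ x hxU).hom.comp (algebraMap Γ(S, V) Γ(X, U₀))).toAlgebra
  haveI : IsScalarTower Γ(S, V) Γ(X, U₀) (X.presheaf.stalk x) := IsScalarTower.of_algebraMap_eq' rfl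
  have hGL : CAlg.IsGRing ↑(X.presheaf.stalk x) := by
    letI := (p.stalkMap x).hom.toAlgebra
    haveI : Algebra.EssFiniteType (S.presheaf.stalk (p x)) (X.presheaf.stalk x) :=
      LocallyOfFiniteType.stalkMap p x
    exact GRingCpl.isGRing_essFiniteType _ _ hG
  let φB : Γ(Y, W) →ₐ[Γ(S, V)]
      AdicCompletion (IsLocalRing.maximalIdeal ↑(X.presheaf.stalk x)) ↑(X.presheaf.stalk x) :=
    { φ.comp (Y.presheaf.germ W y hyW).hom with
      commutes' := fun a => by
        have h1 := RingHom.congr_fun hφ (S.presheaf.germ V (p x) hxV a)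
        simp only [RingHom.comp_apply] at h1
        rw [stalkCongr_hom_germ hxy hxV a, stalkMap_germ_appLE q hWV y hyW a,
          stalkMap_germ_appLE p hUV x hxU a] at h1
        exact h1.trans (IsScalarTower.algebraMap_apply Γ(S, V) (X.presheaf.stalk x) _ a).symm }
  obtain ⟨R', iR, iA, hR', β, p', hp'prime, hβA, hp', hpβ, hloc'⟩ :=
    approx_local (hU₀.primeIdealOf ⟨x, hxU⟩).asIdeal hGL φB N
  let T : CommRingCat.{u} := CommRingCat.of R'
  let γ : Γ(X, U₀) ⟶ T := CommRingCat.ofHom (algebraMap Γ(X, U₀) R')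
  let δ : Γ(Y, W) ⟶ T := CommRingCat.ofHom β
  let u : Spec T := (⟨p', hp'prime⟩ : PrimeSpectrum R')
  have heu : (Spec.map γ ≫ hU₀.fromSpec) u = x := by
    have : Spec.map γ u = hU₀.primeIdealOf ⟨x, hxU⟩ := PrimeSpectrum.ext hp'
    rw [Scheme.Hom.comp_apply, this, hU₀.fromSpec_primeIdealOf]
  have hfu : (Spec.map δ ≫ hW.fromSpec) u = y := by
    letI := TopCat.Presheaf.algebra_section_stalk Y.presheaf (⟨y, hyW⟩ : W)
    haveI := hW.isLocalization_stalk ⟨y, hyW⟩
    have : Spec.map δ u = hW.primeIdealOf ⟨y, hyW⟩ := by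
      refine PrimeSpectrum.ext (Ideal.ext fun b => ?_)
      refine (hpβ b).trans ?_
      rw [← IsLocalization.AtPrime.to_map_mem_maximal_iff (Y.presheaf.stalk y)
        (hW.primeIdealOf ⟨y, hyW⟩).asIdeal b, IsLocalRing.mem_maximalIdeal, mem_nonunits_iff]
      refine not_congr ⟨fun h => ?_, fun h => ?_⟩
      · by_contra hb
        have h3 := Ideal.mem_map_of_mem (AdicCompletion.evalₐ
          (IsLocalRing.maximalIdeal ↑(X.presheaf.stalk x)) (N + 1)).toRingHom
          (hloc _ ((IsLocalRing.mem_maximalIdeal _).2 hb))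
        haveI := isLocalRing_quotient_pow (A := ↑(X.presheaf.stalk x)) N
        haveI : IsLocalHom (Ideal.Quotient.mk (IsLocalRing.maximalIdeal ↑(X.presheaf.stalk x) ^ (N + 1))) :=
          IsLocalHom.of_surjective _ Ideal.Quotient.mk_surjective
        rw [Ideal.map_map, show (AdicCompletion.evalₐ
            (IsLocalRing.maximalIdeal ↑(X.presheaf.stalk x)) (N + 1)).toRingHom.comp (algebraMap _ _) =
            Ideal.Quotient.mk (IsLocalRing.maximalIdeal ↑(X.presheaf.stalk x) ^ (N + 1)) from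
          RingHom.ext (AdicCompletion.evalₐ _ _).commutes] at h3
        have h4 : (IsLocalRing.maximalIdeal ↑(X.presheaf.stalk x)).map
            (Ideal.Quotient.mk (IsLocalRing.maximalIdeal ↑(X.presheaf.stalk x) ^ (N + 1))) ≤
            IsLocalRing.maximalIdeal _ :=
          Ideal.map_le_iff_le_comap.2 fun m hm => map_nonunit _ m hm
        exact (IsLocalRing.mem_maximalIdeal _).1 (h4 h3) h
      · exact (h.map φ).map (AdicCompletion.evalₐ _ (N + 1))
    rw [Scheme.Hom.comp_apply, this, hW.fromSpec_primeIdealOf]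
  letI : Algebra R' ((Spec T).presheaf.stalk u) := (StructureSheaf.toStalk R' (⟨p', hp'prime⟩ : PrimeSpectrum R')).hom.toAlgebra
  haveI : IsLocalization.AtPrime ((Spec T).presheaf.stalk u) p' :=
    StructureSheaf.IsLocalization.to_stalk (R := T) (⟨p', hp'prime⟩ : PrimeSpectrum T)
  obtain ⟨hres, χ, hker, hχC, hχB⟩ := hloc' ((Spec T).presheaf.stalk u)
  have he : ∀ c : Γ(X, U₀), ((Spec.map γ ≫ hU₀.fromSpec).stalkMap u).hom
      ((X.presheaf.stalkCongr (Inseparable.of_eq heu)).inv.hom (X.presheaf.germ U₀ x hxU c)) =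
      algebraMap R' ((Spec T).presheaf.stalk u) (algebraMap Γ(X, U₀) R' c) := fun c => by
    rw [stalkCongr_inv_germ heu hxU c]
    exact stalkMap_SpecMap_fromSpec hU₀ γ u _ c
  have hf : ∀ b : Γ(Y, W), ((Spec.map δ ≫ hW.fromSpec).stalkMap u).hom
      ((Y.presheaf.stalkCongr (Inseparable.of_eq hfu)).inv.hom (Y.presheaf.germ W y hyW b)) =
      algebraMap R' ((Spec T).presheaf.stalk u) (β b) := fun b => by
    rw [stalkCongr_inv_germ hfu hyW b]
    exact stalkMap_SpecMap_fromSpec hW δ u _ b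
  refine ⟨Spec T, Spec.map γ ≫ hU₀.fromSpec, u, heu, Spec.map δ ≫ hW.fromSpec, hfu, ?_, ?_, ?_, ?_⟩
  · haveI : Etale (Spec.map γ) :=
      HasRingHomProperty.Spec_iff.mpr (RingHom.etale_algebraMap.2 hR')
    exact inferInstance
  · refine ⟨((Spec.map γ ≫ hU₀.fromSpec).residueFieldMap u).hom.injective, fun r => ?_⟩
    obtain ⟨z, rfl⟩ := Scheme.residue_surjective (Spec T) u r
    obtain ⟨c, s, hs, hcs⟩ := hres z
    let ec : ↑(X.presheaf.stalk x) →+* ↑((Spec T).presheaf.stalk u) :=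
      ((Spec.map γ ≫ hU₀.fromSpec).stalkMap u).hom.comp
        (X.presheaf.stalkCongr (Inseparable.of_eq heu)).inv.hom
    let l : ↑(X.presheaf.stalk x) := IsLocalization.mk' _ c (⟨s, hs⟩ : (hU₀.primeIdealOf ⟨x, hxU⟩).asIdeal.primeCompl)
    refine ⟨(X.residue _).hom ((X.presheaf.stalkCongr (Inseparable.of_eq heu)).inv.hom l), ?_⟩
    refine (ConcreteCategory.congr_hom (Scheme.residue_residueFieldMap (Spec.map γ ≫ hU₀.fromSpec) u)
      ((X.presheaf.stalkCongr (Inseparable.of_eq heu)).inv.hom l)).trans ?_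
    change IsLocalRing.residue _ (ec l) = IsLocalRing.residue _ z
    rw [← sub_eq_zero, ← map_sub, IsLocalRing.residue_eq_zero_iff]
    have hu : IsUnit (algebraMap R' ((Spec T).presheaf.stalk u) (algebraMap Γ(X, U₀) R' s)) :=
      IsLocalization.map_units _ (⟨algebraMap Γ(X, U₀) R' s, fun h => hs (hp' ▸ h)⟩ : p'.primeCompl)
    refine (Ideal.unit_mul_mem_iff_mem _ hu).1 ?_
    have h1 : algebraMap R' ((Spec T).presheaf.stalk u) (algebraMap Γ(X, U₀) R' s) * ec l =
        algebraMap R' _ (algebraMap Γ(X, U₀) R' c) := by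
      rw [← he s, ← he c]
      change ec _ * ec l = ec _
      rw [← map_mul]
      congr 1
      exact IsLocalization.mk'_spec' (X.presheaf.stalk x) c
        (⟨s, hs⟩ : (hU₀.primeIdealOf ⟨x, hxU⟩).asIdeal.primeCompl)
    rw [mul_sub, h1, ← neg_sub]
    exact neg_mem hcs
  · rw [Category.assoc, Category.assoc, ← IsAffineOpen.SpecMap_appLE_fromSpec q hV hW hWV,
      ← IsAffineOpen.SpecMap_appLE_fromSpec p hV hU₀ hUV, ← Spec.map_comp_assoc, ← Spec.map_comp_assoc]
    congr 2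
    ext a
    exact hβA a
  · intro b c hbc
    rw [Ideal.Quotient.eq]
    refine hker _ ?_
    rw [map_sub, sub_eq_zero]
    letI := TopCat.Presheaf.algebra_section_stalk Y.presheaf (⟨y, hyW⟩ : W)
    haveI := hW.isLocalization_stalk ⟨y, hyW⟩
    let ef : ↑(Y.presheaf.stalk y) →+* ↑((Spec T).presheaf.stalk u) :=
      ((Spec.map δ ≫ hW.fromSpec).stalkMap u).hom.comp
        (Y.presheaf.stalkCongr (Inseparable.of_eq hfu)).inv.hom
    let ec : ↑(X.presheaf.stalk x) →+* ↑((Spec T).presheaf.stalk u) :=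
      ((Spec.map γ ≫ hU₀.fromSpec).stalkMap u).hom.comp
        (X.presheaf.stalkCongr (Inseparable.of_eq heu)).inv.hom
    have h1 : χ.comp ef = (AdicCompletion.evalₐ _ (N + 1)).toRingHom.comp φ :=
      IsLocalization.ringHom_ext (hW.primeIdealOf ⟨y, hyW⟩).asIdeal.primeCompl (RingHom.ext fun b => by
        change χ (ef (Y.presheaf.germ W y hyW b)) = _
        rw [show ef (Y.presheaf.germ W y hyW b) = _ from hf b, hχB]
        rfl)
    have h2 : χ.comp ec = Ideal.Quotient.mk _ :=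
      IsLocalization.ringHom_ext (hU₀.primeIdealOf ⟨x, hxU⟩).asIdeal.primeCompl (RingHom.ext fun c => by
        change χ (ec (X.presheaf.germ U₀ x hxU c)) = _
        rw [show ec (X.presheaf.germ U₀ x hxU c) = _ from he c, hχC]
        rfl)
    change χ.comp ef b = χ.comp ec c
    rw [h1, h2]
    exact hbc

end Groth.Agent.Popescu
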