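import Mathlib
import Groth.Agent.Popescu.SchemeNbhd
import Groth.Agent.RigPts.ComplEquiv
import Groth.Agent.FieldPow.Etale
import Groth.Agent.AdicBasics.LocalMap

/-!
Isomorphic completions give common étale neighbourhoods.
-/

set_option autoImplicit false
set_option linter.style.haveILetI false
set_option backward.isDefEq.respectTransparency false

universe u

open CategoryTheory AlgebraicGeometry IsLocalRing

namespace Groth.Agent.Popescu

/-- A surjective endomorphism of a Noetherian ring is injective. -/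
theorem injective_of_surjective_ringEnd {R : Type u} [CommRing R] [IsNoetherianRing R] (f : R →+* R)
    (hf : Function.Surjective f) : Function.Injective f := by
  let g : ℕ → R →+* R := fun k => k.rec (RingHom.id R) fun _ h => f.comp h
  have hg : ∀ k, Function.Surjective (g k) := fun k => by
    induction k with
    | zero => exact Function.surjective_id
    | succ k ih => exact hf.comp ih
  have hmono : Monotone fun k => RingHom.ker (g k) :=
    monotone_nat_of_le_succ fun k x hx => by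
      rw [RingHom.mem_ker] at hx ⊢
      change f (g k x) = 0
      rw [hx, map_zero]
  obtain ⟨k, hk⟩ := monotone_stabilizes_iff_noetherian.2 ‹IsNoetherianRing R› ⟨_, hmono⟩
  refine (injective_iff_map_eq_zero f).2 fun x hx => ?_
  obtain ⟨y, rfl⟩ := hg k x
  have : y ∈ RingHom.ker (g (k + 1)) := hx
  rw [show RingHom.ker (g (k + 1)) = RingHom.ker (g k) from (hk (k + 1) (Nat.le_succ k)).symm] at this
  exact this

theorem maximalIdeal_map_ringEquiv {R R' : Type u} [CommRing R] [CommRing R'] [IsLocalRing R] [IsLocalRing R']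
    (e : R ≃+* R') : (maximalIdeal R).map e.toRingHom = maximalIdeal R' := by
  refine le_antisymm (Ideal.map_le_iff_le_comap.2 fun x hx => ?_) fun y hy => ?_
  · rw [Ideal.mem_comap, mem_maximalIdeal, mem_nonunits_iff] at *
    exact fun h => hx (by simpa using h.map e.symm.toRingHom)
  · obtain ⟨x, rfl⟩ := e.surjective y
    refine Ideal.mem_map_of_mem e.toRingHom ((mem_maximalIdeal x).2 fun h => ?_)
    exact (mem_maximalIdeal _).1 hy (h.map e.toRingHom)

/-- An isomorphism of completions of local rings induces isomorphisms of the truncations. -/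
theorem exists_trunc_equiv {A L : Type u} [CommRing A] [CommRing L] [IsLocalRing A] [IsLocalRing L]
    [IsNoetherianRing A] [IsNoetherianRing L]
    (φ : AdicCompletion (maximalIdeal A) A ≃+* AdicCompletion (maximalIdeal L) L) (n : ℕ) :
    ∃ τ : A ⧸ maximalIdeal A ^ n ≃+* L ⧸ maximalIdeal L ^ n, ∀ x,
      τ (AdicCompletion.evalₐ (maximalIdeal A) n x) = AdicCompletion.evalₐ (maximalIdeal L) n (φ x) := by
  have hA : (maximalIdeal A).FG := IsNoetherian.noetherian _
  have hL : (maximalIdeal L).FG := IsNoetherian.noetherian _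
  have h : ((maximalIdeal L).map (algebraMap L (AdicCompletion (maximalIdeal L) L))) ^ n =
      (((maximalIdeal A).map (algebraMap A (AdicCompletion (maximalIdeal A) A))) ^ n).map φ.toRingHom := by
    rw [Ideal.map_pow, ← AdicCompletion.maximalIdeal_eq_map, ← AdicCompletion.maximalIdeal_eq_map,
      maximalIdeal_map_ringEquiv φ]
  refine ⟨(FormalStalk.truncEquiv _ hA n).symm.trans
    ((Ideal.quotientEquiv _ _ φ h).trans (FormalStalk.truncEquiv _ hL n)), fun x => ?_⟩
  rw [← FormalStalk.truncEquiv_mk _ hA n x, RingEquiv.trans_apply, RingEquiv.symm_apply_apply]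
  rfl

/-- Congruence to an isomorphism of completions forces a map to be formally étale with trivial residue
extension. -/
theorem flat_unramified_of_approx {A L M : Type u} [CommRing A] [CommRing L] [CommRing M] [IsLocalRing A]
    [IsLocalRing L] [IsLocalRing M] [IsNoetherianRing A] [IsNoetherianRing L] [IsNoetherianRing M]
    (φ : AdicCompletion (maximalIdeal A) A ≃+* AdicCompletion (maximalIdeal L) L)
    (ef : A →+* M) (ec : L →+* M) [IsLocalHom ef] [IsLocalHom ec] (hflat : ec.Flat)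
    (hmax : (maximalIdeal L).map ec = maximalIdeal M) (hres : ∀ z, ∃ l, z - ec l ∈ maximalIdeal M)
    (N : ℕ) (hN : 2 ≤ N)
    (h : ∀ (a : A) (c : L), AdicCompletion.evalₐ (maximalIdeal L) N
        (φ (algebraMap A (AdicCompletion (maximalIdeal A) A) a)) = Ideal.Quotient.mk (maximalIdeal L ^ N) c →
      ef a - ec c ∈ maximalIdeal M ^ N) :
    ef.Flat ∧ (maximalIdeal A).map ef = maximalIdeal M ∧ ∀ z, ∃ a, z - ef a ∈ maximalIdeal M := by
  obtain ⟨τ, hτ⟩ := exists_trunc_equiv φ N
  have hN1 : maximalIdeal M ^ N ≤ maximalIdeal M := Ideal.pow_le_self (by omega)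
  have key : ∀ l : L, ∃ a : A, ef a - ec l ∈ maximalIdeal M ^ N := fun l => by
    obtain ⟨a, ha⟩ := Ideal.Quotient.mk_surjective (τ.symm (Ideal.Quotient.mk _ l))
    refine ⟨a, h a l ?_⟩
    rw [← hτ, FormalStalk.evalₐ_algebraMap, ha, RingEquiv.apply_symm_apply]
  have hres' : ∀ z, ∃ a, z - ef a ∈ maximalIdeal M := fun z => by
    obtain ⟨l, hl⟩ := hres z
    obtain ⟨a, ha⟩ := key l
    exact ⟨a, by simpa using Ideal.sub_mem _ hl (hN1 ha)⟩
  have hmax' : (maximalIdeal A).map ef = maximalIdeal M := by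
    have hle : (maximalIdeal A).map ef ≤ maximalIdeal M :=
      Ideal.map_le_iff_le_comap.2 fun a ha => map_nonunit ef a ha
    refine le_antisymm hle (Submodule.le_of_le_smul_of_le_jacobson_bot (I := maximalIdeal M)
      (IsNoetherian.noetherian _) (maximalIdeal_le_jacobson _) ?_)
    rw [smul_eq_mul]
    conv_lhs => rw [← hmax]
    refine Ideal.map_le_iff_le_comap.2 fun l hl => ?_
    obtain ⟨a, ha⟩ := key l
    have ha' : a ∈ maximalIdeal A := (mem_maximalIdeal a).2 fun hu => by
      have h1 : ec l ∈ maximalIdeal M := hmax ▸ Ideal.mem_map_of_mem ec hl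
      have h2 : ef a ∈ maximalIdeal M := by simpa using Ideal.add_mem _ (hN1 ha) h1
      exact (mem_maximalIdeal _).1 h2 (hu.map ef)
    have h2 : ec l = ef a - (ef a - ec l) := by ring
    rw [Ideal.mem_comap, h2]
    refine Ideal.sub_mem _ (Submodule.mem_sup_left (Ideal.mem_map_of_mem ef ha')) (Submodule.mem_sup_right ?_)
    rw [← pow_two]
    exact Ideal.pow_le_pow_right hN ha
  refine ⟨?_, hmax', hres'⟩
  letI := ef.toAlgebra
  haveI : IsLocalHom (algebraMap A M) := ‹IsLocalHom ef›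
  have hsurj : ∀ n z, ∃ a : A, z - algebraMap A M a ∈ (maximalIdeal A ^ n).map (algebraMap A M) := fun n z =>
    exists_sub_mem_pow_of_surjective (maximalIdeal A) (fun x => by
      obtain ⟨a, ha⟩ := hres' x
      exact ⟨a, show x - ef a ∈ (maximalIdeal A).map ef by rw [hmax']; exact ha⟩) n z
  have hpow : ∀ n, (maximalIdeal A ^ n).map (algebraMap A M) = maximalIdeal M ^ n := fun n => by
    rw [Ideal.map_pow, show algebraMap A M = ef from rfl, hmax']
  have hinj : ∀ (n : ℕ) (a : A), ef a ∈ maximalIdeal M ^ n → a ∈ maximalIdeal A ^ n := by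
    intro n
    obtain ⟨τn, -⟩ := exists_trunc_equiv φ n
    have hLM : ∀ l : L, ec l ∈ maximalIdeal M ^ n → l ∈ maximalIdeal L ^ n := fun l hl => by
      letI := ec.toAlgebra
      haveI : Module.Flat L M := hflat
      haveI : IsLocalHom (algebraMap L M) := ‹IsLocalHom ec›
      haveI : Module.FaithfullyFlat L M := Module.FaithfullyFlat.of_flat_of_isLocalHom
      rw [← hmax, ← Ideal.map_pow, ← Ideal.mem_comap, show ec = algebraMap L M from rfl,
        Ideal.comap_map_eq_self_of_faithfullyFlat] at hl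
      exact hl
    have hbij : Function.Bijective (Ideal.quotientMap (maximalIdeal M ^ n) ec
        (Ideal.map_le_iff_le_comap.1 (by rw [Ideal.map_pow, hmax]) : maximalIdeal L ^ n ≤ _)) := by
      refine ⟨Ideal.quotientMap_injective' fun l hl => hLM l hl, fun y => ?_⟩
      obtain ⟨z, rfl⟩ := Ideal.Quotient.mk_surjective y
      letI := ec.toAlgebra
      obtain ⟨l, hl⟩ := exists_sub_mem_pow_of_surjective (maximalIdeal L) (fun x => by
        obtain ⟨a, ha⟩ := hres x
        exact ⟨a, show x - ec a ∈ (maximalIdeal L).map ec by rw [hmax]; exact ha⟩) n z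
      rw [Ideal.map_pow, show algebraMap L M = ec from rfl, hmax] at hl
      refine ⟨Ideal.Quotient.mk _ l, ?_⟩
      rw [Ideal.quotientMap_mk, eq_comm, Ideal.Quotient.eq]
      exact hl
    let q : A ⧸ maximalIdeal A ^ n →+* M ⧸ maximalIdeal M ^ n :=
      Ideal.quotientMap _ ef (Ideal.map_le_iff_le_comap.1 (hpow n).le)
    have hq : Function.Surjective q := fun y => by
      obtain ⟨z, rfl⟩ := Ideal.Quotient.mk_surjective y
      obtain ⟨a, ha⟩ := hsurj n z
      refine ⟨Ideal.Quotient.mk _ a, ?_⟩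
      rw [Ideal.quotientMap_mk, eq_comm, Ideal.Quotient.eq, ← hpow n]
      exact ha
    let e := τn.trans (RingEquiv.ofBijective _ hbij)
    have hg := injective_of_surjective_ringEnd (e.symm.toRingHom.comp q) (e.symm.surjective.comp hq)
    intro a ha
    refine Ideal.Quotient.eq_zero_iff_mem.1 (hg ?_)
    rw [map_zero, RingHom.comp_apply, Ideal.quotientMap_mk, Ideal.Quotient.eq_zero_iff_mem.2 ha, map_zero]
  obtain ⟨E⟩ := RigPts.adicCompletion_algEquiv (A := A) (Algebra.ofId A M) (maximalIdeal A) (maximalIdeal M)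
    (fun n => Ideal.map_le_iff_le_comap.1 (hpow n).le) hinj fun n z => by
      obtain ⟨a, ha⟩ := hsurj n z
      exact ⟨a, by rw [hpow, ← neg_sub] at ha; exact neg_mem_iff.1 ha⟩
  haveI : Module.Flat A (AdicCompletion (maximalIdeal M) M) := Module.Flat.of_linearEquiv E.toLinearEquiv.symm
  change Module.Flat A M
  haveI : Module.FaithfullyFlat M (AdicCompletion (maximalIdeal M) M) := Module.FaithfullyFlat.of_flat_of_isLocalHom
  exact AdicBasics.flat_of_faithfullyFlat_extension (T := AdicCompletion (maximalIdeal M) M)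

set_option maxHeartbeats 1000000 in
/-- Isomorphic completed local rings over a G-ring give a common elementary étale neighbourhood. -/
theorem common_nbhd {X Y S : Scheme.{u}} [IsLocallyNoetherian S] (p : X ⟶ S) (q : Y ⟶ S)
    [LocallyOfFiniteType p] [LocallyOfFiniteType q] (x : X) (y : Y) (hxy : p x = q y)
    (hG : CAlg.IsGRing ↑(S.presheaf.stalk (p x)))
    (φ : (AdicCompletion (IsLocalRing.maximalIdeal ↑(Y.presheaf.stalk y)) ↑(Y.presheaf.stalk y)) ≃+*
      (AdicCompletion (IsLocalRing.maximalIdeal ↑(X.presheaf.stalk x)) ↑(X.presheaf.stalk x)))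
    (hφ : φ.toRingHom.comp ((algebraMap ↑(Y.presheaf.stalk y)
        (AdicCompletion (IsLocalRing.maximalIdeal ↑(Y.presheaf.stalk y)) ↑(Y.presheaf.stalk y))).comp
        ((q.stalkMap y).hom.comp (S.presheaf.stalkCongr (Inseparable.of_eq hxy)).hom.hom)) =
      (algebraMap ↑(X.presheaf.stalk x)
        (AdicCompletion (IsLocalRing.maximalIdeal ↑(X.presheaf.stalk x)) ↑(X.presheaf.stalk x))).comp
        (p.stalkMap x).hom)
    (N : ℕ) :
    ∃ (U : Scheme.{u}) (u : U) (e : U ⟶ X) (heu : e u = x) (f : U ⟶ Y) (hfu : f u = y),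
      Etale e ∧ Function.Bijective (e.residueFieldMap u) ∧ Etale f ∧ Function.Bijective (f.residueFieldMap u) ∧
      f ≫ q = e ≫ p ∧
      ∀ (b : (AdicCompletion (IsLocalRing.maximalIdeal ↑(Y.presheaf.stalk y)) ↑(Y.presheaf.stalk y)))
        (cY : ↑(Y.presheaf.stalk y)) (cX : ↑(X.presheaf.stalk x)),
        AdicCompletion.evalₐ (IsLocalRing.maximalIdeal ↑(Y.presheaf.stalk y)) N b =
          Ideal.Quotient.mk (IsLocalRing.maximalIdeal ↑(Y.presheaf.stalk y) ^ N) cY →
        AdicCompletion.evalₐ (IsLocalRing.maximalIdeal ↑(X.presheaf.stalk x)) N (φ b) =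
          Ideal.Quotient.mk (IsLocalRing.maximalIdeal ↑(X.presheaf.stalk x) ^ N) cX →
        Ideal.Quotient.mk (IsLocalRing.maximalIdeal ↑(U.presheaf.stalk u) ^ N)
            ((f.stalkMap u).hom ((Y.presheaf.stalkCongr (Inseparable.of_eq hfu)).inv.hom cY)) =
          Ideal.Quotient.mk (IsLocalRing.maximalIdeal ↑(U.presheaf.stalk u) ^ N)
            ((e.stalkMap u).hom ((X.presheaf.stalkCongr (Inseparable.of_eq heu)).inv.hom cX)) := by
  haveI := LocallyOfFiniteType.isLocallyNoetherian p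
  haveI := LocallyOfFiniteType.isLocallyNoetherian q
  haveI hnX : IsNoetherianRing (X.presheaf.stalk x) := inferInstance
  haveI hnY : IsNoetherianRing (Y.presheaf.stalk y) := inferInstance
  obtain ⟨U₁, e₁, u₁, heu₁, f₁, hfu₁, he₁, hres₁, hfe₁, hag⟩ := approx_scheme p q x y hxy hG
    (φ.toRingHom.comp (algebraMap _ _)) hφ (fun b hb => by
      rw [← AdicCompletion.maximalIdeal_eq_map, ← maximalIdeal_map_ringEquiv φ]
      refine Ideal.mem_map_of_mem φ.toRingHom ?_
      rw [AdicCompletion.maximalIdeal_eq_map]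
      exact Ideal.mem_map_of_mem _ hb) (N + 1)
  haveI := he₁
  haveI := LocallyOfFiniteType.isLocallyNoetherian e₁
  haveI : LocallyOfFiniteType (f₁ ≫ q) := by rw [hfe₁]; infer_instance
  haveI := locallyOfFiniteType_of_comp f₁ q
  haveI : LocallyOfFinitePresentation f₁ :=
    (HasRingHomProperty.iff_appLE (P := @LocallyOfFinitePresentation)).2 fun V W e => by
      haveI : IsNoetherianRing Γ(Y, V.1) := IsLocallyNoetherian.component_noetherian V
      exact RingHom.FinitePresentation.of_finiteType.1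
        (LocallyOfFiniteType.finiteType_appLE f₁ V.2 W.2 e)
  have hflat₁ : (e₁.stalkMap u₁).hom.Flat := Flat.stalkMap e₁ u₁
  have hunr₁ : (e₁.stalkMap u₁).hom.FormallyUnramified := FormallyUnramified.stalkMap (f := e₁) u₁
  have hess₁ : (e₁.stalkMap u₁).hom.EssFiniteType := LocallyOfFiniteType.stalkMap e₁ u₁
  have hres : ∀ z, ∃ l, z - (e₁.stalkMap u₁).hom l ∈ maximalIdeal ↑(U₁.presheaf.stalk u₁) := fun z => by
    obtain ⟨r, hr⟩ := hres₁.2 (U₁.residue u₁ z)
    obtain ⟨l, rfl⟩ := Scheme.residue_surjective X (e₁ u₁) r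
    refine ⟨l, (residue_eq_zero_iff _).1 ?_⟩
    rw [map_sub, sub_eq_zero]
    exact (hr.symm.trans (ConcreteCategory.congr_hom (Scheme.residue_residueFieldMap e₁ u₁) l) :)
  subst heu₁
  subst hfu₁
  have hmax : (maximalIdeal ↑(X.presheaf.stalk (e₁ u₁))).map (e₁.stalkMap u₁).hom =
      maximalIdeal ↑(U₁.presheaf.stalk u₁) := by
    letI := (e₁.stalkMap u₁).hom.toAlgebra
    haveI : Algebra.FormallyUnramified (X.presheaf.stalk (e₁ u₁)) (U₁.presheaf.stalk u₁) := hunr₁
    haveI : Algebra.EssFiniteType (X.presheaf.stalk (e₁ u₁)) (U₁.presheaf.stalk u₁) := hess₁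
    haveI : IsLocalHom (algebraMap (X.presheaf.stalk (e₁ u₁)) (U₁.presheaf.stalk u₁)) :=
      inferInstanceAs (IsLocalHom (e₁.stalkMap u₁).hom)
    exact Algebra.FormallyUnramified.map_maximalIdeal
  have hagree : ∀ (a : ↑(Y.presheaf.stalk (f₁ u₁))) (c : ↑(X.presheaf.stalk (e₁ u₁))),
      AdicCompletion.evalₐ _ (N + 2) (φ (algebraMap _ _ a)) =
        Ideal.Quotient.mk (maximalIdeal ↑(X.presheaf.stalk (e₁ u₁)) ^ (N + 2)) c →
      (f₁.stalkMap u₁).hom a - (e₁.stalkMap u₁).hom c ∈ maximalIdeal ↑(U₁.presheaf.stalk u₁) ^ (N + 2) := by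
    intro a c hac
    have := Ideal.Quotient.eq.1 (hag a c hac)
    simpa [TopCat.Presheaf.stalkCongr] using this
  obtain ⟨hfl, hfm, hfr⟩ := flat_unramified_of_approx φ (f₁.stalkMap u₁).hom (e₁.stalkMap u₁).hom hflat₁ hmax
    hres (N + 2) (by omega) hagree
  have hfu₂ : (f₁.stalkMap u₁).hom.FormallyUnramified := by
    letI := (f₁.stalkMap u₁).hom.toAlgebra
    haveI : Algebra.EssFiniteType (Y.presheaf.stalk (f₁ u₁)) (U₁.presheaf.stalk u₁) :=
      LocallyOfFiniteType.stalkMap f₁ u₁
    haveI : IsLocalHom (algebraMap (Y.presheaf.stalk (f₁ u₁)) (U₁.presheaf.stalk u₁)) :=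
      inferInstanceAs (IsLocalHom (f₁.stalkMap u₁).hom)
    have hs : Function.Surjective (algebraMap (ResidueField (Y.presheaf.stalk (f₁ u₁)))
        (ResidueField (U₁.presheaf.stalk u₁))) := fun r => by
      obtain ⟨z, rfl⟩ := residue_surjective r
      obtain ⟨a, ha⟩ := hfr z
      refine ⟨residue _ a, ?_⟩
      change residue _ (algebraMap (Y.presheaf.stalk (f₁ u₁)) (U₁.presheaf.stalk u₁) a) = _
      exact (Ideal.Quotient.eq.2 ha).symm
    haveI : Algebra.IsSeparable (ResidueField (Y.presheaf.stalk (f₁ u₁))) (ResidueField (U₁.presheaf.stalk u₁)) :=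
      ⟨fun r => by obtain ⟨s, rfl⟩ := hs r; exact isSeparable_algebraMap _⟩
    exact (Algebra.FormallyUnramified.iff_map_maximalIdeal_eq.2 ⟨inferInstance, hfm⟩)
  obtain ⟨O, hO, hOe⟩ := Groth.Agent.FieldPow.exists_etale_nhd f₁ u₁ hfl hfu₂
  have hι : O.ι ⟨u₁, hO⟩ = u₁ := rfl
  have hbij : Function.Bijective (O.ι.residueFieldMap ⟨u₁, hO⟩) :=
    ConcreteCategory.bijective_of_isIso _
  have hf₁bij : Function.Bijective (f₁.residueFieldMap u₁) := by
    refine ⟨(f₁.residueFieldMap u₁).hom.injective, fun r => ?_⟩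
    obtain ⟨z, rfl⟩ := Scheme.residue_surjective U₁ u₁ r
    obtain ⟨a, ha⟩ := hfr z
    refine ⟨Y.residue (f₁ u₁) a, ?_⟩
    exact ((ConcreteCategory.congr_hom (Scheme.residue_residueFieldMap f₁ u₁) a).trans
      (Ideal.Quotient.eq.2 ha).symm :)
  have hcomp : ∀ {Z : Scheme.{u}} (g : U₁ ⟶ Z), Function.Bijective (g.residueFieldMap u₁) →
      Function.Bijective ((O.ι ≫ g).residueFieldMap ⟨u₁, hO⟩) := fun {Z} g hg => by
    rw [Scheme.residueFieldMap_comp]
    exact hbij.comp hg
  refine ⟨O, ⟨u₁, hO⟩, O.ι ≫ e₁, rfl, O.ι ≫ f₁, rfl, inferInstance, hcomp e₁ hres₁, hOe, hcomp f₁ hf₁bij,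
    by rw [Category.assoc, Category.assoc, hfe₁], ?_⟩
  intro b cY cX hY hX
  have h1 : (f₁.stalkMap u₁).hom cY - (e₁.stalkMap u₁).hom cX ∈ maximalIdeal ↑(U₁.presheaf.stalk u₁) ^ N := by
    obtain ⟨τ, hτ⟩ := exists_trunc_equiv φ N
    obtain ⟨c, hc⟩ := Ideal.Quotient.mk_surjective
      (AdicCompletion.evalₐ (maximalIdeal ↑(X.presheaf.stalk (e₁ u₁))) (N + 2) (φ (algebraMap _ _ cY)))
    have h2 := Ideal.pow_le_pow_right (show N ≤ N + 2 by omega) (hagree cY c hc.symm)
    have h3 : c - cX ∈ maximalIdeal ↑(X.presheaf.stalk (e₁ u₁)) ^ N := by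
      rw [← Ideal.Quotient.eq, ← hX, ← hτ, hY]
      have h4 := congrArg (Ideal.Quotient.factorPow (maximalIdeal ↑(X.presheaf.stalk (e₁ u₁)))
        (show N ≤ N + 2 by omega)) hc
      rw [RigPts.evalₐ_compat, ← hτ, FormalStalk.evalₐ_algebraMap] at h4
      exact h4
    have h5 : (e₁.stalkMap u₁).hom (c - cX) ∈ maximalIdeal ↑(U₁.presheaf.stalk u₁) ^ N := by
      rw [← hmax, ← Ideal.map_pow]
      exact Ideal.mem_map_of_mem _ h3
    rw [map_sub] at h5
    simpa using Ideal.add_mem _ h2 h5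
  rw [Ideal.Quotient.eq]
  have h6 := Ideal.mem_map_of_mem (O.ι.stalkMap ⟨u₁, hO⟩).hom h1
  rw [Ideal.map_pow] at h6
  have h7 : (maximalIdeal ↑(U₁.presheaf.stalk u₁)).map (O.ι.stalkMap ⟨u₁, hO⟩).hom ≤
      maximalIdeal ↑(O.toScheme.presheaf.stalk ⟨u₁, hO⟩) :=
    Ideal.map_le_iff_le_comap.2 fun z hz => map_nonunit _ z hz
  have h8 := Ideal.pow_right_mono h7 N h6
  rw [map_sub] at h8
  simpa [TopCat.Presheaf.stalkCongr, Scheme.Hom.stalkMap_comp] using h8

end Groth.Agent.Popescu
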