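import Mathlib
import Groth.Agent.Popescu.LocalNbhd
import Groth.Agent.Popescu.CommonNbhd
import Groth.Agent.GRingCpl.Complete
import Groth.Agent.Easy3.Excellent
import Groth.Agent.EGA41FS.LiftUnique
import Groth.Agent.Hensel.Henselization
import Groth.Agent.Hensel.Etale
import Groth.Agent.FieldPow.Local

/-!
Local rings of finite type over a field with isomorphic completions have isomorphic henselizations;
completions of quotients of Noetherian rings at maximal ideals.
-/

set_option autoImplicit false
set_option linter.style.haveILetI false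
set_option backward.isDefEq.respectTransparency false

universe u

open IsLocalRing TensorProduct

namespace Groth.Agent.Popescu

/-- The completion of a localised quotient `(P/J)_I` is the quotient of the completion of `P`. -/
theorem completion_localization_quotient {k P : Type u} [CommRing k] [CommRing P] [Algebra k P] [IsNoetherianRing P]
    (I : Ideal P) [I.IsMaximal] (J : Ideal P) (hJ : J ≤ I) [(I.map (Ideal.Quotient.mk J)).IsPrime] :
    Nonempty (AdicCompletion (maximalIdeal (Localization.AtPrime (I.map (Ideal.Quotient.mk J))))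
        (Localization.AtPrime (I.map (Ideal.Quotient.mk J))) ≃ₐ[k]
      (AdicCompletion I P ⧸ J.map (algebraMap P (AdicCompletion I P)))) := by
  let p := I.map (Ideal.Quotient.mk J)
  let Ah := AdicCompletion I P
  have hIfg : I.FG := IsNoetherian.noetherian I
  haveI : IsNoetherianRing Ah := FormalStalk.isNoetherianRing I
  haveI := AdicCompletion.isMaximal_map_of_le I I le_rfl hIfg
  haveI := AdicCompletion.isAdicComplete_self I hIfg
  haveI : IsLocalRing Ah := isLocalRing_of_isAdicComplete_maximal (I.map (algebraMap P Ah))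
  have hmaxA : maximalIdeal Ah = I.map (algebraMap P Ah) := (eq_maximalIdeal inferInstance).symm
  haveI : IsAdicComplete (maximalIdeal Ah) Ah := by rw [hmaxA]; infer_instance
  let K := J.map (algebraMap P Ah)
  have hK : K ≤ maximalIdeal Ah := hmaxA ▸ Ideal.map_mono hJ
  haveI : Nontrivial (Ah ⧸ K) :=
    Ideal.Quotient.nontrivial_iff.2 (ne_top_of_le_ne_top (maximalIdeal.isMaximal Ah).ne_top hK)
  haveI : IsLocalRing (Ah ⧸ K) := IsLocalRing.of_surjective' (Ideal.Quotient.mk K) Ideal.Quotient.mk_surjective
  haveI := EGA41FS.isAdicComplete_quotient K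
  have hmaxT : maximalIdeal (Ah ⧸ K) = (I.map (algebraMap P Ah)).map (Ideal.Quotient.mk K) := by
    rw [← hmaxA]
    exact (eq_maximalIdeal (Ideal.IsMaximal.map_of_surjective_of_ker_le Ideal.Quotient.mk_surjective
      (by rw [Ideal.mk_ker]; exact hK))).symm
  let g₀ : (P ⧸ J) →ₐ[P] Ah ⧸ K := Ideal.Quotient.liftₐ J (Algebra.ofId P (Ah ⧸ K)) fun a ha =>
    show algebraMap P (Ah ⧸ K) a = 0 from Ideal.Quotient.eq_zero_iff_mem.2 (Ideal.mem_map_of_mem _ ha)
  have hmem : ∀ (n : ℕ) (x : P), algebraMap P (Ah ⧸ K) x ∈ maximalIdeal (Ah ⧸ K) ^ n → x ∈ I ^ n ⊔ J := by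
    intro n x hx
    rw [hmaxT, ← Ideal.map_pow] at hx
    rw [show algebraMap P (Ah ⧸ K) x = Ideal.Quotient.mk K (algebraMap P Ah x) from rfl, ← Ideal.mem_comap,
      Ideal.comap_map_of_surjective' _ Ideal.Quotient.mk_surjective, Ideal.mk_ker] at hx
    have h1 := Ideal.mem_map_of_mem (AdicCompletion.evalₐ I n).toRingHom hx
    have h2 : (AdicCompletion.evalₐ I n).toRingHom.comp (algebraMap P Ah) = Ideal.Quotient.mk (I ^ n) :=
      RingHom.ext (AdicCompletion.evalₐ I n).commutes
    rw [Ideal.map_sup, ← Ideal.map_pow, Ideal.map_map, h2, Ideal.map_map, h2, ← Ideal.map_sup] at h1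
    rw [show (AdicCompletion.evalₐ I n).toRingHom (algebraMap P Ah x) = Ideal.Quotient.mk (I ^ n) x from
      RingHom.congr_fun h2 x, ← Ideal.mem_comap, Ideal.comap_map_of_surjective' _ Ideal.Quotient.mk_surjective,
      Ideal.mk_ker] at h1
    exact (sup_le (le_refl _) le_sup_left : I ^ n ⊔ J ⊔ I ^ n ≤ I ^ n ⊔ J) h1
  have hg₀ : ∀ x : P, g₀ (Ideal.Quotient.mk J x) = algebraMap P (Ah ⧸ K) x := fun x => rfl
  have hsub : ∀ (n : ℕ) (d : P ⧸ J), g₀ d ∈ maximalIdeal (Ah ⧸ K) ^ n → d ∈ p ^ n := by
    intro n d hd
    obtain ⟨x, rfl⟩ := Ideal.Quotient.mk_surjective d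
    rw [hg₀] at hd
    have := Ideal.mem_map_of_mem (Ideal.Quotient.mk J) (hmem n x hd)
    rwa [Ideal.map_sup, Ideal.map_quotient_self, sup_bot_eq, Ideal.map_pow] at this
  let L := Localization.AtPrime p
  let g : L →ₐ[k] Ah ⧸ K := IsLocalization.liftAlgHom (M := p.primeCompl) (f := g₀.restrictScalars k) fun y =>
    notMem_maximalIdeal.1 fun h => y.2 (by simpa using hsub 1 y.1 (by rw [pow_one]; exact h))
  have hg : ∀ d, g (algebraMap (P ⧸ J) L d) = g₀ d := fun d => IsLocalization.lift_eq _ d
  have hgmax : (maximalIdeal L).map g.toRingHom ≤ maximalIdeal (Ah ⧸ K) := by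
    rw [← Localization.AtPrime.map_eq_maximalIdeal, Ideal.map_map, Ideal.map_le_iff_le_comap]
    intro d hd
    obtain ⟨x, hx, rfl⟩ := (Ideal.mem_map_iff_of_surjective _ Ideal.Quotient.mk_surjective).1 hd
    rw [Ideal.mem_comap]
    change g (algebraMap (P ⧸ J) L (Ideal.Quotient.mk J x)) ∈ _
    rw [hg, hg₀, hmaxT]
    exact Ideal.mem_map_of_mem (Ideal.Quotient.mk K) (Ideal.mem_map_of_mem _ hx)
  obtain ⟨E⟩ := RigPts.adicCompletion_algEquiv g (maximalIdeal L) (maximalIdeal (Ah ⧸ K))
    (fun n => Ideal.map_le_iff_le_comap.1 (by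
      change Ideal.map g.toRingHom _ ≤ _
      rw [Ideal.map_pow]; exact Ideal.pow_right_mono hgmax n))
    (fun n b hb => by
      obtain ⟨d, s, rfl⟩ := IsLocalization.exists_mk'_eq p.primeCompl b
      have h1 : g₀ d ∈ maximalIdeal (Ah ⧸ K) ^ n := by
        rw [← hg, ← IsLocalization.mk'_spec L d s, map_mul]
        exact Ideal.mul_mem_right _ _ hb
      rw [← Localization.AtPrime.map_eq_maximalIdeal, ← Ideal.map_pow, IsLocalization.mk'_mem_map_algebraMap_iff]
      exact ⟨1, one_mem _, by rw [one_mul]; exact hsub n d h1⟩)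
    (fun n t => by
      obtain ⟨a, rfl⟩ := Ideal.Quotient.mk_surjective t
      obtain ⟨x, hx⟩ := Ideal.Quotient.mk_surjective (AdicCompletion.evalₐ I n a)
      refine ⟨algebraMap (P ⧸ J) L (Ideal.Quotient.mk J x), ?_⟩
      rw [hg, hg₀, hmaxT, ← Ideal.map_pow,
        show algebraMap P (Ah ⧸ K) x = Ideal.Quotient.mk K (algebraMap P Ah x) from rfl, ← map_sub]
      refine Ideal.mem_map_of_mem _ ?_
      rw [← FormalStalk.ker_evalₐ I hIfg n, RingHom.mem_ker]
      change AdicCompletion.evalₐ I n (algebraMap P Ah x - a) = 0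
      rw [map_sub, AlgHom.commutes, Ideal.Quotient.algebraMap_eq, hx, sub_self])
  exact ⟨E.trans ((AdicCompletion.ofAlgEquiv (maximalIdeal (Ah ⧸ K)) (S := Ah ⧸ K)).restrictScalars k).symm⟩

/-- A henselization of the local ring of an étale algebra at a point with trivial residue extension is
a henselization of the local ring below. -/
theorem isHenselization_of_etale {C R' : Type u} [CommRing C] [CommRing R'] [Algebra C R'] [Algebra.Etale C R']
    (p : Ideal C) [p.IsPrime] (p' : Ideal R') [p'.IsPrime] (hp : p'.comap (algebraMap C R') = p) {L M : Type u}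
    [CommRing L] [Algebra C L] [IsLocalization.AtPrime L p] [IsLocalRing L] [CommRing M] [Algebra R' M]
    [IsLocalization.AtPrime M p'] [IsLocalRing M] (ι : L →+* M) [IsLocalHom ι]
    (hι : ∀ c, ι (algebraMap C L c) = algebraMap R' M (algebraMap C R' c))
    (hres : ∀ z, ∃ l, z - ι l ∈ maximalIdeal M)
    (Mh : Type u) [CommRing Mh] [IsLocalRing Mh] [Algebra M Mh] [IsLocalHom (algebraMap M Mh)]
    [hMh : _root_.Hensel.IsHenselization M Mh] [Algebra L Mh]
    (hcomp : ∀ l, algebraMap L Mh l = algebraMap M Mh (ι l)) [IsLocalHom (algebraMap L Mh)] :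
    _root_.Hensel.IsHenselization L Mh := by
  haveI : HenselianLocalRing Mh := hMh.henselian
  refine ⟨inferInstance, fun T _ _ f hf => ?_⟩
  haveI := hf
  have hbij : Function.Bijective (ResidueField.map ι) := ⟨(ResidueField.map ι).injective, fun r => by
    obtain ⟨z, rfl⟩ := residue_surjective r
    obtain ⟨l, hl⟩ := hres z
    exact ⟨residue L l, (Ideal.Quotient.eq.2 hl).symm⟩⟩
  let eκ := RingEquiv.ofBijective _ hbij
  let α : M →+* ResidueField T := ((ResidueField.map f).comp eκ.symm.toRingHom).comp (residue M)
  have hα : ∀ l, α (ι l) = residue T (f l) := fun l => by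
    change ResidueField.map f (eκ.symm (residue M (ι l))) = _
    rw [show residue M (ι l) = eκ (residue L l) from rfl, RingEquiv.symm_apply_apply]
    rfl
  letI : Algebra C T := (f.comp (algebraMap C L)).toAlgebra
  let σ : R' →ₐ[C] T ⧸ maximalIdeal T :=
    { α.comp (algebraMap R' M) with
      commutes' := fun c => by
        change α (algebraMap R' M (algebraMap C R' c)) = _
        rw [← hι, hα]
        rfl }
  obtain ⟨τ, hτ⟩ := Groth.Agent.S0536.result C R' T (maximalIdeal T) σ
  have hτres : ∀ x, residue T (τ x) = α (algebraMap R' M x) := fun x => AlgHom.congr_fun hτ x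
  have hunit : ∀ y : p'.primeCompl, IsUnit (τ y) := fun y => by
    refine notMem_maximalIdeal.1 fun h => ?_
    have h1 : residue T (τ y) = 0 := (residue_eq_zero_iff _).2 h
    rw [hτres] at h1
    exact ((IsLocalization.map_units M y).map α).ne_zero h1
  let G : M →+* T := IsLocalization.lift (M := p'.primeCompl) (g := τ.toRingHom) hunit
  have hG : ∀ x, G (algebraMap R' M x) = τ x := fun x => IsLocalization.lift_eq _ x
  have hGι : G.comp ι = f := IsLocalization.ringHom_ext p.primeCompl (RingHom.ext fun c => by
    rw [RingHom.comp_apply, RingHom.comp_apply, hι, hG, AlgHom.commutes]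
    rfl)
  have hGres : ∀ z, residue T (G z) = α z := fun z => RingHom.congr_fun
    (IsLocalization.ringHom_ext p'.primeCompl (RingHom.ext fun x => by
      change residue T (G (algebraMap R' M x)) = α (algebraMap R' M x)
      rw [hG, hτres]) : (residue T).comp G = α) z
  haveI : IsLocalHom G := ⟨fun z hz => by
    have h1 : α z ≠ 0 := by
      rw [← hGres]
      exact (hz.map (residue T)).ne_zero
    refine notMem_maximalIdeal.1 fun h => h1 ?_
    change ResidueField.map f (eκ.symm (residue M z)) = 0
    rw [(residue_eq_zero_iff z).2 h, map_zero, map_zero]⟩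
  obtain ⟨gg, hgg, hu⟩ := hMh.universal T G inferInstance
  refine ⟨gg, RingHom.ext fun l => ?_, fun g' hg' => hu g' ?_⟩
  · rw [RingHom.comp_apply, hcomp, ← RingHom.comp_apply gg, hgg, ← RingHom.comp_apply, hGι]
  · have hg'ι : ∀ l, g' (algebraMap M Mh (ι l)) = f l := fun l => by
      rw [← hcomp]
      exact RingHom.congr_fun hg' l
    let τ' : R' →ₐ[C] T :=
      { (g'.comp (algebraMap M Mh)).comp (algebraMap R' M) with
        commutes' := fun c => by
          change g' (algebraMap M Mh (algebraMap R' M (algebraMap C R' c))) = _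
          rw [← hι, hg'ι]
          rfl }
    letI : Algebra C M := ((algebraMap R' M).comp (algebraMap C R')).toAlgebra
    haveI : IsScalarTower C R' M := IsScalarTower.of_algebraMap_eq' rfl
    letI : Algebra L M := ι.toAlgebra
    haveI : IsLocalHom (algebraMap L M) := ‹IsLocalHom ι›
    haveI : IsScalarTower C L M := IsScalarTower.of_algebraMap_eq fun c => (hι c).symm
    haveI : Algebra.FormallyEtale R' M := Algebra.FormallyEtale.of_isLocalization p'.primeCompl
    haveI : Algebra.FormallyUnramified C M := Algebra.FormallyUnramified.comp C R' M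
    haveI : Algebra.FormallyUnramified L M := Algebra.FormallyUnramified.of_restrictScalars C L M
    haveI : Algebra.EssFiniteType R' M := Algebra.EssFiniteType.of_isLocalization M p'.primeCompl
    haveI : Algebra.EssFiniteType C M := Algebra.EssFiniteType.comp C R' M
    haveI : Algebra.EssFiniteType L M := Algebra.EssFiniteType.of_comp C L M
    have hmax : (maximalIdeal L).map ι = maximalIdeal M := Algebra.FormallyUnramified.map_maximalIdeal
    have hm : ∀ z ∈ maximalIdeal M, g' (algebraMap M Mh z) ∈ maximalIdeal T := fun z hz => by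
      rw [← hmax] at hz
      refine (Ideal.map_le_iff_le_comap.2 fun l hl => ?_ :
        (maximalIdeal L).map ι ≤ (maximalIdeal T).comap (g'.comp (algebraMap M Mh))) hz
      rw [Ideal.mem_comap, Ideal.mem_comap, RingHom.comp_apply, hg'ι]
      exact map_nonunit f l hl
    have hττ : τ' = τ := Hensel.algHom_eq_of_unramified (maximalIdeal_le_jacobson _) τ' τ fun x => by
      obtain ⟨l, hl⟩ := hres (algebraMap R' M x)
      have h1 : residue T (g' (algebraMap M Mh (algebraMap R' M x))) = α (algebraMap R' M x) := by
        rw [← sub_add_cancel (algebraMap R' M x) (ι l), map_add, map_add, map_add, hg'ι,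
          (residue_eq_zero_iff _).2 (hm _ hl), zero_add, map_add, hα,
          show α (algebraMap R' M x - ι l) = 0 from by
            change ResidueField.map f (eκ.symm (residue M _)) = 0
            rw [(residue_eq_zero_iff _).2 hl, map_zero, map_zero], zero_add]
      rw [← residue_eq_zero_iff, map_sub, hτres, sub_eq_zero]
      exact h1
    refine IsLocalization.ringHom_ext p'.primeCompl (RingHom.ext fun x => ?_)
    change g' (algebraMap M Mh (algebraMap R' M x)) = G (algebraMap R' M x)
    rw [hG]
    exact AlgHom.congr_fun hττ x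

/-- A henselization of a flat, unramified local algebra of finite presentation with trivial residue
extension is a henselization of the local ring below. -/
theorem isHenselization_of_flat_unramified {D R' A M : Type u} [CommRing D] [CommRing R'] [Algebra D R']
    [Algebra.FinitePresentation D R'] (q : Ideal D) [q.IsPrime] (p' : Ideal R') [p'.IsPrime] [p'.LiesOver q]
    [CommRing A] [Algebra D A] [IsLocalization.AtPrime A q] [IsLocalRing A] [CommRing M] [Algebra R' M]
    [IsLocalization.AtPrime M p'] [IsLocalRing M] [Algebra D M] [IsScalarTower D R' M] [Algebra A M]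
    [IsScalarTower D A M] [IsLocalHom (algebraMap A M)] [Module.Flat A M]
    (hmax : (maximalIdeal A).map (algebraMap A M) = maximalIdeal M)
    (hres : ∀ z, ∃ a, z - algebraMap A M a ∈ maximalIdeal M)
    (Mh : Type u) [CommRing Mh] [IsLocalRing Mh] [Algebra M Mh] [IsLocalHom (algebraMap M Mh)]
    [_root_.Hensel.IsHenselization M Mh] [Algebra A Mh] [IsLocalHom (algebraMap A Mh)]
    (hcomp : ∀ a, algebraMap A Mh a = algebraMap M Mh (algebraMap A M a)) :
    _root_.Hensel.IsHenselization A Mh := by
  haveI : Algebra.EssFiniteType R' M := Algebra.EssFiniteType.of_isLocalization M p'.primeCompl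
  haveI : Algebra.EssFiniteType D M := Algebra.EssFiniteType.comp D R' M
  haveI : Algebra.EssFiniteType A M := Algebra.EssFiniteType.of_comp D A M
  haveI : Algebra.FormallyUnramified A M := by
    haveI : Algebra.IsSeparable (ResidueField A) (ResidueField M) := ⟨fun r => by
      obtain ⟨z, rfl⟩ := residue_surjective r
      obtain ⟨a, ha⟩ := hres z
      rw [show residue M z = algebraMap (ResidueField A) (ResidueField M) (residue A a) from Ideal.Quotient.eq.2 ha]
      exact isSeparable_algebraMap _⟩
    exact Algebra.FormallyUnramified.iff_map_maximalIdeal_eq.2 ⟨inferInstance, hmax⟩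
  haveI := FieldPow.isEtaleAt_of_flat_unramified (R := D) (S := R') (R' := A) (S' := M) q p'
  obtain ⟨g, hg, het⟩ := Algebra.exists_etale_of_isEtaleAt (R := D) p'
  haveI : Algebra.Etale D (Localization.Away g) := het
  letI : Algebra (Localization.Away g) M :=
    (IsLocalization.lift (M := Submonoid.powers g) (g := algebraMap R' M) fun y => by
      obtain ⟨i, hi⟩ := y.2
      rw [← hi, map_pow]
      exact (IsLocalization.map_units M (⟨g, hg⟩ : p'.primeCompl)).pow i).toAlgebra
  haveI : IsScalarTower R' (Localization.Away g) M :=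
    IsScalarTower.of_algebraMap_eq fun x => (IsLocalization.lift_eq _ x).symm
  let pg : Ideal (Localization.Away g) := (maximalIdeal M).comap (algebraMap (Localization.Away g) M)
  haveI : pg.IsPrime := Ideal.IsPrime.comap _
  haveI : IsLocalization.AtPrime M pg := by
    haveI := IsLocalization.isLocalization_of_submonoid_le (Localization.Away g) M (Submonoid.powers g) p'.primeCompl
      (by rintro _ ⟨i, rfl⟩; exact fun h => hg (Ideal.IsPrime.mem_of_pow_mem inferInstance i h))
    refine IsLocalization.of_le (Submonoid.map (algebraMap R' (Localization.Away g)) p'.primeCompl) pg.primeCompl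
      (fun x hx hx' => ?_) fun x hx => notMem_maximalIdeal.1 hx
    obtain ⟨y, hy, rfl⟩ := hx
    refine (mem_maximalIdeal _).1 (Ideal.mem_comap.1 hx') ?_
    rw [← IsScalarTower.algebraMap_apply]
    exact IsLocalization.map_units M (⟨y, hy⟩ : p'.primeCompl)
  have htower : ∀ d, algebraMap A M (algebraMap D A d) =
      algebraMap (Localization.Away g) M (algebraMap D (Localization.Away g) d) := fun d => by
    rw [IsScalarTower.algebraMap_apply D R' (Localization.Away g), ← IsScalarTower.algebraMap_apply R',
      ← IsScalarTower.algebraMap_apply, ← IsScalarTower.algebraMap_apply]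
  refine isHenselization_of_etale q pg ?_ (algebraMap A M) htower hres Mh hcomp
  ext d
  rw [Ideal.mem_comap, Ideal.mem_comap, ← htower, ← IsLocalization.AtPrime.to_map_mem_maximal_iff A q d,
    mem_maximalIdeal, mem_maximalIdeal, mem_nonunits_iff, mem_nonunits_iff]
  exact not_congr ⟨fun h => h.of_map, fun h => h.map _⟩

/-- A common henselization identifies henselizations over a base. -/
theorem equiv_of_common {k O A H : Type u} [CommRing k] [CommRing O] [IsLocalRing O] [Algebra k O] [CommRing A]
    [IsLocalRing A] [Algebra k A] [CommRing H] [IsLocalRing H] [Algebra O H] [IsLocalHom (algebraMap O H)]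
    [_root_.Hensel.IsHenselization O H] [Algebra A H] [IsLocalHom (algebraMap A H)]
    [_root_.Hensel.IsHenselization A H] (hk : ∀ c : k, algebraMap O H (algebraMap k O c) = algebraMap A H (algebraMap k A c))
    (Oh : Type u) [CommRing Oh] [IsLocalRing Oh] [Algebra O Oh] [IsLocalHom (algebraMap O Oh)]
    [_root_.Hensel.IsHenselization O Oh] [Algebra k Oh] [IsScalarTower k O Oh]
    (Ah : Type u) [CommRing Ah] [IsLocalRing Ah] [Algebra A Ah] [IsLocalHom (algebraMap A Ah)]
    [_root_.Hensel.IsHenselization A Ah] [Algebra k Ah] [IsScalarTower k A Ah] : Nonempty (Oh ≃ₐ[k] Ah) := by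
  obtain ⟨E₁⟩ := Hensel.henselization_equiv O Oh
  obtain ⟨E₂⟩ := Hensel.henselization_equiv O H
  obtain ⟨E₃⟩ := Hensel.henselization_equiv A H
  obtain ⟨E₄⟩ := Hensel.henselization_equiv A Ah
  refine ⟨AlgEquiv.ofRingEquiv (f := (E₁.trans E₂.symm).toRingEquiv.trans (E₃.trans E₄.symm).toRingEquiv) fun c => ?_⟩
  rw [RingEquiv.trans_apply, IsScalarTower.algebraMap_apply k O Oh, IsScalarTower.algebraMap_apply k A Ah,
    AlgEquiv.coe_ringEquiv, AlgEquiv.coe_ringEquiv, AlgEquiv.commutes, hk, AlgEquiv.commutes]

set_option maxHeartbeats 1000000 in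
/-- Common étale neighbourhoods give isomorphic henselizations. -/
theorem henselization_equiv_aux (k : Type u) [Field k] (C : Type u) [CommRing C] [Algebra k C]
    [Algebra.FiniteType k C] (p : Ideal C) [p.IsPrime] (O : Type u) [CommRing O] [IsLocalRing O]
    [Algebra k O] [Algebra C O] [IsScalarTower k C O] [IsLocalization.AtPrime O p] (hG : CAlg.IsGRing O) (D : Type u) [CommRing D] [Algebra k D] [Algebra.FiniteType k D]
    (q : Ideal D) [q.IsPrime] (A : Type u) [CommRing A] [IsLocalRing A] [Algebra D A] [IsLocalization.AtPrime A q]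
    [Algebra k A] [IsScalarTower k D A]
    (φ : AdicCompletion (maximalIdeal A) A ≃ₐ[k] AdicCompletion (maximalIdeal O) O)
    (Oh : Type u) [CommRing Oh] [IsLocalRing Oh] [Algebra O Oh] [IsLocalHom (algebraMap O Oh)]
    [_root_.Hensel.IsHenselization O Oh] [Algebra k Oh] [IsScalarTower k O Oh]
    (Ah : Type u) [CommRing Ah] [IsLocalRing Ah] [Algebra A Ah] [IsLocalHom (algebraMap A Ah)]
    [_root_.Hensel.IsHenselization A Ah] [Algebra k Ah] [IsScalarTower k A Ah] :
    Nonempty (Oh ≃ₐ[k] Ah) := by
  haveI := hG.1
  haveI : IsNoetherianRing C := Algebra.FiniteType.isNoetherianRing k C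
  haveI : IsNoetherianRing D := Algebra.FiniteType.isNoetherianRing k D
  haveI : IsNoetherianRing A := IsLocalization.isNoetherianRing q.primeCompl A inferInstance
  haveI : Algebra.FinitePresentation k D := Algebra.FinitePresentation.of_finiteType.1 inferInstance
  let φD : D →ₐ[k] AdicCompletion (maximalIdeal O) O :=
    φ.toAlgHom.comp (IsScalarTower.toAlgHom k D (AdicCompletion (maximalIdeal A) A))
  obtain ⟨R', iR, iA, hR', β, p', hp'prime, hβk, hp', hpβ, hloc⟩ := approx_local (L := O) p hG φD 1
  suffices key : ∀ (M : Type u) [CommRing M] [Algebra R' M] [IsLocalization.AtPrime M p'] [IsLocalRing M],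
      Nonempty (Oh ≃ₐ[k] Ah) from key (Localization.AtPrime p')
  intro M _ _ _ _
  haveI : IsNoetherianRing R' := Algebra.FiniteType.isNoetherianRing C R'
  haveI : IsNoetherianRing M := IsLocalization.isNoetherianRing p'.primeCompl M inferInstance
  obtain ⟨hres₀, χ, hker, hχC, hχB⟩ := hloc M
  let ec : O →+* M := IsLocalization.lift (M := p.primeCompl) (g := (algebraMap R' M).comp (algebraMap C R'))
    fun y => IsLocalization.map_units M (⟨algebraMap C R' y.1, fun h => y.2 (hp'.le h)⟩ : p'.primeCompl)
  have hec : ∀ c, ec (algebraMap C O c) = algebraMap R' M (algebraMap C R' c) := fun c => IsLocalization.lift_eq _ c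
  haveI := isLocalRing_quotient_pow (A := O) 1
  have heval : ∀ z, IsUnit (AdicCompletion.evalₐ (maximalIdeal O) (1 + 1) z) → IsUnit z := fun z hz => by
    refine notMem_maximalIdeal.1 fun h => ?_
    rw [AdicCompletion.maximalIdeal_eq_map] at h
    have h1 := Ideal.mem_map_of_mem (AdicCompletion.evalₐ (maximalIdeal O) (1 + 1)).toRingHom h
    rw [Ideal.map_map, show (AdicCompletion.evalₐ (maximalIdeal O) (1 + 1)).toRingHom.comp (algebraMap _ _) =
      Ideal.Quotient.mk (maximalIdeal O ^ (1 + 1)) from RingHom.ext (AdicCompletion.evalₐ _ _).commutes] at h1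
    haveI : IsLocalHom (Ideal.Quotient.mk (maximalIdeal O ^ (1 + 1))) :=
      IsLocalHom.of_surjective _ Ideal.Quotient.mk_surjective
    exact (mem_maximalIdeal _).1 ((Ideal.map_le_iff_le_comap.2 fun m hm => map_nonunit _ m hm :
      (maximalIdeal O).map (Ideal.Quotient.mk (maximalIdeal O ^ (1 + 1))) ≤ maximalIdeal _) h1) hz
  haveI := AdicCompletion.algebraMap_isLocalHom_of_fg (R := A) (IsNoetherian.noetherian _)
  have hβunit : ∀ y : q.primeCompl, IsUnit (algebraMap R' M (β y.1)) := fun y => by
    refine IsLocalization.map_units M (⟨β y.1, fun h => (hpβ y.1).1 h ?_⟩ : p'.primeCompl)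
    refine (IsUnit.map φ ?_).map _
    change IsUnit (algebraMap D (AdicCompletion (maximalIdeal A) A) y.1)
    rw [IsScalarTower.algebraMap_apply D A (AdicCompletion (maximalIdeal A) A)]
    exact (IsLocalization.map_units A y).map _
  let ef : A →+* M := IsLocalization.lift (M := q.primeCompl) (g := (algebraMap R' M).comp β) hβunit
  have hef : ∀ d, ef (algebraMap D A d) = algebraMap R' M (β d) := fun d => IsLocalization.lift_eq _ d
  have hχef : ∀ a, χ (ef a) = AdicCompletion.evalₐ (maximalIdeal O) (1 + 1) (φ (algebraMap A _ a)) := fun a =>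
    RingHom.congr_fun (IsLocalization.ringHom_ext q.primeCompl (RingHom.ext fun d => by
      simp only [RingHom.comp_apply]
      rw [hef, hχB]
      rfl) : χ.comp ef = ((AdicCompletion.evalₐ (maximalIdeal O) (1 + 1)).toRingHom.comp φ.toRingEquiv.toRingHom).comp
        (algebraMap A _)) a
  have hχec : ∀ c, χ (ec c) = Ideal.Quotient.mk _ c := fun c =>
    RingHom.congr_fun (IsLocalization.ringHom_ext p.primeCompl (RingHom.ext fun c => by
      rw [RingHom.comp_apply, RingHom.comp_apply, hec, hχC]; rfl) : χ.comp ec = Ideal.Quotient.mk _) c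
  haveI hefloc : IsLocalHom ef := ⟨fun a ha => by
    have h1 := ha.map χ
    rw [hχef] at h1
    have h2 : IsUnit (algebraMap A (AdicCompletion (maximalIdeal A) A) a) := by
      simpa using (heval _ h1).map φ.symm
    exact h2.of_map⟩
  haveI : IsLocalHom (Ideal.Quotient.mk (maximalIdeal O ^ (1 + 1))) :=
    IsLocalHom.of_surjective _ Ideal.Quotient.mk_surjective
  haveI hecloc : IsLocalHom ec := ⟨fun c hc => by
    have h1 := hc.map χ
    rw [hχec] at h1
    exact h1.of_map⟩
  have hres : ∀ z, ∃ l, z - ec l ∈ maximalIdeal M := fun z => by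
    obtain ⟨c, s, hs, hcs⟩ := hres₀ z
    refine ⟨IsLocalization.mk' O c (⟨s, hs⟩ : p.primeCompl), ?_⟩
    have hu : IsUnit (algebraMap R' M (algebraMap C R' s)) :=
      IsLocalization.map_units M (⟨algebraMap C R' s, fun h => hs (hp'.le h)⟩ : p'.primeCompl)
    refine (Ideal.unit_mul_mem_iff_mem _ hu).1 ?_
    rw [mul_sub, ← hec, ← map_mul, IsLocalization.mk'_spec' O c (⟨s, hs⟩ : p.primeCompl), hec, hec]
    exact hcs
  letI : Algebra C M := ((algebraMap R' M).comp (algebraMap C R')).toAlgebra
  haveI : IsScalarTower C R' M := IsScalarTower.of_algebraMap_eq' rfl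
  letI : Algebra O M := ec.toAlgebra
  haveI : IsLocalHom (algebraMap O M) := hecloc
  haveI : IsScalarTower C O M := IsScalarTower.of_algebraMap_eq fun c => (hec c).symm
  haveI hflat : Module.Flat O M := by
    haveI : Module.Flat R' M := IsLocalization.flat M p'.primeCompl
    haveI : Module.Flat C M := Module.Flat.trans C R' M
    exact (Module.flat_iff_of_isLocalization O p.primeCompl M).2 inferInstance
  have hmax : (maximalIdeal O).map ec = maximalIdeal M := by
    haveI : Algebra.FormallyEtale R' M := Algebra.FormallyEtale.of_isLocalization p'.primeCompl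
    haveI : Algebra.FormallyUnramified C M := Algebra.FormallyUnramified.comp C R' M
    haveI : Algebra.FormallyUnramified O M := Algebra.FormallyUnramified.of_restrictScalars C O M
    haveI : Algebra.EssFiniteType R' M := Algebra.EssFiniteType.of_isLocalization M p'.primeCompl
    haveI : Algebra.EssFiniteType C M := Algebra.EssFiniteType.comp C R' M
    haveI : Algebra.EssFiniteType O M := Algebra.EssFiniteType.of_comp C O M
    exact Algebra.FormallyUnramified.map_maximalIdeal
  obtain ⟨hfl, hfm, hfr⟩ := flat_unramified_of_approx φ.toRingEquiv ef ec hflat hmax hres (1 + 1) le_rfl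
    fun a c hac => hker _ (by rw [map_sub, hχef, hχec, ← hac, sub_eq_zero]; rfl)
  letI : Algebra D R' := β.toAlgebra
  letI : Algebra D M := ((algebraMap R' M).comp β).toAlgebra
  haveI : IsScalarTower D R' M := IsScalarTower.of_algebraMap_eq' rfl
  letI : Algebra A M := ef.toAlgebra
  haveI : IsScalarTower D A M := IsScalarTower.of_algebraMap_eq fun d => (hef d).symm
  haveI : IsLocalHom (algebraMap A M) := hefloc
  haveI : Module.Flat A M := hfl
  letI : Algebra k R' := ((algebraMap C R').comp (algebraMap k C)).toAlgebra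
  haveI : IsScalarTower k C R' := IsScalarTower.of_algebraMap_eq' rfl
  haveI : IsScalarTower k D R' := IsScalarTower.of_algebraMap_eq fun c => (hβk c).symm
  haveI : Algebra.FiniteType k R' := Algebra.FiniteType.trans (inferInstance : Algebra.FiniteType k C) inferInstance
  haveI : Algebra.FiniteType D R' := Algebra.FiniteType.of_restrictScalars_finiteType k D R'
  haveI : Algebra.FinitePresentation D R' := Algebra.FinitePresentation.of_finiteType.1 inferInstance
  haveI : p'.LiesOver q := ⟨by
    ext d
    rw [Ideal.under_def, Ideal.mem_comap, ← IsLocalization.AtPrime.to_map_mem_maximal_iff M p',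
      ← IsLocalization.AtPrime.to_map_mem_maximal_iff A q d, ← IsScalarTower.algebraMap_apply,
      IsScalarTower.algebraMap_apply D A M, mem_maximalIdeal, mem_maximalIdeal,
      mem_nonunits_iff, mem_nonunits_iff]
    exact not_congr ⟨fun h => h.map _, fun h => h.of_map⟩⟩
  haveI : p'.LiesOver p := ⟨hp'.symm⟩
  obtain ⟨_, hMh⟩ := Hensel.exists_henselization M
  let Mh := Hensel.Env M (ResidueField M)
  letI : Algebra O Mh := ((algebraMap M Mh).comp ec).toAlgebra
  haveI : IsLocalHom (algebraMap O Mh) := inferInstanceAs (IsLocalHom ((algebraMap M Mh).comp ec))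
  letI : Algebra A Mh := ((algebraMap M Mh).comp ef).toAlgebra
  haveI : IsLocalHom (algebraMap A Mh) := inferInstanceAs (IsLocalHom ((algebraMap M Mh).comp ef))
  haveI := isHenselization_of_flat_unramified p p' hmax hres Mh (A := O) fun _ => rfl
  haveI := isHenselization_of_flat_unramified q p' hfm hfr Mh (A := A) fun _ => rfl
  have key : ∀ c : k, algebraMap O Mh (algebraMap k O c) = algebraMap A Mh (algebraMap k A c) := fun c => by
    rw [RingHom.algebraMap_toAlgebra, RingHom.algebraMap_toAlgebra, RingHom.comp_apply, RingHom.comp_apply,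
      IsScalarTower.algebraMap_apply k C O, IsScalarTower.algebraMap_apply k D A, hec, hef, hβk]
  exact equiv_of_common (H := Mh) key Oh Ah

/-- Local rings of finite type over a field with isomorphic completions have isomorphic henselizations. -/
theorem henselization_equiv_of_completion_equiv (k : Type u) [Field k] (O : Type u) [CommRing O] [IsLocalRing O]
    [Algebra k O] [Algebra.EssFiniteType k O] (D : Type u) [CommRing D] [Algebra k D] [Algebra.FiniteType k D]
    (q : Ideal D) [q.IsPrime] (A : Type u) [CommRing A] [IsLocalRing A] [Algebra D A] [IsLocalization.AtPrime A q]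
    [Algebra k A] [IsScalarTower k D A]
    (φ : AdicCompletion (maximalIdeal A) A ≃ₐ[k] AdicCompletion (maximalIdeal O) O)
    (Oh : Type u) [CommRing Oh] [IsLocalRing Oh] [Algebra O Oh] [IsLocalHom (algebraMap O Oh)]
    [_root_.Hensel.IsHenselization O Oh] [Algebra k Oh] [IsScalarTower k O Oh]
    (Ah : Type u) [CommRing Ah] [IsLocalRing Ah] [Algebra A Ah] [IsLocalHom (algebraMap A Ah)]
    [_root_.Hensel.IsHenselization A Ah] [Algebra k Ah] [IsScalarTower k A Ah] :
    Nonempty (Oh ≃ₐ[k] Ah) := by
  haveI : IsAdicComplete (maximalIdeal k) k := by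
    rw [IsLocalRing.isField_iff_maximalIdeal_eq.1 (Field.toIsField k)]
    infer_instance
  -- a finite type model of `O`
  let S₀ := Algebra.EssFiniteType.subalgebra k O
  let p : Ideal S₀ := (maximalIdeal O).comap (algebraMap S₀ O)
  haveI : p.IsPrime := Ideal.IsPrime.comap _
  haveI : IsLocalization.AtPrime O p := by
    have h : p.primeCompl = Algebra.EssFiniteType.submonoid k O := Submonoid.ext fun x => by
      rw [Ideal.mem_primeCompl_iff, Ideal.mem_comap, IsLocalRing.notMem_maximalIdeal]
      rfl
    change IsLocalization p.primeCompl O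
    rw [h]
    exact Algebra.EssFiniteType.isLocalization k O
  haveI : IsNoetherianRing S₀ := Algebra.FiniteType.isNoetherianRing k S₀
  have hG₀ : CAlg.IsGRing S₀ := GRingCpl.isGRing_of_finiteType_complete (R0 := k) S₀
  have hG : CAlg.IsGRing O := Easy3.isGRing_of_isLocalization p.primeCompl O hG₀
  exact henselization_equiv_aux k S₀ p O hG D q A φ Oh Ah

end Groth.Agent.Popescu
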