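import Mathlib
import Groth.Agent.Popescu.Main
import Groth.Agent.Hensel.Ops
import Groth.Agent.Hensel.Smooth
import Groth.Agent.FormalStalk.Completion

/-!
Approximation of solutions in completions of henselian pairs with regular completion map.
-/

set_option autoImplicit false
set_option linter.style.haveILetI false

universe u

namespace Groth.Agent.Popescu

theorem approx_mod (A : Type u) [CommRing A] [IsNoetherianRing A] (I : Ideal A) [HenselianRing A I]
    (hreg : CAlg.IsRegularHom A (AdicCompletion I A)) {n m : ℕ} (F : Fin m → MvPolynomial (Fin n) A)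
    (a : Fin n → AdicCompletion I A) (ha : ∀ j, MvPolynomial.aeval a (F j) = 0) (c : ℕ) :
    ∃ b : Fin n → A, (∀ j, MvPolynomial.eval b (F j) = 0) ∧
      ∀ i, Ideal.Quotient.mk (I ^ c) (b i) = AdicCompletion.evalₐ I c (a i) := by
  classical
  haveI := Groth.Agent.FormalStalk.isNoetherianRing I
  obtain ⟨C, _, _, hC, π, hπ, hπk⟩ : ∃ (C : Type u) (_ : CommRing C) (_ : Algebra A C)
      (_ : Algebra.FinitePresentation A C) (π : MvPolynomial (Fin n) A →ₐ[A] C), Function.Surjective π ∧
      RingHom.ker π.toRingHom = Ideal.span (Set.range F) :=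
    ⟨MvPolynomial (Fin n) A ⧸ Ideal.span (Set.range F), inferInstance, inferInstance,
      Algebra.FinitePresentation.quotient (Submodule.fg_span (Set.finite_range F)), Ideal.Quotient.mkₐ A _,
      Ideal.Quotient.mkₐ_surjective A _, Ideal.Quotient.mkₐ_ker A _⟩
  let φ : C →ₐ[A] AdicCompletion I A := AlgHom.liftOfSurjective π hπ (MvPolynomial.aeval a) (by
    rw [hπk, Ideal.span_le]
    rintro _ ⟨j, rfl⟩
    exact ha j)
  obtain ⟨B, _, _, hB, g, h, hgh⟩ := indSmooth_of_isRegularHom hreg C hC φ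
  haveI := hB
  obtain ⟨τ, hτ⟩ : ∃ τ : B →ₐ[A] A, ∀ x, Ideal.Quotient.mk (I ^ c) (τ x) = AdicCompletion.evalₐ I c (h x) := by
    rcases Nat.eq_zero_or_pos c with rfl | hc
    · haveI : Subsingleton (A ⧸ I ^ 0) :=
        Ideal.Quotient.subsingleton_iff.2 (by rw [pow_zero, Ideal.one_eq_top])
      obtain ⟨τ, -⟩ := Groth.Agent.Hensel.exists_smooth_lift (I := I) B
        ((AlgHom.comp (Ideal.Quotient.factorₐ A (le_of_eq (pow_one I))) ((AdicCompletion.evalₐ I 1).comp h)))
      exact ⟨τ, fun x => Subsingleton.elim _ _⟩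
    · haveI : HenselianRing A (I ^ c) := Groth.Agent.Hensel.henselianRing_mono (Ideal.pow_le_self (by omega) : I ^ c ≤ I)
      exact Groth.Agent.Hensel.exists_smooth_lift (I := I ^ c) B ((AdicCompletion.evalₐ I c).comp h)
  refine ⟨fun i => τ (g (π (MvPolynomial.X i))), fun j => ?_, fun i => ?_⟩
  · have h1 : (τ.comp g).comp π = MvPolynomial.aeval fun i => τ (g (π (MvPolynomial.X i))) :=
      MvPolynomial.algHom_ext fun i => by simp
    have h2 := AlgHom.congr_fun h1 (F j)
    rw [← MvPolynomial.coe_aeval_eq_eval, RingHom.coe_coe, ← h2]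
    simp only [AlgHom.comp_apply]
    rw [show π (F j) = 0 from RingHom.mem_ker.1 (show F j ∈ RingHom.ker π.toRingHom from
      hπk ▸ Ideal.subset_span ⟨j, rfl⟩), map_zero, map_zero]
  · rw [hτ, show h (g (π (MvPolynomial.X i))) = φ (π (MvPolynomial.X i)) from AlgHom.congr_fun hgh _]
    simp [φ]

theorem approx_sub_mem (A : Type u) [CommRing A] [IsNoetherianRing A] (I : Ideal A) [HenselianRing A I]
    (hreg : CAlg.IsRegularHom A (AdicCompletion I A)) {n m : ℕ} (F : Fin m → MvPolynomial (Fin n) A)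
    (a : Fin n → AdicCompletion I A)
    (ha : ∀ j, MvPolynomial.eval a (MvPolynomial.map (algebraMap A (AdicCompletion I A)) (F j)) = 0) (N : ℕ) :
    ∃ b : Fin n → A, (∀ j, MvPolynomial.eval b (F j) = 0) ∧
      ∀ i, a i - algebraMap A (AdicCompletion I A) (b i) ∈ (I ^ N).map (algebraMap A (AdicCompletion I A)) := by
  obtain ⟨b, hb, hba⟩ := approx_mod A I hreg F a (fun j => by
    rw [MvPolynomial.aeval_def, ← MvPolynomial.eval_map]; exact ha j) N
  refine ⟨b, hb, fun i => ?_⟩
  rw [Ideal.map_pow, ← Groth.Agent.FormalStalk.ker_evalₐ I (IsNoetherian.noetherian I) N, RingHom.mem_ker]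
  change AdicCompletion.evalₐ I N (a i - algebraMap A _ (b i)) = 0
  rw [map_sub, ← hba, AlgHom.commutes, Ideal.Quotient.algebraMap_eq, sub_self]

end Groth.Agent.Popescu
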