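import Groth.Agent.Popescu.LocalModel

/-!
A common étale neighbourhood of two points of algebras of finite type with isomorphic completions,
in algebraic form.
-/

set_option autoImplicit false
set_option linter.style.haveILetI false
set_option backward.isDefEq.respectTransparency false

universe u

open IsLocalRing TensorProduct

namespace Groth.Agent.Popescu

set_option maxHeartbeats 1000000 in
/-- Two algebras of finite type with isomorphic completed local rings have a common étale neighbourhood
with trivial residue extensions. -/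
theorem common_nbhd_alg (k : Type u) [CommRing k] [IsNoetherianRing k] (C : Type u) [CommRing C] [Algebra k C]
    [Algebra.FiniteType k C] (p : Ideal C) [p.IsPrime] (O : Type u) [CommRing O] [IsLocalRing O]
    [Algebra k O] [Algebra C O] [IsScalarTower k C O] [IsLocalization.AtPrime O p] (hG : CAlg.IsGRing O) (D : Type u) [CommRing D] [Algebra k D] [Algebra.FiniteType k D]
    (q : Ideal D) [q.IsPrime] (A : Type u) [CommRing A] [IsLocalRing A] [Algebra D A] [IsLocalization.AtPrime A q]
    [Algebra k A] [IsScalarTower k D A]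
    (φ : AdicCompletion (maximalIdeal A) A ≃ₐ[k] AdicCompletion (maximalIdeal O) O) :
    ∃ (W : Type u) (_ : CommRing W) (_ : Algebra C W) (_ : Algebra.Etale C W) (β : D →+* W) (w : Ideal W),
      β.Etale ∧ (∀ c : k, β (algebraMap k D c) = algebraMap C W (algebraMap k C c)) ∧ w.IsPrime ∧
      w.comap (algebraMap C W) = p ∧ w.comap β = q ∧
      (∀ z : W, ∃ c s : C, s ∉ p ∧ algebraMap C W s * z - algebraMap C W c ∈ w) ∧
      ∀ z : W, ∃ c s : D, s ∉ q ∧ β s * z - β c ∈ w := by
  haveI := hG.1
  haveI : IsNoetherianRing C := Algebra.FiniteType.isNoetherianRing k C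
  haveI : IsNoetherianRing D := Algebra.FiniteType.isNoetherianRing k D
  haveI : IsNoetherianRing A := IsLocalization.isNoetherianRing q.primeCompl A inferInstance
  haveI : Algebra.FinitePresentation k D := Algebra.FinitePresentation.of_finiteType.1 inferInstance
  let φD : D →ₐ[k] AdicCompletion (maximalIdeal O) O :=
    φ.toAlgHom.comp (IsScalarTower.toAlgHom k D (AdicCompletion (maximalIdeal A) A))
  obtain ⟨R', iR, iA, hR', β, p', hp'prime, hβk, hp', hpβ, hloc⟩ := approx_local (L := O) p hG φD 1
  suffices key : ∀ (M : Type u) [CommRing M] [Algebra R' M] [IsLocalization.AtPrime M p'] [IsLocalRing M],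
      ∃ (W : Type u) (_ : CommRing W) (_ : Algebra C W) (_ : Algebra.Etale C W) (β : D →+* W) (w : Ideal W),
        β.Etale ∧ (∀ c : k, β (algebraMap k D c) = algebraMap C W (algebraMap k C c)) ∧ w.IsPrime ∧
        w.comap (algebraMap C W) = p ∧ w.comap β = q ∧
        (∀ z : W, ∃ c s : C, s ∉ p ∧ algebraMap C W s * z - algebraMap C W c ∈ w) ∧
        ∀ z : W, ∃ c s : D, s ∉ q ∧ β s * z - β c ∈ w from key (Localization.AtPrime p')
  intro M _ _ _ _
  haveI : IsNoetherianRing R' := Algebra.FiniteType.isNoetherianRing C R'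
  haveI : IsNoetherianRing M := IsLocalization.isNoetherianRing p'.primeCompl M inferInstance
  obtain ⟨hres₀, χ, hker, hχC, hχB⟩ := hloc M
  let ec : O →+* M := IsLocalization.lift (M := p.primeCompl) (g := (algebraMap R' M).comp (algebraMap C R'))
    fun y => IsLocalization.map_units M (⟨algebraMap C R' y.1, fun h => y.2 (hp'.le h)⟩ : p'.primeCompl)
  have hec : ∀ c, ec (algebraMap C O c) = algebraMap R' M (algebraMap C R' c) := fun c => IsLocalization.lift_eq _ c
  haveI := isLocalRing_quotient_pow (A := O) 1
  have heval : ∀ z, IsUnit (AdicCompletion.evalₐ (maximalIdeal O) (1 + 1) z) → IsUnit z := fun z hz => by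
    refine notMem_maximalIdeal.1 fun h => ?_
    rw [AdicCompletion.maximalIdeal_eq_map] at h
    have h1 := Ideal.mem_map_of_mem (AdicCompletion.evalₐ (maximalIdeal O) (1 + 1)).toRingHom h
    rw [Ideal.map_map, show (AdicCompletion.evalₐ (maximalIdeal O) (1 + 1)).toRingHom.comp (algebraMap _ _) =
      Ideal.Quotient.mk (maximalIdeal O ^ (1 + 1)) from RingHom.ext (AdicCompletion.evalₐ _ _).commutes] at h1
    haveI : IsLocalHom (Ideal.Quotient.mk (maximalIdeal O ^ (1 + 1))) :=
      IsLocalHom.of_surjective _ Ideal.Quotient.mk_surjective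
    exact (mem_maximalIdeal _).1 ((Ideal.map_le_iff_le_comap.2 fun m hm => map_nonunit _ m hm :
      (maximalIdeal O).map (Ideal.Quotient.mk (maximalIdeal O ^ (1 + 1))) ≤ maximalIdeal _) h1) hz
  haveI := AdicCompletion.algebraMap_isLocalHom_of_fg (R := A) (IsNoetherian.noetherian _)
  have hβunit : ∀ y : q.primeCompl, IsUnit (algebraMap R' M (β y.1)) := fun y => by
    refine IsLocalization.map_units M (⟨β y.1, fun h => (hpβ y.1).1 h ?_⟩ : p'.primeCompl)
    refine (IsUnit.map φ ?_).map _
    change IsUnit (algebraMap D (AdicCompletion (maximalIdeal A) A) y.1)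
    rw [IsScalarTower.algebraMap_apply D A (AdicCompletion (maximalIdeal A) A)]
    exact (IsLocalization.map_units A y).map _
  let ef : A →+* M := IsLocalization.lift (M := q.primeCompl) (g := (algebraMap R' M).comp β) hβunit
  have hef : ∀ d, ef (algebraMap D A d) = algebraMap R' M (β d) := fun d => IsLocalization.lift_eq _ d
  have hχef : ∀ a, χ (ef a) = AdicCompletion.evalₐ (maximalIdeal O) (1 + 1) (φ (algebraMap A _ a)) := fun a =>
    RingHom.congr_fun (IsLocalization.ringHom_ext q.primeCompl (RingHom.ext fun d => by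
      simp only [RingHom.comp_apply]
      rw [hef, hχB]
      rfl) : χ.comp ef = ((AdicCompletion.evalₐ (maximalIdeal O) (1 + 1)).toRingHom.comp φ.toRingEquiv.toRingHom).comp
        (algebraMap A _)) a
  have hχec : ∀ c, χ (ec c) = Ideal.Quotient.mk _ c := fun c =>
    RingHom.congr_fun (IsLocalization.ringHom_ext p.primeCompl (RingHom.ext fun c => by
      rw [RingHom.comp_apply, RingHom.comp_apply, hec, hχC]; rfl) : χ.comp ec = Ideal.Quotient.mk _) c
  haveI hefloc : IsLocalHom ef := ⟨fun a ha => by
    have h1 := ha.map χ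
    rw [hχef] at h1
    have h2 : IsUnit (algebraMap A (AdicCompletion (maximalIdeal A) A) a) := by
      simpa using (heval _ h1).map φ.symm
    exact h2.of_map⟩
  haveI : IsLocalHom (Ideal.Quotient.mk (maximalIdeal O ^ (1 + 1))) :=
    IsLocalHom.of_surjective _ Ideal.Quotient.mk_surjective
  haveI hecloc : IsLocalHom ec := ⟨fun c hc => by
    have h1 := hc.map χ
    rw [hχec] at h1
    exact h1.of_map⟩
  have hres : ∀ z, ∃ l, z - ec l ∈ maximalIdeal M := fun z => by
    obtain ⟨c, s, hs, hcs⟩ := hres₀ z
    refine ⟨IsLocalization.mk' O c (⟨s, hs⟩ : p.primeCompl), ?_⟩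
    have hu : IsUnit (algebraMap R' M (algebraMap C R' s)) :=
      IsLocalization.map_units M (⟨algebraMap C R' s, fun h => hs (hp'.le h)⟩ : p'.primeCompl)
    refine (Ideal.unit_mul_mem_iff_mem _ hu).1 ?_
    rw [mul_sub, ← hec, ← map_mul, IsLocalization.mk'_spec' O c (⟨s, hs⟩ : p.primeCompl), hec, hec]
    exact hcs
  letI : Algebra C M := ((algebraMap R' M).comp (algebraMap C R')).toAlgebra
  haveI : IsScalarTower C R' M := IsScalarTower.of_algebraMap_eq' rfl
  letI : Algebra O M := ec.toAlgebra
  haveI : IsLocalHom (algebraMap O M) := hecloc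
  haveI : IsScalarTower C O M := IsScalarTower.of_algebraMap_eq fun c => (hec c).symm
  haveI hflat : Module.Flat O M := by
    haveI : Module.Flat R' M := IsLocalization.flat M p'.primeCompl
    haveI : Module.Flat C M := Module.Flat.trans C R' M
    exact (Module.flat_iff_of_isLocalization O p.primeCompl M).2 inferInstance
  have hmax : (maximalIdeal O).map ec = maximalIdeal M := by
    haveI : Algebra.FormallyEtale R' M := Algebra.FormallyEtale.of_isLocalization p'.primeCompl
    haveI : Algebra.FormallyUnramified C M := Algebra.FormallyUnramified.comp C R' M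
    haveI : Algebra.FormallyUnramified O M := Algebra.FormallyUnramified.of_restrictScalars C O M
    haveI : Algebra.EssFiniteType R' M := Algebra.EssFiniteType.of_isLocalization M p'.primeCompl
    haveI : Algebra.EssFiniteType C M := Algebra.EssFiniteType.comp C R' M
    haveI : Algebra.EssFiniteType O M := Algebra.EssFiniteType.of_comp C O M
    exact Algebra.FormallyUnramified.map_maximalIdeal
  obtain ⟨hfl, hfm, hfr⟩ := flat_unramified_of_approx φ.toRingEquiv ef ec hflat hmax hres (1 + 1) le_rfl
    fun a c hac => hker _ (by rw [map_sub, hχef, hχec, ← hac, sub_eq_zero]; rfl)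
  letI : Algebra D R' := β.toAlgebra
  letI : Algebra D M := ((algebraMap R' M).comp β).toAlgebra
  haveI : IsScalarTower D R' M := IsScalarTower.of_algebraMap_eq' rfl
  letI : Algebra A M := ef.toAlgebra
  haveI : IsScalarTower D A M := IsScalarTower.of_algebraMap_eq fun d => (hef d).symm
  haveI : IsLocalHom (algebraMap A M) := hefloc
  haveI : Module.Flat A M := hfl
  letI : Algebra k R' := ((algebraMap C R').comp (algebraMap k C)).toAlgebra
  haveI : IsScalarTower k C R' := IsScalarTower.of_algebraMap_eq' rfl
  haveI : IsScalarTower k D R' := IsScalarTower.of_algebraMap_eq fun c => (hβk c).symm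
  haveI : Algebra.FiniteType k R' := Algebra.FiniteType.trans (inferInstance : Algebra.FiniteType k C) inferInstance
  haveI : Algebra.FiniteType D R' := Algebra.FiniteType.of_restrictScalars_finiteType k D R'
  haveI : Algebra.FinitePresentation D R' := Algebra.FinitePresentation.of_finiteType.1 inferInstance
  haveI : p'.LiesOver q := ⟨by
    ext d
    rw [Ideal.under_def, Ideal.mem_comap, ← IsLocalization.AtPrime.to_map_mem_maximal_iff M p',
      ← IsLocalization.AtPrime.to_map_mem_maximal_iff A q d, ← IsScalarTower.algebraMap_apply,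
      IsScalarTower.algebraMap_apply D A M, mem_maximalIdeal, mem_maximalIdeal,
      mem_nonunits_iff, mem_nonunits_iff]
    exact not_congr ⟨fun h => h.map _, fun h => h.of_map⟩⟩
  haveI : p'.LiesOver p := ⟨hp'.symm⟩
  haveI : Algebra.EssFiniteType R' M := Algebra.EssFiniteType.of_isLocalization M p'.primeCompl
  haveI : Algebra.EssFiniteType D M := Algebra.EssFiniteType.comp D R' M
  haveI : Algebra.EssFiniteType A M := Algebra.EssFiniteType.of_comp D A M
  haveI : Algebra.FormallyUnramified A M := by
    haveI : Algebra.IsSeparable (ResidueField A) (ResidueField M) := ⟨fun r => by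
      obtain ⟨z, rfl⟩ := residue_surjective r
      obtain ⟨a, ha⟩ := hfr z
      rw [show residue M z = algebraMap (ResidueField A) (ResidueField M) (residue A a) from Ideal.Quotient.eq.2 ha]
      exact isSeparable_algebraMap _⟩
    exact Algebra.FormallyUnramified.iff_map_maximalIdeal_eq.2 ⟨inferInstance, hfm⟩
  haveI := FieldPow.isEtaleAt_of_flat_unramified (R := D) (S := R') (R' := A) (S' := M) q p'
  obtain ⟨g, hg, het⟩ := Algebra.exists_etale_of_isEtaleAt (R := D) p'
  let W := Localization.Away g
  haveI : Algebra.Etale R' W := Algebra.Etale.of_isLocalizationAway g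
  haveI : Algebra.Etale C W := Algebra.Etale.comp C R' W
  let π : W →+* M := IsLocalization.lift (M := Submonoid.powers g) (g := algebraMap R' M) fun y => by
    obtain ⟨i, hi⟩ := y.2
    rw [← hi, map_pow]
    exact (IsLocalization.map_units M (⟨g, hg⟩ : p'.primeCompl)).pow i
  have hπ : ∀ x, π (algebraMap R' W x) = algebraMap R' M x := fun x => IsLocalization.lift_eq _ x
  have hπC : ∀ c, π (algebraMap C W c) = ec (algebraMap C O c) := fun c => by
    rw [IsScalarTower.algebraMap_apply C R' W, hπ, hec]
  have hπD : ∀ d, π ((algebraMap R' W).comp β d) = ef (algebraMap D A d) := fun d => by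
    rw [RingHom.comp_apply, hπ, hef]
  refine ⟨W, inferInstance, inferInstance, inferInstance, (algebraMap R' W).comp β,
    (maximalIdeal M).comap π, ?_, fun c => ?_, inferInstance, ?_, ?_, fun z => ?_, fun z => ?_⟩
  · exact RingHom.etale_algebraMap.mpr het
  · rw [RingHom.comp_apply, hβk, ← IsScalarTower.algebraMap_apply]
  · ext c
    rw [Ideal.mem_comap, Ideal.mem_comap, hπC, ← IsLocalization.AtPrime.to_map_mem_maximal_iff O p c,
      mem_maximalIdeal, mem_maximalIdeal, mem_nonunits_iff, mem_nonunits_iff]
    exact not_congr ⟨fun h => h.of_map, fun h => h.map _⟩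
  · ext d
    rw [Ideal.mem_comap, Ideal.mem_comap, hπD, ← IsLocalization.AtPrime.to_map_mem_maximal_iff A q d,
      mem_maximalIdeal, mem_maximalIdeal, mem_nonunits_iff, mem_nonunits_iff]
    exact not_congr ⟨fun h => h.of_map, fun h => h.map _⟩
  · obtain ⟨l, hl⟩ := hres (π z)
    obtain ⟨c, s, rfl⟩ := IsLocalization.exists_mk'_eq p.primeCompl l
    refine ⟨c, s, s.2, ?_⟩
    rw [Ideal.mem_comap, map_sub, map_mul, hπC, hπC, ← IsLocalization.mk'_spec' O c s, map_mul, ← mul_sub]
    exact Ideal.mul_mem_left _ _ hl
  · obtain ⟨l, hl⟩ := hfr (π z)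
    obtain ⟨c, s, rfl⟩ := IsLocalization.exists_mk'_eq q.primeCompl l
    refine ⟨c, s, s.2, ?_⟩
    rw [Ideal.mem_comap, map_sub, map_mul, hπD, hπD, ← IsLocalization.mk'_spec' A c s, map_mul, ← mul_sub]
    exact Ideal.mul_mem_left _ _ hl

end Groth.Agent.Popescu
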