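import Mathlib
import Groth.Agent.Popescu.Approx

/-!
Functors preserving filtered colimits on algebras over henselian pairs with regular completion.
-/

set_option autoImplicit false
set_option linter.style.haveILetI false

universe u

open CategoryTheory

namespace Groth.Agent.Popescu

/-- Values of functors preserving filtered colimits come from finitely generated subalgebras, and are
equal there if equal in the algebra. -/
theorem fg_stages {A : Type u} [CommRing A] (F : CommAlgCat.{u} A ⥤ Type u)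
    [Limits.PreservesFilteredColimitsOfSize.{u, u} F] (R : Type u) [CommRing R] [Algebra A R] :
    (∀ ξ : F.obj (CommAlgCat.of A R), ∃ S : Subalgebra A R, S.FG ∧ ∃ ξ' : F.obj (CommAlgCat.of A S),
      F.map (CommAlgCat.ofHom S.val) ξ' = ξ) ∧
    ∀ (S₀ : Subalgebra A R), S₀.FG → ∀ ξ η : F.obj (CommAlgCat.of A S₀),
      F.map (CommAlgCat.ofHom S₀.val) ξ = F.map (CommAlgCat.ofHom S₀.val) η →
        ∃ (S : Subalgebra A R) (h : S₀ ≤ S), S.FG ∧ F.map (CommAlgCat.ofHom (Subalgebra.inclusion h)) ξ =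
          F.map (CommAlgCat.ofHom (Subalgebra.inclusion h)) η := by
  let J := {S : Subalgebra A R // S.FG}
  have : IsDirectedOrder J := ⟨fun a b => ⟨⟨a.1 ⊔ b.1, a.2.sup b.2⟩, (le_sup_left : a.1 ≤ a.1 ⊔ b.1), (le_sup_right : b.1 ≤ a.1 ⊔ b.1)⟩⟩
  have : Nonempty J := ⟨⟨⊥, Subalgebra.fg_bot⟩⟩
  let D : J ⥤ CommAlgCat.{u} A :=
    { obj := fun S => CommAlgCat.of A S.1
      map := fun φ => CommAlgCat.ofHom (Subalgebra.inclusion (leOfHom φ))
      map_id := fun _ => CommAlgCat.hom_ext (AlgHom.ext fun _ => rfl)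
      map_comp := fun _ _ => CommAlgCat.hom_ext (AlgHom.ext fun _ => rfl) }
  let c : Limits.Cocone D :=
    { pt := CommAlgCat.of A R
      ι := { app := fun S => CommAlgCat.ofHom S.1.val
             naturality := fun _ _ _ => CommAlgCat.hom_ext (AlgHom.ext fun _ => rfl) } }
  have hmem : ∀ x : R, (Algebra.adjoin A {x}).FG := fun x => ⟨{x}, by simp⟩
  let pick : R → J := fun x => ⟨Algebra.adjoin A {x}, hmem x⟩
  have hw : ∀ (s : Limits.Cocone D) (a b : J) (h : a.1 ≤ b.1) (y : a.1),
      (s.ι.app b).hom (Subalgebra.inclusion h y) = (s.ι.app a).hom y := fun s a b h y => by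
    have := congrArg (fun q => q.hom y) (s.w (homOfLE (show a ≤ b from h)))
    exact this
  let val : ∀ (s : Limits.Cocone D), R → s.pt := fun s x =>
    (s.ι.app (pick x)).hom ⟨x, Algebra.subset_adjoin rfl⟩
  have hval : ∀ (s : Limits.Cocone D) (a : J) (x : R) (hx : x ∈ a.1), (s.ι.app a).hom ⟨x, hx⟩ = val s x :=
    fun s a x hx => by
      have h := hw s (pick x) a (Algebra.adjoin_le (Set.singleton_subset_iff.2 hx)) ⟨x, Algebra.subset_adjoin rfl⟩
      exact h
  let desc : ∀ s : Limits.Cocone D, R →ₐ[A] s.pt := fun s =>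
    { toFun := val s
      map_one' := (hval s (pick 1) 1 (one_mem _)).symm.trans (map_one _)
      map_zero' := (hval s (pick 0) 0 (zero_mem _)).symm.trans (map_zero _)
      map_mul' := fun x y => by
        let a : J := ⟨Algebra.adjoin A {x} ⊔ Algebra.adjoin A {y}, (hmem x).sup (hmem y)⟩
        have hx : x ∈ a.1 := le_sup_left (b := Algebra.adjoin A {y}) (Algebra.subset_adjoin rfl)
        have hy : y ∈ a.1 := le_sup_right (a := Algebra.adjoin A {x}) (Algebra.subset_adjoin rfl)
        rw [← hval s a _ (mul_mem hx hy), ← hval s a x hx, ← hval s a y hy]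
        exact map_mul (s.ι.app a).hom ⟨x, hx⟩ ⟨y, hy⟩
      map_add' := fun x y => by
        let a : J := ⟨Algebra.adjoin A {x} ⊔ Algebra.adjoin A {y}, (hmem x).sup (hmem y)⟩
        have hx : x ∈ a.1 := le_sup_left (b := Algebra.adjoin A {y}) (Algebra.subset_adjoin rfl)
        have hy : y ∈ a.1 := le_sup_right (a := Algebra.adjoin A {x}) (Algebra.subset_adjoin rfl)
        rw [← hval s a _ (add_mem hx hy), ← hval s a x hx, ← hval s a y hy]
        exact map_add (s.ι.app a).hom ⟨x, hx⟩ ⟨y, hy⟩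
      commutes' := fun r => (hval s (pick (algebraMap A R r)) _ (Subalgebra.algebraMap_mem _ r)).symm.trans
        ((s.ι.app _).hom.commutes r) }
  have hc : Limits.IsColimit c :=
    { desc := fun s => CommAlgCat.ofHom (desc s)
      fac := fun s a => CommAlgCat.hom_ext (AlgHom.ext fun y => (hval s a y.1 y.2).symm)
      uniq := fun s g hg => CommAlgCat.hom_ext (AlgHom.ext fun x => by
        have := congrArg (fun q => q.hom ⟨x, Algebra.subset_adjoin rfl⟩) (hg (pick x))
        exact this) }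
  haveI : IsFiltered J := isFiltered_of_directed_le_nonempty J
  refine ⟨fun ξ => ?_, fun S₀ hS₀ ξ η h => ?_⟩
  · obtain ⟨S, ξ', hξ⟩ := Limits.Types.jointly_surjective _ (Limits.isColimitOfPreserves F hc) ξ
    exact ⟨S.1, S.2, ξ', hξ⟩
  · obtain ⟨S, f, g, hfg⟩ := (Limits.Types.FilteredColimit.isColimit_eq_iff (D ⋙ F)
      (Limits.isColimitOfPreserves F hc) (i := ⟨S₀, hS₀⟩) (j := ⟨S₀, hS₀⟩) (xi := ξ) (xj := η)).1 h
    exact ⟨S.1, leOfHom f, S.2, hfg⟩

/-- Finitely generated subalgebras of the completion have points close to the inclusion. -/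
theorem exists_fg_point {A : Type u} [CommRing A] [IsNoetherianRing A] (I : Ideal A) [HenselianRing A I]
    (hreg : CAlg.IsRegularHom A (AdicCompletion I A)) (S : Subalgebra A (AdicCompletion I A)) (hS : S.FG) :
    ∃ ρ : S →ₐ[A] A, ∀ x : S, Ideal.Quotient.mk I (ρ x) = AdicCompletion.evalOneₐ I (x : AdicCompletion I A) := by
  classical
  haveI : Algebra.FiniteType A S := Algebra.FiniteType.mk (S.fg_top.2 hS)
  obtain ⟨n, π, hπ, hker⟩ := (Algebra.FinitePresentation.of_finiteType.1
    (inferInstance : Algebra.FiniteType A S)).out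
  obtain ⟨s, hs⟩ := hker
  obtain ⟨b, hb, hba⟩ := approx_mod A I hreg (fun j => (s.equivFin.symm j).1)
    (fun i => ((π (MvPolynomial.X i) : S) : AdicCompletion I A)) (fun j => by
      have h1 : MvPolynomial.aeval (fun i => ((π (MvPolynomial.X i) : S) : AdicCompletion I A)) = S.val.comp π :=
        MvPolynomial.algHom_ext fun i => by simp
      rw [h1, AlgHom.comp_apply,
        show π (s.equivFin.symm j).1 = 0 from RingHom.mem_ker.1
          (show (s.equivFin.symm j).1 ∈ RingHom.ker π.toRingHom from hs ▸ Ideal.subset_span (s.equivFin.symm j).2),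
        map_zero]) 1
  let ρ : S →ₐ[A] A := AlgHom.liftOfSurjective π hπ (MvPolynomial.aeval b) (by
    rw [← hs, Ideal.span_le]
    intro q hq
    have := hb (s.equivFin ⟨q, hq⟩)
    rw [Equiv.symm_apply_apply] at this
    rw [SetLike.mem_coe, RingHom.mem_ker]
    change MvPolynomial.aeval b q = 0
    rw [MvPolynomial.aeval_eq_eval]
    exact this)
  have hρ : (Ideal.Quotient.mkₐ A I).comp (ρ.comp π) = ((AdicCompletion.evalOneₐ I).comp S.val).comp π :=
    MvPolynomial.algHom_ext fun i => by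
      simp only [AlgHom.comp_apply, ρ, AlgHom.liftOfSurjective_apply, MvPolynomial.aeval_X]
      have h1 := congrArg (Ideal.Quotient.factor (le_of_eq (pow_one I))) (hba i)
      rw [Ideal.Quotient.factor_mk] at h1
      exact h1
  refine ⟨ρ, fun x => ?_⟩
  obtain ⟨q, rfl⟩ := hπ x
  exact AlgHom.congr_fun hρ q

theorem injective_and_lifts {A : Type u} [CommRing A] [IsNoetherianRing A] (I : Ideal A) [HenselianRing A I]
    (hreg : CAlg.IsRegularHom A (AdicCompletion I A)) (F : CommAlgCat.{u} A ⥤ Type u)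
    [Limits.PreservesFilteredColimitsOfSize.{u, u} F] :
    Function.Injective (F.map (CommAlgCat.ofHom (Algebra.ofId A (AdicCompletion I A)))) ∧
      ∀ xbar : F.obj (CommAlgCat.of A (A ⧸ I)),
        (∃ x : F.obj (CommAlgCat.of A A), F.map (CommAlgCat.ofHom (Ideal.Quotient.mkₐ A I)) x = xbar) ↔
          (∃ y : F.obj (CommAlgCat.of A (AdicCompletion I A)),
            F.map (CommAlgCat.ofHom (AdicCompletion.evalOneₐ I)) y = xbar) := by
  have hmap : ∀ {P Q T : Type u} [CommRing P] [CommRing Q] [CommRing T] [Algebra A P] [Algebra A Q] [Algebra A T]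
      (f : P →ₐ[A] Q) (g : Q →ₐ[A] T) (x : F.obj (CommAlgCat.of A P)),
      F.map (CommAlgCat.ofHom g) (F.map (CommAlgCat.ofHom f) x) = F.map (CommAlgCat.ofHom (g.comp f)) x :=
    fun f g x => (ConcreteCategory.congr_hom (F.map_comp (CommAlgCat.ofHom f) (CommAlgCat.ofHom g)) x).symm
  refine ⟨fun x y hxy => ?_, fun xbar => ⟨?_, ?_⟩⟩
  · obtain ⟨S, hle, hS, heq⟩ := (fg_stages F (AdicCompletion I A)).2 ⊥ Subalgebra.fg_bot
      (F.map (CommAlgCat.ofHom (Algebra.ofId A _)) x) (F.map (CommAlgCat.ofHom (Algebra.ofId A _)) y) (by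
        rw [hmap, hmap]
        rw [Subsingleton.elim ((⊥ : Subalgebra A (AdicCompletion I A)).val.comp (Algebra.ofId A _))
          (Algebra.ofId A (AdicCompletion I A))]
        exact hxy)
    obtain ⟨ρ, -⟩ := exists_fg_point I hreg S hS
    have := congrArg (F.map (CommAlgCat.ofHom ρ)) heq
    rw [hmap, hmap, hmap, hmap, Subsingleton.elim ((ρ.comp (Subalgebra.inclusion hle)).comp (Algebra.ofId A _))
      (AlgHom.id A A)] at this
    have hid : CommAlgCat.ofHom (AlgHom.id A A) = 𝟙 (CommAlgCat.of A A) := rfl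
    rwa [hid, F.map_id] at this
  · rintro ⟨x, rfl⟩
    refine ⟨F.map (CommAlgCat.ofHom (Algebra.ofId A _)) x, ?_⟩
    rw [hmap, Subsingleton.elim ((AdicCompletion.evalOneₐ I).comp (Algebra.ofId A _)) (Ideal.Quotient.mkₐ A I)]
  · rintro ⟨y, rfl⟩
    obtain ⟨S, hS, z, rfl⟩ := (fg_stages F (AdicCompletion I A)).1 y
    obtain ⟨ρ, hρ⟩ := exists_fg_point I hreg S hS
    refine ⟨F.map (CommAlgCat.ofHom ρ) z, ?_⟩
    rw [hmap, hmap, show (Ideal.Quotient.mkₐ A I).comp ρ = (AdicCompletion.evalOneₐ I).comp S.val from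
      AlgHom.ext hρ]

end Groth.Agent.Popescu
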