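import Mathlib
import Groth.Agent.Popescu.LocalModel
import Groth.Agent.Morse.Ordinary

/-!
Henselizations at ordinary quadratic singularities.
-/

set_option autoImplicit false
set_option linter.style.haveILetI false
set_option backward.isDefEq.respectTransparency false

universe u

open IsLocalRing

namespace Groth.Agent.Popescu

theorem idealOfVars_isMaximal (σ : Type*) (k : Type u) [Field k] : (MvPolynomial.idealOfVars σ k).IsMaximal := by
  have h : MvPolynomial.idealOfVars σ k = RingHom.ker (MvPolynomial.constantCoeff (σ := σ) (R := k)) := by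
    ext p
    rw [← pow_one (MvPolynomial.idealOfVars σ k), MvPolynomial.mem_pow_idealOfVars_iff', RingHom.mem_ker]
    refine ⟨fun h => h 0 (by simp), fun h e he => ?_⟩
    obtain rfl : e = 0 := (Finsupp.degree_eq_zero_iff e).1 (by omega)
    exact h
  rw [h]
  exact RingHom.ker_isMaximal_of_surjective _ fun c => ⟨MvPolynomial.C c, MvPolynomial.constantCoeff_C _ c⟩

theorem originIdeal_eq (k : Type u) [Field k] (N : ℕ) :
    (VanCyc.originIdeal k : Ideal (MvPolynomial (Fin N) k)) = MvPolynomial.idealOfVars (Fin N) k := by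
  rw [VanCyc.originIdeal, IsLocalRing.isField_iff_maximalIdeal_eq.1 (Field.toIsField k), Ideal.map_bot, bot_sup_eq]

theorem completion_quotient_equiv (k : Type u) [Field k] {N : ℕ} (I : Ideal (MvPolynomial (Fin N) k))
    (hI : I = MvPolynomial.idealOfVars (Fin N) k) (Q : MvPolynomial (Fin N) k) :
    Nonempty ((MvPowerSeries (Fin N) k ⧸ Ideal.span {((Q : MvPolynomial (Fin N) k) : MvPowerSeries (Fin N) k)}) ≃ₐ[k]
      (AdicCompletion I (MvPolynomial (Fin N) k) ⧸
        (Ideal.span {Q}).map (algebraMap (MvPolynomial (Fin N) k) (AdicCompletion I (MvPolynomial (Fin N) k))))) := by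
  subst hI
  refine ⟨Ideal.quotientEquivAlg _ _ ((MvPowerSeries.toAdicCompletionAlgEquiv (Fin N) k).restrictScalars k) ?_⟩
  rw [Ideal.map_span, Ideal.map_span, Set.image_singleton, Set.image_singleton]
  congr 2
  exact (MvPowerSeries.toAdicCompletion_coe Q).symm

/-- The henselization at an ordinary quadratic singularity is that of a quadratic cone. -/
theorem exists_cone (k : Type u) [Field k] [IsAlgClosed k] (O : Type u) [CommRing O] [IsLocalRing O] [Algebra k O]
    [Algebra.EssFiniteType k O] (n : ℕ) (hq : VanCyc.IsOrdQuadSing k O n)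
    (Oh : Type u) [CommRing Oh] [IsLocalRing Oh] [Algebra O Oh] [IsLocalHom (algebraMap O Oh)]
    [_root_.Hensel.IsHenselization O Oh] [Algebra k Oh] [IsScalarTower k O Oh] :
    ∃ a : Fin (n + 1) → Fin (n + 1) → k, VanCyc.QuadOrd a ∧
      ∀ [(VanCyc.originQuot k a 0).IsPrime] (C : Type u) [CommRing C] [IsLocalRing C]
        [Algebra (Localization.AtPrime (VanCyc.originQuot k a 0)) C]
        [IsLocalHom (algebraMap (Localization.AtPrime (VanCyc.originQuot k a 0)) C)]
        [_root_.Hensel.IsHenselization (Localization.AtPrime (VanCyc.originQuot k a 0)) C] [Algebra k C]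
        [IsScalarTower k (Localization.AtPrime (VanCyc.originQuot k a 0)) C], Nonempty (Oh ≃ₐ[k] C) := by
  obtain ⟨f, hf, ⟨e⟩⟩ := hq
  obtain ⟨a, ha, ⟨e'⟩⟩ := Morse.exists_ord_normal_form f hf
  refine ⟨a, ha, ?_⟩
  intro hpr C _ _ _ _ _ _ _
  let P := MvPolynomial (Fin (n + 1)) k
  let J : Ideal P := Ideal.span {VanCyc.quadPoly a - MvPolynomial.C 0}
  haveI : (VanCyc.originIdeal k : Ideal P).IsMaximal := originIdeal_eq k (n + 1) ▸ idealOfVars_isMaximal _ k
  have hJ : J ≤ VanCyc.originIdeal k := by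
    rw [Ideal.span_le, Set.singleton_subset_iff, SetLike.mem_coe, map_zero, sub_zero, originIdeal_eq,
      VanCyc.quadPoly]
    refine Ideal.sum_mem _ fun i _ => Ideal.sum_mem _ fun j _ => ?_
    split_ifs
    · exact Ideal.mul_mem_left _ _ (Ideal.subset_span ⟨j, rfl⟩)
    · exact Ideal.zero_mem _
  haveI : ((VanCyc.originIdeal k : Ideal P).map (Ideal.Quotient.mk J)).IsPrime := hpr
  obtain ⟨E₁⟩ := completion_localization_quotient (k := k) (VanCyc.originIdeal k : Ideal P) J hJ
  obtain ⟨E₂⟩ := completion_quotient_equiv k (VanCyc.originIdeal k) (originIdeal_eq k (n + 1))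
    (VanCyc.quadPoly a - MvPolynomial.C 0)
  have hQ : (VanCyc.quadPoly a - MvPolynomial.C 0 : P) = VanCyc.quadPoly a := by rw [map_zero, sub_zero]
  let E₃ : (MvPowerSeries (Fin (n + 1)) k ⧸ Ideal.span
      {((VanCyc.quadPoly a : P) : MvPowerSeries (Fin (n + 1)) k)}) ≃ₐ[k] (MvPowerSeries (Fin (n + 1)) k ⧸ Ideal.span
      {((VanCyc.quadPoly a - MvPolynomial.C 0 : P) : MvPowerSeries (Fin (n + 1)) k)}) :=
    Ideal.quotientEquivAlgOfEq k (by rw [hQ])
  exact henselization_equiv_of_completion_equiv k O (VanCyc.quadRing k a 0) (VanCyc.originQuot k a 0)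
    (Localization.AtPrime (VanCyc.originQuot k a 0))
    ((E₁.trans (E₂.symm.trans E₃.symm)).trans (e'.symm.trans e.symm)) Oh C

end Groth.Agent.Popescu
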